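import Cfsg.Agent.H39.CharNilp
import Cfsg.Agent.H26.CharFS
import Cfsg.Agent.H26.CharLinear

/-!
# Feit–Thompson bound for abelian subgroups with disjoint centraliser conditions
-/

namespace Cfsg.Agent.H39

open scoped ComplexConjugate

variable {K : Type*} [Group K] [Fintype K]

open Classical in
/-- Sum of an irreducible character over a coset of a normal subgroup. -/
lemma sum_coset_eq (A : Subgroup K) [A.Normal] [Fintype A] (ψ : Cfsg.IrrCharacter K) (n : K) :
    ∑ a : A, ψ.1 (n * a) = if TrivOn A ψ then (Nat.card A : ℂ) * ψ.1 n else 0 := by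
  split_ifs with h
  · have : ∀ a : A, ψ.1 (n * a) = ψ.1 n := fun a => by
      rw [← H26.irr_conj ψ (n * a) a.1, show (a : K) * (n * a) * (a : K)⁻¹ = a * n by group]
      exact h.mul_apply a.2 n
    rw [Finset.sum_congr rfl fun a _ => this a, Finset.sum_const, Finset.card_univ,
      ← Nat.card_eq_fintype_card, nsmul_eq_mul]
  · obtain ⟨d, ρ, hρ, e⟩ := ψ.2
    haveI := hρ
    let P : Module.End ℂ (Fin d → ℂ) := ∑ a : A, ρ a
    have hcomm : ∀ g : K, P ∘ₗ ρ g = ρ g ∘ₗ P := fun g => by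
      simp only [P, ← Module.End.mul_eq_comp, Finset.sum_mul, Finset.mul_sum, ← map_mul]
      refine Fintype.sum_equiv (MulAut.conjNormal g⁻¹).toEquiv _ _ fun a => ?_
      simp [MulAut.conjNormal_apply, mul_assoc]
    have habs : ∀ a : A, ρ a * P = P := fun a => by
      simp only [P, Finset.mul_sum, ← map_mul]
      exact Fintype.sum_equiv (Equiv.mulLeft a) _ _ fun b => by simp
    have hP := H25.eq_smul_id_of_comm ρ P hcomm
    set c := LinearMap.trace ℂ _ P / (Module.finrank ℂ (Fin d → ℂ) : ℂ) with hc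
    have htr : ∑ a : A, ψ.1 (n * a) = LinearMap.trace ℂ _ (ρ n * P) := by
      simp only [P, Finset.mul_sum, map_sum, ← e, ← map_mul]
      rfl
    by_cases hc0 : c = 0
    · rw [htr, hP, hc0, zero_smul, mul_zero, map_zero]
    · refine absurd (fun a ha => ?_) h
      have h2 : ρ a ∘ₗ P = P := habs ⟨a, ha⟩
      rw [hP, LinearMap.comp_smul, LinearMap.comp_id] at h2
      have h3 := smul_right_injective (Module.End ℂ (Fin d → ℂ)) hc0 h2
      rw [← e, Representation.char_one, Representation.character, h3, LinearMap.trace_id]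

open Classical in
/-- Averaging a character over a normal subgroup outside of its kernel loses norm. -/
lemma sum_avg_sq_add_card_le (A : Subgroup K) [A.Normal] [Fintype A] {ξ : K → ℂ}
    (hξ : Cfsg.IsCharacter K ξ) (hne : ∃ a ∈ A, ξ a ≠ ξ 1) :
    ∑ n : K, ‖(Nat.card A : ℂ)⁻¹ * ∑ a : A, ξ (n * a)‖ ^ 2 + (Nat.card K : ℝ) ≤
      ∑ n : K, ‖ξ n‖ ^ 2 := by
  obtain ⟨m, hm, he⟩ := H26.exists_nat_coeffs hξ
  set τ : K → ℂ := fun n => (Nat.card A : ℂ)⁻¹ * ∑ a : A, ξ (n * a) with hτdef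
  have hA : (Nat.card A : ℂ) ≠ 0 := Nat.cast_ne_zero.2 Nat.card_pos.ne'
  have hτ : τ = ∑ ψ : Cfsg.IrrCharacter K,
      (if TrivOn A ψ then (m ψ : ℂ) else 0) • ψ.1 := by
    funext n
    simp only [τ, Finset.sum_apply, Pi.smul_apply, smul_eq_mul]
    simp only [he, Finset.sum_apply, Pi.smul_apply, smul_eq_mul]
    rw [Finset.sum_comm, Finset.mul_sum]
    refine Finset.sum_congr rfl fun ψ _ => ?_
    rw [← Finset.mul_sum, sum_coset_eq A ψ n]
    split_ifs
    · field_simp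
    · simp
  have hnorm : ∀ f : K → ℂ, ((∑ n : K, ‖f n‖ ^ 2 : ℝ) : ℂ) =
      (Nat.card K : ℂ) * Cfsg.classInner f f := by
    intro f
    rw [Cfsg.classInner, ← mul_assoc, mul_inv_cancel₀ (Nat.cast_ne_zero.2 Nat.card_pos.ne'),
      one_mul, Complex.ofReal_sum]
    exact Finset.sum_congr rfl fun n _ => by rw [Complex.mul_conj']; push_cast; rfl
  have hτcoef : ∀ ψ : Cfsg.IrrCharacter K,
      Cfsg.classInner τ ψ.1 = ((if TrivOn A ψ then m ψ else 0 : ℕ) : ℂ) := fun ψ => by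
    rw [hτ, H26.classInner_sum_smul_irr]
    split_ifs <;> simp
  have h1 : Cfsg.classInner τ τ =
      ((∑ ψ : Cfsg.IrrCharacter K, (if TrivOn A ψ then m ψ else 0) ^ 2 : ℕ) : ℂ) := by
    rw [H26.classInner_eq_sum τ τ (by rw [hτ]; exact H26.isClassFunction_sum_smul _)]
    simp only [hτcoef, map_natCast, Nat.cast_sum, Nat.cast_pow, Nat.cast_mul, sq]
  have h2 : Cfsg.classInner ξ ξ = ((∑ ψ : Cfsg.IrrCharacter K, m ψ ^ 2 : ℕ) : ℂ) := by
    rw [H26.classInner_eq_sum ξ ξ (H26.isClassFunction_of_isCharacter hξ)]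
    simp only [hm, map_natCast, Nat.cast_sum, Nat.cast_pow, Nat.cast_mul, sq]
  obtain ⟨ψ₀, hψ₀, hm₀⟩ : ∃ ψ : Cfsg.IrrCharacter K, ¬ TrivOn A ψ ∧ m ψ ≠ 0 := by
    by_contra hc
    push Not at hc
    obtain ⟨a, ha, hne⟩ := hne
    apply hne
    rw [he]
    simp only [Finset.sum_apply, Pi.smul_apply, smul_eq_mul]
    refine Finset.sum_congr rfl fun ψ _ => ?_
    by_cases ht : TrivOn A ψ
    · rw [ht a ha]
    · simp [hc ψ ht]
  have h3 : ∑ ψ : Cfsg.IrrCharacter K, (if TrivOn A ψ then m ψ else 0) ^ 2 + 1 ≤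
      ∑ ψ : Cfsg.IrrCharacter K, m ψ ^ 2 := by
    have hlt : ∑ ψ : Cfsg.IrrCharacter K, (if TrivOn A ψ then m ψ else 0) ^ 2 <
        ∑ ψ : Cfsg.IrrCharacter K, m ψ ^ 2 := by
      refine Finset.sum_lt_sum (fun ψ _ => ?_) ⟨ψ₀, Finset.mem_univ _, ?_⟩
      · split_ifs <;> simp
      · rw [if_neg hψ₀]
        simp [Nat.pos_of_ne_zero hm₀]
    omega
  have e1 : ∑ n : K, ‖τ n‖ ^ 2 = (Nat.card K : ℝ) *
      ((∑ ψ : Cfsg.IrrCharacter K, (if TrivOn A ψ then m ψ else 0) ^ 2 : ℕ) : ℝ) := by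
    apply Complex.ofReal_injective
    rw [hnorm, h1, Complex.ofReal_mul, Complex.ofReal_natCast, Complex.ofReal_natCast]
  have e2 : ∑ n : K, ‖ξ n‖ ^ 2 = (Nat.card K : ℝ) *
      ((∑ ψ : Cfsg.IrrCharacter K, m ψ ^ 2 : ℕ) : ℝ) := by
    apply Complex.ofReal_injective
    rw [hnorm, h2, Complex.ofReal_mul, Complex.ofReal_natCast, Complex.ofReal_natCast]
  show ∑ n : K, ‖τ n‖ ^ 2 + _ ≤ _
  rw [e1, e2, ← mul_add_one]
  refine mul_le_mul_of_nonneg_left ?_ (Nat.cast_nonneg _)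
  exact_mod_cast h3

variable {G : Type*} [Group G] [Fintype G]

/-- The centraliser condition. -/
def OneConj (H : Subgroup G) : Prop :=
  ∀ g : G, g ∉ Subgroup.center G → ∀ a b : G,
    Subgroup.centralizer ({g} : Set G) ⊓ H.map (MulAut.conj a).toMonoidHom ≠ ⊥ →
    Subgroup.centralizer ({g} : Set G) ⊓ H.map (MulAut.conj b).toMonoidHom ≠ ⊥ →
    H.map (MulAut.conj a).toMonoidHom = H.map (MulAut.conj b).toMonoidHom

omit [Fintype G] in
lemma OneConj.mem_normalizer [Finite G] {H : Subgroup G} (hone : OneConj H) {g x : G}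
    (hg : g ∉ Subgroup.center G) {a b : G} (ha : a ∈ H) (ha1 : a ≠ 1) (hb : b ∈ H) (hb1 : b ≠ 1)
    (hga : Commute g a) (hgb : Commute g (x * b * x⁻¹)) :
    x ∈ Subgroup.normalizer (H : Set G) := by
  have h := hone g hg 1 x
    (fun h0 => ha1 (by
      have : a ∈ Subgroup.centralizer ({g} : Set G) ⊓ H.map (MulAut.conj (1 : G)).toMonoidHom :=
        ⟨Subgroup.mem_centralizer_singleton_iff.2 hga.symm.eq, ⟨a, ha, by simp⟩⟩
      rwa [h0, Subgroup.mem_bot] at this))
    (fun h0 => hb1 (by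
      have : x * b * x⁻¹ ∈
          Subgroup.centralizer ({g} : Set G) ⊓ H.map (MulAut.conj x).toMonoidHom :=
        ⟨Subgroup.mem_centralizer_singleton_iff.2 hgb.symm.eq, ⟨b, hb, rfl⟩⟩
      rwa [h0, Subgroup.mem_bot, conj_eq_one_iff] at this))
  rw [show H.map (MulAut.conj (1 : G)).toMonoidHom = H by ext; simp] at h
  rw [Subgroup.mem_normalizer_iff]
  intro y
  constructor
  · intro hy
    rw [h]
    exact ⟨y, hy, rfl⟩
  · intro hy
    rw [h] at hy
    obtain ⟨z, hz, e⟩ := hy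
    rwa [← (MulAut.conj x).injective e]

omit [Fintype G] in
/-- Translation by a central element multiplies a character by a scalar of absolute value one. -/
lemma exists_central_scalar [Finite G] (χ : Cfsg.IrrCharacter G) {z : G}
    (hz : z ∈ Subgroup.center G) : ∃ w : ℂ, ‖w‖ = 1 ∧ ∀ y : G, χ.1 (y * z) = w * χ.1 y := by
  have hd := degOf_spec χ
  obtain ⟨d, ρ, hρ, e⟩ := id χ.2
  haveI := hρ
  rw [← e, Representation.char_one, Nat.cast_inj] at hd
  have hc : ∀ g, ρ z ∘ₗ ρ g = ρ g ∘ₗ ρ z := fun g => by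
    simp only [← Module.End.mul_eq_comp, ← map_mul, Subgroup.mem_center_iff.1 hz g]
  have hs := H25.eq_smul_id_of_comm ρ (ρ z) hc
  refine ⟨LinearMap.trace ℂ (Fin d → ℂ) (ρ z) / (Module.finrank ℂ (Fin d → ℂ) : ℂ), ?_, fun y => ?_⟩
  · have h1 := H25.norm_char_eq_of_scalar ρ z _ hs
    rw [norm_div, Complex.norm_natCast]
    rw [Representation.character] at h1
    rw [h1, div_self (Nat.cast_ne_zero.2 (hd ▸ (degOf_pos χ).ne'))]
  · simp only [← e, Representation.character, map_mul]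
    conv_lhs => rw [hs, mul_smul_comm, map_smul, smul_eq_mul, ← Module.End.one_eq_id, mul_one]

variable (H : Subgroup G)

open Classical in
/-- The elements of `N(H)` with a fixed point on `H`. -/
noncomputable def fixers : Finset (Subgroup.normalizer (H : Set G)) :=
  Finset.univ.filter fun n => ∃ a ∈ H, a ≠ 1 ∧ Commute (n : G) a

open Classical in
/-- The central elements of `N(H)`. -/
noncomputable def centrals : Finset (Subgroup.normalizer (H : Set G)) :=
  Finset.univ.filter fun n => (n : G) ∈ Subgroup.center G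

lemma mem_fixers {n : Subgroup.normalizer (H : Set G)} :
    n ∈ fixers H ↔ ∃ a ∈ H, a ≠ 1 ∧ Commute (n : G) a := by
  simp [fixers]

lemma mem_centrals {n : Subgroup.normalizer (H : Set G)} :
    n ∈ centrals H ↔ (n : G) ∈ Subgroup.center G := by
  simp [centrals]

/-- The average of `χ` over a coset of `H` in its normalizer. -/
noncomputable def avg [Fintype H] (χ : Cfsg.IrrCharacter G)
    (n : Subgroup.normalizer (H : Set G)) : ℂ :=
  (Nat.card H : ℂ)⁻¹ * ∑ a : H, χ.1 ((n : G) * a)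

variable {H}

/-- Off the fixers a character equals its average. -/
lemma avg_eq_of_notMem [Fintype H] (χ : Cfsg.IrrCharacter G)
    {n : Subgroup.normalizer (H : Set G)} (hn : n ∉ fixers H) : avg H χ n = χ.1 n := by
  rw [mem_fixers] at hn
  let φ : H → H := fun a => ⟨(n : G)⁻¹ * a * n * (a : G)⁻¹,
    H.mul_mem ((Subgroup.mem_normalizer_iff''.1 n.2 (a : G)).1 a.2) (H.inv_mem a.2)⟩
  have hφ : Function.Bijective φ := by
    refine Finite.injective_iff_bijective.1 fun a b h => ?_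
    by_contra hne
    have h1 : (n : G)⁻¹ * a * n * (a : G)⁻¹ = (n : G)⁻¹ * b * n * (b : G)⁻¹ :=
      congrArg Subtype.val h
    refine hn ⟨(b : G)⁻¹ * a, H.mul_mem (H.inv_mem b.2) a.2,
      fun h' => hne (Subtype.ext (inv_mul_eq_one.1 h').symm), ?_⟩
    have h2 : (a : G) * n * (a : G)⁻¹ = (b : G) * n * (b : G)⁻¹ := by
      have := congrArg (fun t => (n : G) * t) h1
      simpa [mul_assoc] using this
    show (n : G) * _ = _ * (n : G)
    calc (n : G) * ((b : G)⁻¹ * a) = (b : G)⁻¹ * ((b : G) * n * (b : G)⁻¹) * a := by group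
      _ = _ := by rw [← h2]; group
  have hsum : ∑ a : H, χ.1 ((n : G) * a) = ∑ _a : H, χ.1 n := by
    refine (Fintype.sum_bijective φ hφ _ _ fun a => ?_).symm
    rw [← H26.irr_conj χ (n : G) (a : G)]
    refine congrArg χ.1 ?_
    show _ = (n : G) * ((n : G)⁻¹ * a * n * (a : G)⁻¹)
    group
  rw [avg, hsum, Finset.sum_const, Finset.card_univ, ← Nat.card_eq_fintype_card, nsmul_eq_mul,
    inv_mul_cancel_left₀ (Nat.cast_ne_zero.2 Nat.card_pos.ne')]

/-- The averaging inequality on the normalizer, restricted to the fixers. -/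
lemma sum_fixers_le [Fintype H] (χ : Cfsg.IrrCharacter G) (hker : ∃ h ∈ H, χ.1 h ≠ χ.1 1) :
    ∑ n ∈ fixers H, ‖avg H χ n‖ ^ 2 + (Nat.card (Subgroup.normalizer (H : Set G)) : ℝ) ≤
      ∑ n ∈ fixers H, ‖χ.1 n‖ ^ 2 := by
  classical
  obtain ⟨h₀, hh₀, hne₀⟩ := hker
  set N := Subgroup.normalizer (H : Set G)
  haveI : (H.subgroupOf N).Normal := Subgroup.normal_in_normalizer
  have hHN : H ≤ N := Subgroup.le_normalizer
  have h1 := sum_avg_sq_add_card_le (H.subgroupOf N) (ξ := fun n : N => χ.1 n)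
    (H26.isCharacter_comp (H26.irr_isCharacter χ) N.subtype) ⟨⟨h₀, hHN hh₀⟩, hh₀, hne₀⟩
  have h2 : ∀ n : N, (Nat.card (H.subgroupOf N) : ℂ)⁻¹ *
      ∑ a : H.subgroupOf N, χ.1 ((n * a : N) : G) = avg H χ n := fun n => by
    rw [avg, Nat.card_congr (Subgroup.subgroupOfEquivOfLe hHN).toEquiv]
    congr 1
    exact Fintype.sum_equiv (Subgroup.subgroupOfEquivOfLe hHN).toEquiv _ _ fun b => rfl
  simp only [h2] at h1
  rw [← Finset.sum_add_sum_compl (fixers H), ← Finset.sum_add_sum_compl (fixers H)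
    (fun n : N => ‖χ.1 n‖ ^ 2),
    Finset.sum_congr rfl (g := fun n : N => ‖χ.1 n‖ ^ 2) (s₁ := (fixers H)ᶜ) fun n hn => by
      rw [avg_eq_of_notMem χ (Finset.mem_compl.1 hn)]] at h1
  linarith

lemma OneConj.center_le (hone : OneConj H) (hZ : H ⊓ Subgroup.center G = ⊥) {a : G} (ha : a ∈ H)
    (ha1 : a ≠ 1) {g : G} (hag : Commute a g) : g ∈ Subgroup.normalizer (H : Set G) :=
  hone.mem_normalizer (fun hc => ha1 (Subgroup.mem_bot.1 (hZ ▸ Subgroup.mem_inf.2 ⟨ha, hc⟩)))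
    ha ha1 ha ha1 (Commute.refl a) (by rw [← hag.eq, mul_inv_cancel_right])

/-- The averaged character on `H × Z`. -/
lemma card_mul_le_sum_avg [Fintype H] (hab : ∀ a ∈ H, ∀ b ∈ H, a * b = b * a)
    (hZ : H ⊓ Subgroup.center G = ⊥) (χ : Cfsg.IrrCharacter G) {h₀ : G} (hh₀ : h₀ ∈ H)
    (hh₀1 : h₀ ≠ 1) {c : ℕ} (hc : Cfsg.classInner (fun h : H => χ.1 h) (fun _ => 1) = c) :
    (Nat.card H : ℝ) * (centrals H).card * (c : ℝ) ^ 2 ≤ ∑ n ∈ fixers H, ‖avg H χ n‖ ^ 2 := by
  classical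
  set N := Subgroup.normalizer (H : Set G)
  have hHN : H ≤ N := Subgroup.le_normalizer
  let g : H × {z : N // z ∈ centrals H} → N := fun q => q.2.1 * ⟨q.1, hHN q.1.2⟩
  have hval : ∀ q, ‖avg H χ (g q)‖ = (c : ℝ) := by
    rintro ⟨a, z, hz⟩
    rw [mem_centrals] at hz
    obtain ⟨w, hw, hmul⟩ := exists_central_scalar χ hz
    have h1 : ∑ b : H, χ.1 (((g (a, ⟨z, (mem_centrals H).2 hz⟩) : N) : G) * b) =
        ∑ b : H, w * χ.1 b :=
      Fintype.sum_equiv (Equiv.mulLeft a) _ _ fun b => by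
        rw [← hmul]
        refine congrArg χ.1 ?_
        show (z : G) * a * b = ((a * b : H) : G) * z
        rw [Subgroup.coe_mul, Subgroup.mem_center_iff.1 hz, mul_assoc]
    have h2 : (Nat.card H : ℂ)⁻¹ * ∑ b : H, χ.1 b = c := by
      rw [← hc, Cfsg.classInner]
      simp
    rw [avg, h1, ← Finset.mul_sum, mul_left_comm, h2, norm_mul, hw, one_mul, Complex.norm_natCast]
  have hinj : Function.Injective g := by
    rintro ⟨a, z, hz⟩ ⟨b, w, hw⟩ h
    rw [mem_centrals] at hz hw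
    have h' : (z : G) * a = (w : G) * b := congrArg Subtype.val h
    have h1 : (w : G)⁻¹ * z = (b : G) * (a : G)⁻¹ := by
      rw [eq_mul_inv_iff_mul_eq, mul_assoc, h', inv_mul_cancel_left]
    have h2 : (w : G)⁻¹ * z ∈ H ⊓ Subgroup.center G :=
      Subgroup.mem_inf.2 ⟨h1 ▸ H.mul_mem b.2 (H.inv_mem a.2), mul_mem (inv_mem hw) hz⟩
    rw [hZ, Subgroup.mem_bot, inv_mul_eq_one] at h2
    rw [← h2, mul_right_inj] at h'
    exact Prod.ext (Subtype.ext h') (Subtype.ext (Subtype.ext h2.symm))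
  have hsub : Finset.univ.image g ⊆ fixers H := by
    intro n hn
    obtain ⟨⟨a, z, hz⟩, -, rfl⟩ := Finset.mem_image.1 hn
    rw [mem_centrals] at hz
    rw [mem_fixers]
    exact ⟨h₀, hh₀, hh₀1,
      (Commute.mul_left ((Subgroup.mem_center_iff.1 hz h₀).symm : Commute (z : G) h₀)
        (hab _ a.2 _ hh₀) : Commute ((z : G) * a) h₀)⟩
  refine le_trans (le_of_eq ?_)
    (Finset.sum_le_sum_of_subset_of_nonneg hsub fun n _ _ => pow_nonneg (norm_nonneg _) 2)
  rw [Finset.sum_image (fun a _ b _ h => hinj h), Finset.sum_congr rfl (g := fun _ => (c : ℝ) ^ 2)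
    (fun q _ => by rw [hval]), Finset.sum_const, Finset.card_univ, Fintype.card_prod,
    Fintype.card_coe, nsmul_eq_mul, ← Nat.card_eq_fintype_card, Nat.cast_mul]

lemma norm_central (χ : Cfsg.IrrCharacter G) {z : G} (hz : z ∈ Subgroup.center G) :
    ‖χ.1 z‖ = (degOf χ : ℝ) := by
  obtain ⟨w, hw, hmul⟩ := exists_central_scalar χ hz
  rw [← one_mul z, hmul, norm_mul, hw, one_mul, degOf_spec, Complex.norm_natCast]

/-- The sets of conjugates of the non-central fixers are disjoint. -/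
lemma card_mul_sum_fixers_le [Fintype H] (hone : OneConj H)
    (χ : Cfsg.IrrCharacter G) (hcN : Subgroup.center G ≤ Subgroup.normalizer (H : Set G))
    (hcf : centrals H ⊆ fixers H) :
    (Nat.card G : ℝ) * (∑ n ∈ fixers H, ‖χ.1 n‖ ^ 2 - (centrals H).card * (degOf χ : ℝ) ^ 2) ≤
      (Nat.card (Subgroup.normalizer (H : Set G)) : ℝ) *
        ((Nat.card G : ℝ) - (centrals H).card * (degOf χ : ℝ) ^ 2) := by
  classical
  set N := Subgroup.normalizer (H : Set G)
  set T := fixers H \ centrals H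
  have hsplit : ∑ n ∈ fixers H, ‖χ.1 n‖ ^ 2 - (centrals H).card * (degOf χ : ℝ) ^ 2 =
      ∑ n ∈ T, ‖χ.1 n‖ ^ 2 := by
    rw [sub_eq_iff_eq_add, ← Finset.sum_sdiff hcf]
    congr 1
    rw [Finset.sum_congr rfl (g := fun _ => (degOf χ : ℝ) ^ 2) (fun z hz => by
      rw [norm_central χ ((mem_centrals H).1 hz)]), Finset.sum_const, nsmul_eq_mul]
  set S : Finset G := T.image Subtype.val
  have hS : ∀ {g : G}, g ∈ S → g ∉ Subgroup.center G ∧ ∃ a ∈ H, a ≠ 1 ∧ Commute g a := by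
    intro g hg
    obtain ⟨n, hn, rfl⟩ := Finset.mem_image.1 hg
    rw [Finset.mem_sdiff, mem_fixers, mem_centrals] at hn
    exact ⟨hn.2, hn.1⟩
  let F : G → ℝ := fun y => ‖χ.1 y‖ ^ 2
  have h1 : ∑ n ∈ T, ‖χ.1 n‖ ^ 2 = ∑ y : G, if y ∈ S then F y else 0 := by
    rw [← Finset.sum_filter, Finset.filter_mem_eq_inter, Finset.univ_inter,
      Finset.sum_image (fun a _ b _ h => Subtype.ext h)]
  have hx : ∀ x : G, (∑ y : G, if x * y * x⁻¹ ∈ S then F y else 0) =
      ∑ y : G, if y ∈ S then F y else 0 := fun x =>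
    Fintype.sum_equiv (MulAut.conj x).toEquiv _ _ fun y => by simp [F, H26.irr_conj]
  have h2 : (Nat.card G : ℝ) * ∑ n ∈ T, ‖χ.1 n‖ ^ 2 =
      ∑ y : G, ((Finset.univ.filter fun x : G => x * y * x⁻¹ ∈ S).card : ℝ) * F y := by
    calc (Nat.card G : ℝ) * ∑ n ∈ T, ‖χ.1 n‖ ^ 2
        = ∑ x : G, ∑ y : G, if x * y * x⁻¹ ∈ S then F y else 0 := by
          rw [Finset.sum_congr rfl fun x _ => hx x, Finset.sum_const, Finset.card_univ,
            nsmul_eq_mul, Nat.card_eq_fintype_card, h1]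
      _ = _ := by
          rw [Finset.sum_comm]
          refine Finset.sum_congr rfl fun y _ => ?_
          rw [← Finset.sum_filter, Finset.sum_const, nsmul_eq_mul]
  let ZG : Finset G := Finset.univ.filter (· ∈ Subgroup.center G)
  have hZG : ZG.card = (centrals H).card := by
    refine Finset.card_bij' (fun z hz => (⟨z, hcN (Finset.mem_filter.1 hz).2⟩ : N))
      (fun z _ => (z : G)) ?_ ?_ ?_ ?_
    · intro z hz; rw [mem_centrals]; exact (Finset.mem_filter.1 hz).2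
    · intro z hz; exact Finset.mem_filter.2 ⟨Finset.mem_univ _, (mem_centrals H).1 hz⟩
    · intros; rfl
    · intros; rfl
  have htot : ∑ y : G, F y = (Nat.card G : ℝ) := by
    have h := H26.classInner_irr χ χ
    rw [if_pos rfl, Cfsg.classInner, inv_mul_eq_iff_eq_mul₀
      (Nat.cast_ne_zero.2 Nat.card_pos.ne'), mul_one] at h
    apply Complex.ofReal_injective
    rw [Complex.ofReal_natCast, ← h, Complex.ofReal_sum]
    exact Finset.sum_congr rfl fun n _ => by rw [Complex.mul_conj']; push_cast [F]; rfl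
  have hsum : ∑ y ∈ ZG, F y = (ZG.card : ℝ) * (degOf χ : ℝ) ^ 2 := by
    rw [Finset.sum_congr rfl (g := fun _ => (degOf χ : ℝ) ^ 2) fun z hz => by
      simp only [F]
      rw [norm_central χ (Finset.mem_filter.1 hz).2], Finset.sum_const, nsmul_eq_mul]
  have hrest : ∀ y : G, y ∉ ZG →
      (Finset.univ.filter fun x : G => x * y * x⁻¹ ∈ S).card ≤ Nat.card N := by
    intro y hy
    rcases (Finset.univ.filter fun x : G => x * y * x⁻¹ ∈ S).eq_empty_or_nonempty with
      he | ⟨x₀, hx₀⟩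
    · simp [he]
    · rw [Finset.mem_filter] at hx₀
      obtain ⟨hg1, a, ha, ha1, hga⟩ := hS hx₀.2
      have hsub : ∀ x ∈ Finset.univ.filter (fun x : G => x * y * x⁻¹ ∈ S), x * x₀⁻¹ ∈ N := by
        intro x hx
        obtain ⟨-, b, hb, hb1, hgb⟩ := hS (Finset.mem_filter.1 hx).2
        have h4 : x₀ * x⁻¹ ∈ N := by
          refine hone.mem_normalizer hg1 ha ha1 hb hb1 hga ?_
          have h5 := hgb.map (MulAut.conj (x₀ * x⁻¹)).toMonoidHom
          simpa [mul_assoc] using h5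
        simpa using N.inv_mem h4
      rw [← Nat.card_eq_finsetCard]
      exact Nat.card_le_card_of_injective
        (fun x : {x // x ∈ Finset.univ.filter (fun x : G => x * y * x⁻¹ ∈ S)} =>
          (⟨x.1 * x₀⁻¹, hsub x.1 x.2⟩ : N))
        (fun u v h => Subtype.ext (mul_right_cancel (congrArg Subtype.val h)))
  rw [hsplit, h2, ← hZG, ← hsum, ← htot, ← Finset.sum_add_sum_compl ZG,
    ← Finset.sum_add_sum_compl ZG F, add_sub_cancel_left]
  rw [Finset.sum_eq_zero fun y hy => ?_, zero_add, Finset.mul_sum]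
  · exact Finset.sum_le_sum fun y hy => mul_le_mul_of_nonneg_right
      (by exact_mod_cast hrest y (Finset.mem_compl.1 hy)) (pow_nonneg (norm_nonneg _) 2)
  · rw [Finset.filter_false_of_mem fun x _ hx => (hS hx).1
      (Subgroup.Normal.conj_mem inferInstance y (Finset.mem_filter.1 hy).2 x)]
    simp

/-- The degree bound. -/
theorem card_mul_sq_lt_degree_sq {H : Subgroup G} [Fintype H]
    (hab : ∀ a ∈ H, ∀ b ∈ H, a * b = b * a) (hZ : H ⊓ Subgroup.center G = ⊥) (hone : OneConj H)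
    (χ : Cfsg.IrrCharacter G) (hker : ∃ h ∈ H, χ.1 h ≠ χ.1 1) {c : ℕ}
    (hc : Cfsg.classInner (fun h : H => χ.1 h) (fun _ => 1) = c) :
    Nat.card H * c ^ 2 < degOf χ ^ 2 := by
  obtain ⟨h₀, hh₀, hne₀⟩ := id hker
  have hh₀1 : h₀ ≠ 1 := fun h => hne₀ (by rw [h])
  have hcN : Subgroup.center G ≤ Subgroup.normalizer (H : Set G) := fun z hz =>
    hone.center_le hZ hh₀ hh₀1 (Subgroup.mem_center_iff.1 hz h₀)
  have hcf : centrals H ⊆ fixers H := fun z hz => by
    rw [mem_centrals] at hz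
    rw [mem_fixers]
    exact ⟨h₀, hh₀, hh₀1, (Subgroup.mem_center_iff.1 hz h₀).symm⟩
  have h1 := card_mul_sum_fixers_le hone χ hcN hcf
  have h2 := sum_fixers_le χ hker
  have h3 := card_mul_le_sum_avg hab hZ χ hh₀ hh₀1 hc
  set NN := (Nat.card (Subgroup.normalizer (H : Set G)) : ℝ)
  set Z := ((centrals H).card : ℝ)
  set W := ∑ n ∈ fixers H, ‖χ.1 n‖ ^ 2
  set hH := (Nat.card H : ℝ) with hHdef
  set D := (degOf χ : ℝ) ^ 2 with hD
  have hG : (0 : ℝ) < Nat.card G := Nat.cast_pos.2 Nat.card_pos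
  have hN0 : (0 : ℝ) < NN := Nat.cast_pos.2 Nat.card_pos
  have hZ0 : (0 : ℝ) < Z := Nat.cast_pos.2 (Finset.card_pos.2 ⟨1, by rw [mem_centrals]; simp⟩)
  have hd0 : (0 : ℝ) < D := pow_pos (Nat.cast_pos.2 (degOf_pos χ)) 2
  have h4 : hH * Z * (c : ℝ) ^ 2 + NN ≤ W := le_trans (by linarith) h2
  have h5 : (Nat.card G : ℝ) * Z * (hH * (c : ℝ) ^ 2) < (Nat.card G : ℝ) * Z * D := by
    have h6 := mul_le_mul_of_nonneg_left h4 hG.le
    have h7 := mul_pos (mul_pos hN0 hZ0) hd0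
    linarith
  have h8 := lt_of_mul_lt_mul_left h5 (mul_pos hG hZ0).le
  rw [hHdef, hD] at h8
  exact_mod_cast h8

set_option maxHeartbeats 1000000 in
open Classical in
/-- The second bound, for `H` in no proper normal subgroup. -/
theorem card_lt_succ_degree_sq {H : Subgroup G} [Fintype H]
    (hab : ∀ a ∈ H, ∀ b ∈ H, a * b = b * a) (hZ : H ⊓ Subgroup.center G = ⊥) (hone : OneConj H)
    (hgen : ∀ M : Subgroup G, M.Normal → H ≤ M → M = ⊤) (χ : Cfsg.IrrCharacter G)
    (h1 : degOf χ ≠ 1) : Nat.card H < (1 + degOf χ) ^ 2 := by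
  have hker : ∀ ψ : Cfsg.IrrCharacter G, ψ ≠ H26.oneIrr G → ∃ h ∈ H, ψ.1 h ≠ ψ.1 1 := by
    intro ψ hψ
    by_contra hc
    push Not at hc
    obtain ⟨d, ρ, hρ, e⟩ := id ψ.2
    have hle : H ≤ ρ.ker := fun h hh => by
      rw [MonoidHom.mem_ker, Module.End.one_eq_id, ← H25.char_eq_degree_iff, ← ρ.char_one, e]
      exact hc h hh
    have htop := hgen _ inferInstance hle
    have hconst : ψ.1 = ψ.1 1 • (H26.oneIrr G).1 := funext fun g => by
      have hg : ρ g = 1 := MonoidHom.mem_ker.1 (htop ▸ Subgroup.mem_top g)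
      rw [Pi.smul_apply, smul_eq_mul, H26.oneIrr_val, mul_one, ← e, Representation.character, hg,
        ← map_one ρ]
      rfl
    have h2 := H26.classInner_irr ψ (H26.oneIrr G)
    rw [if_neg hψ] at h2
    nth_rewrite 1 [hconst] at h2
    rw [H26.classInner_smul_left, H26.classInner_irr, if_pos rfl, mul_one] at h2
    exact H26.irr_one_ne_zero ψ h2
  set d := degOf χ
  set ξ : G → ℂ := χ.1 * (H26.conjIrr χ).1
  have hξ : Cfsg.IsCharacter G ξ :=
    H26.isCharacter_mul (H26.irr_isCharacter χ) (H26.irr_isCharacter _)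
  obtain ⟨a, ha, hexp⟩ := H26.exists_nat_coeffs hξ
  have ha1 : a (H26.oneIrr G) = 1 := by
    have h := ha (H26.oneIrr G)
    have h2 : Cfsg.classInner ξ (H26.oneIrr G).1 = 1 := by
      rw [← (H26.classInner_irr χ χ).trans (if_pos rfl)]
      simp [Cfsg.classInner, ξ, H26.oneIrr_val, H26.conjIrr_val]
    rw [h2] at h
    exact_mod_cast h.symm
  choose cc hcc using fun ψ : Cfsg.IrrCharacter G => H26.exists_nat_classInner_irr
    (χ := fun h : H => ψ.1 h) (H26.isCharacter_comp (H26.irr_isCharacter ψ) H.subtype)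
    (H26.oneIrr H)
  obtain ⟨m, hm, hmexp⟩ := H26.exists_nat_coeffs
    (H26.isCharacter_comp (H26.irr_isCharacter χ) H.subtype)
  have hab' : ∀ x y : H, x * y = y * x := fun x y => Subtype.ext (hab _ x.2 _ y.2)
  have hd : d = ∑ l : Cfsg.IrrCharacter H, m l := by
    have h := congrFun hmexp 1
    simp only [Finset.sum_apply, Pi.smul_apply, smul_eq_mul, H26.irr_one_eq_one_of_comm hab',
      mul_one, H.coe_subtype, Function.comp_apply, OneMemClass.coe_one, degOf_spec] at h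
    exact_mod_cast h
  have hsq : d ≤ ∑ l : Cfsg.IrrCharacter H, m l ^ 2 :=
    hd ▸ Finset.sum_le_sum fun l _ => Nat.le_self_pow two_ne_zero _
  have hsum : ∑ ψ : Cfsg.IrrCharacter G, a ψ * cc ψ = ∑ l : Cfsg.IrrCharacter H, m l ^ 2 := by
    have e1 : Cfsg.classInner (fun h : H => ξ h) (H26.oneIrr H).1 =
        ((∑ ψ : Cfsg.IrrCharacter G, a ψ * cc ψ : ℕ) : ℂ) := by
      have h3 : (fun h : H => ξ h) =
          ∑ ψ : Cfsg.IrrCharacter G, (a ψ : ℂ) • fun h : H => ψ.1 h := by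
        funext h
        rw [congrFun hexp h]
        simp [Finset.sum_apply]
      rw [h3, H26.classInner_sum_left, Nat.cast_sum]
      exact Finset.sum_congr rfl fun ψ _ => by rw [H26.classInner_smul_left, hcc, Nat.cast_mul]
    have e2 : Cfsg.classInner (fun h : H => ξ h) (H26.oneIrr H).1 =
        ((∑ l : Cfsg.IrrCharacter H, m l ^ 2 : ℕ) : ℂ) := by
      have h4 : Cfsg.classInner (fun h : H => ξ h) (H26.oneIrr H).1 =
          Cfsg.classInner (fun h : H => χ.1 h) (fun h : H => χ.1 h) := by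
        simp [Cfsg.classInner, ξ, H26.oneIrr_val, H26.conjIrr_val]
      rw [h4, H26.classInner_eq_sum _ _ (H26.isClassFunction_of_isCharacter
        (χ := fun h : H => χ.1 h) (H26.isCharacter_comp (H26.irr_isCharacter χ) H.subtype))]
      rw [Nat.cast_sum]
      refine Finset.sum_congr rfl fun l _ => ?_
      rw [show Cfsg.classInner (fun h : H => χ.1 h) l.1 = (m l : ℂ) from hm l, map_natCast, sq,
        Nat.cast_mul]
    rw [e1] at e2
    exact_mod_cast e2
  have hdeg : d ^ 2 = ∑ ψ : Cfsg.IrrCharacter G, a ψ * degOf ψ := by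
    have h := congrFun hexp 1
    simp only [ξ, Pi.mul_apply, H26.conjIrr_val, Finset.sum_apply, Pi.smul_apply, smul_eq_mul,
      degOf_spec, map_natCast] at h
    rw [sq]
    exact_mod_cast h
  have hc1 : cc (H26.oneIrr G) = 1 := by
    have h := hcc (H26.oneIrr G)
    have h2 : Cfsg.classInner (fun h : H => (H26.oneIrr G).1 h) (H26.oneIrr H).1 = 1 :=
      (H26.classInner_irr (H26.oneIrr H) (H26.oneIrr H)).trans (if_pos rfl)
    rw [h2] at h
    exact_mod_cast h.symm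
  have hlt : ∀ ψ, ψ ≠ H26.oneIrr G → Real.sqrt (Nat.card H) * cc ψ < degOf ψ := by
    intro ψ hψ
    have h := card_mul_sq_lt_degree_sq hab hZ hone ψ (hker ψ hψ) (c := cc ψ) (hcc ψ)
    have h' : (Nat.card H : ℝ) * (cc ψ : ℝ) ^ 2 < (degOf ψ : ℝ) ^ 2 := by exact_mod_cast h
    rw [← Real.sq_sqrt (Nat.cast_nonneg (Nat.card H)), ← mul_pow] at h'
    exact lt_of_pow_lt_pow_left₀ 2 (Nat.cast_nonneg _) h'
  have hd2 : 2 ≤ d := by have := degOf_pos χ; omega
  obtain ⟨ψ₀, hψ₀, ha₀⟩ : ∃ ψ, ψ ≠ H26.oneIrr G ∧ a ψ ≠ 0 := by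
    by_contra hc
    push Not at hc
    rw [Finset.sum_eq_single (H26.oneIrr G) (fun ψ _ hne => by simp [hc ψ hne]) (by simp), ha1,
      degOf_oneIrr] at hdeg
    nlinarith
  set r := Real.sqrt (Nat.card H)
  have hmain : ∑ ψ ∈ Finset.univ.erase (H26.oneIrr G), r * ((a ψ : ℝ) * cc ψ) <
      ∑ ψ ∈ Finset.univ.erase (H26.oneIrr G), (a ψ : ℝ) * degOf ψ := by
    refine Finset.sum_lt_sum (fun ψ hψ => ?_) ⟨ψ₀, by simp [hψ₀], ?_⟩
    · rw [mul_left_comm]
      exact mul_le_mul_of_nonneg_left (hlt ψ (Finset.ne_of_mem_erase hψ)).le (Nat.cast_nonneg _)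
    · rw [mul_left_comm]
      exact mul_lt_mul_of_pos_left (hlt ψ₀ hψ₀) (Nat.cast_pos.2 (Nat.pos_of_ne_zero ha₀))
  rw [← Finset.mul_sum, Finset.sum_erase_eq_sub (Finset.mem_univ _),
    Finset.sum_erase_eq_sub (Finset.mem_univ _), ha1, hc1, degOf_oneIrr] at hmain
  have hs' : ((d : ℝ)) ≤ ∑ ψ : Cfsg.IrrCharacter G, (a ψ : ℝ) * cc ψ := by
    exact_mod_cast hsum ▸ hsq
  have hdeg' : ∑ ψ : Cfsg.IrrCharacter G, (a ψ : ℝ) * degOf ψ = (d : ℝ) ^ 2 := by
    exact_mod_cast hdeg.symm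
  rw [hdeg'] at hmain
  simp only [Nat.cast_one, mul_one] at hmain
  have hr : r * ((d : ℝ) - 1) < (1 + (d : ℝ)) * ((d : ℝ) - 1) := by
    nlinarith [mul_le_mul_of_nonneg_left (sub_le_sub_right hs' 1) (Real.sqrt_nonneg (Nat.card H : ℝ))]
  have hd1 : (0 : ℝ) < (d : ℝ) - 1 := by
    have : (2 : ℝ) ≤ d := by exact_mod_cast hd2
    linarith
  have h7 := lt_of_mul_lt_mul_right hr hd1.le
  have h8 := (Real.sqrt_lt' (by positivity)).1 h7
  exact_mod_cast h8

end Cfsg.Agent.H39
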