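import Cfsg.Agent.H25.CharInd
import Cfsg.Agent.H39.DegreeRatio

/-!
# Restriction to a normal subgroup with an invariant constituent; fully ramified characters
-/

namespace Cfsg.Agent.H39

open Module
open scoped ComplexConjugate

variable {G : Type*} [Group G] [Fintype G] {N : Subgroup G} [hN : N.Normal] [Fintype N]

/-- An irreducible character with an invariant constituent restricts to a multiple of it. -/
lemma restrict_eq_smul_of_invariant {χ : G → ℂ} (hχ : Cfsg.IsIrrCharacter G χ) {ϑ : N → ℂ}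
    (hϑ : Cfsg.IsIrrCharacter N ϑ) (hinv : ∀ (g : G) (n : N), ϑ (conjN g n) = ϑ n)
    (hcon : Cfsg.classInner (fun n : N => χ n) ϑ ≠ 0) :
    ∃ e : ℕ, e ≠ 0 ∧ Cfsg.classInner (fun n : N => χ n) ϑ = e ∧
      (fun n : N => χ n) = (e : ℂ) • ϑ := by
  classical
  obtain ⟨a, ρ, hρ, rfl⟩ := hχ
  obtain ⟨b, σ, hσ, rfl⟩ := hϑ
  set e := finrank ℂ (Representation.IntertwiningMap σ (resRep ρ N))
  have he : Cfsg.classInner (fun n : N => ρ.character n) σ.character = (e : ℂ) := by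
    rw [← H26.classInner_char_eq_finrank σ (resRep ρ N)]; rfl
  have he0 : e ≠ 0 := fun h => hcon (by rw [he, h, Nat.cast_zero])
  refine ⟨e, he0, he, ?_⟩
  have htop : inertia σ = ⊤ := eq_top_iff.2 fun g _ n => hinv g n
  obtain ⟨hdeg, -⟩ := finrank_eq_and_dvd σ ρ (Nat.pos_of_ne_zero he0)
  rw [htop, Subgroup.index_top, one_mul] at hdeg
  change finrank ℂ (Fin a → ℂ) = e * finrank ℂ (Fin b → ℂ) at hdeg
  have hch : Cfsg.IsCharacter N (fun n : N => ρ.character n) :=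
    H26.isCharacter_char (resRep ρ N)
  obtain ⟨m, hm, hexp⟩ := H26.exists_nat_coeffs hch
  choose d hd using fun ψ : Cfsg.IrrCharacter N => H26.exists_nat_char_one (H26.irr_isCharacter ψ)
  set θ : Cfsg.IrrCharacter N := ⟨σ.character, H26.isIrrCharacter_char σ⟩
  have hmθ : m θ = e := by
    have h := hm θ
    rw [he] at h
    exact_mod_cast h.symm
  have hdθ : d θ = finrank ℂ (Fin b → ℂ) := by
    have h : σ.character 1 = (d θ : ℂ) := hd θ
    rw [σ.char_one] at h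
    exact_mod_cast h.symm
  have h1 : (finrank ℂ (Fin a → ℂ)) = ∑ ψ : Cfsg.IrrCharacter N, m ψ * d ψ := by
    have h := congrFun hexp 1
    simp only [Finset.sum_apply, Pi.smul_apply, smul_eq_mul, hd] at h
    rw [show ρ.character ((1 : N) : G) = (finrank ℂ (Fin a → ℂ) : ℂ) from ρ.char_one] at h
    exact_mod_cast h
  rw [← Finset.add_sum_erase _ _ (Finset.mem_univ θ), hmθ, hdθ, hdeg] at h1
  have hzero : ∀ ψ ∈ (Finset.univ.erase θ), m ψ = 0 := by
    intro ψ hψ
    have h0 : m ψ * d ψ = 0 :=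
      Finset.sum_eq_zero_iff.1 (by omega : ∑ ψ ∈ Finset.univ.erase θ, m ψ * d ψ = 0) ψ hψ
    refine (Nat.mul_eq_zero.1 h0).resolve_right fun hd0 => ?_
    refine H26.irr_one_ne_zero ψ ?_
    rw [hd ψ, hd0, Nat.cast_zero]
  rw [hexp, ← Finset.add_sum_erase _ _ (Finset.mem_univ θ),
    Finset.sum_eq_zero fun ψ hψ => by rw [hzero ψ hψ, Nat.cast_zero, zero_smul], add_zero, hmθ]

/-- The squares of the multiplicities of an invariant character sum to the index. -/
lemma sum_classInner_sq_eq_index {ϑ : N → ℂ} (hϑ : Cfsg.IsIrrCharacter N ϑ)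
    (hinv : ∀ (g : G) (n : N), ϑ (conjN g n) = ϑ n) :
    ∃ m : Cfsg.IrrCharacter G → ℕ,
      (∀ ψ : Cfsg.IrrCharacter G, Cfsg.classInner (fun n : N => (ψ : G → ℂ) n) ϑ = m ψ) ∧
      (∀ ψ : Cfsg.IrrCharacter G, Cfsg.classInner (Cfsg.indFun N ϑ) (ψ : G → ℂ) = m ψ) ∧
      ∑ ψ : Cfsg.IrrCharacter G, m ψ ^ 2 = N.index := by
  classical
  choose m hm using fun ψ : Cfsg.IrrCharacter G =>
    H26.exists_nat_classInner_irr (χ := fun n : N => (ψ : G → ℂ) n)
      (H26.isCharacter_comp (H26.irr_isCharacter ψ) N.subtype) ⟨ϑ, hϑ⟩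
  have hind : ∀ ψ : Cfsg.IrrCharacter G,
      Cfsg.classInner (Cfsg.indFun N ϑ) (ψ : G → ℂ) = m ψ := by
    intro ψ
    rw [H25.classInner_indFun_left N ϑ _ (H26.irr_isClassFunction ψ), H26.classInner_comm, hm ψ,
      Complex.conj_natCast]
  refine ⟨m, hm, hind, ?_⟩
  have h1 := congrFun (H26.class_function_expansion _ (H25.isClassFunction_indFun N ϑ)) 1
  simp only [Finset.sum_apply, Pi.smul_apply, smul_eq_mul, hind] at h1
  rw [H25.indFun_one] at h1
  have hval : ∀ ψ : Cfsg.IrrCharacter G, (ψ : G → ℂ) 1 * (m ψ : ℂ) = (m ψ : ℂ) ^ 2 * ϑ 1 := by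
    intro ψ
    by_cases h0 : m ψ = 0
    · simp [h0]
    obtain ⟨e, -, he, heq⟩ := restrict_eq_smul_of_invariant ψ.2 hϑ hinv
      (by rw [hm ψ]; exact_mod_cast h0)
    have h := congrFun heq 1
    simp only [Pi.smul_apply, smul_eq_mul, OneMemClass.coe_one] at h
    rw [hm ψ] at he
    rw [h, ← he]
    ring
  have h2 : (N.index : ℂ) * ϑ 1 = ((∑ ψ : Cfsg.IrrCharacter G, m ψ ^ 2 : ℕ) : ℂ) * ϑ 1 := by
    rw [h1, Nat.cast_sum, Finset.sum_mul]
    refine Finset.sum_congr rfl fun ψ _ => ?_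
    rw [mul_comm, hval ψ, Nat.cast_pow]
  exact_mod_cast (mul_right_cancel₀ (H26.irr_one_ne_zero ⟨ϑ, hϑ⟩) h2).symm

/-- If the restriction is `e • ϑ`, then vanishing off `N` is equivalent to `e ^ 2 = |G : N|`. -/
lemma vanish_iff_sq_eq_index {χ : G → ℂ} (hχ : Cfsg.IsIrrCharacter G χ) {ϑ : N → ℂ}
    (hϑ : Cfsg.IsIrrCharacter N ϑ) {e : ℕ} (heq : (fun n : N => χ n) = (e : ℂ) • ϑ) :
    (∀ g : G, g ∉ N → χ g = 0) ↔ e ^ 2 = N.index := by
  classical
  have h1 := H26.classInner_irr (⟨χ, hχ⟩ : Cfsg.IrrCharacter G) ⟨χ, hχ⟩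
  have h2 := H26.classInner_irr (⟨ϑ, hϑ⟩ : Cfsg.IrrCharacter N) ⟨ϑ, hϑ⟩
  rw [if_pos rfl] at h1 h2
  simp only [Cfsg.classInner] at h1 h2
  have hG : (Nat.card G : ℂ) ≠ 0 := by exact_mod_cast Nat.card_pos.ne'
  have hN0 : (Nat.card N : ℂ) ≠ 0 := by exact_mod_cast Nat.card_pos.ne'
  rw [inv_mul_eq_one₀ hG] at h1
  rw [inv_mul_eq_one₀ hN0] at h2
  have hsplit : ∑ g : G, χ g * conj (χ g) =
      (e : ℂ) ^ 2 * (Nat.card N : ℂ) +
        ∑ g ∈ Finset.univ.filter (fun g => g ∉ N), χ g * conj (χ g) := by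
    rw [← Finset.sum_filter_add_sum_filter_not Finset.univ (fun g => g ∈ N)]
    congr 1
    rw [Finset.sum_subtype _ (p := fun g => g ∈ N) (by simp) (fun g => χ g * conj (χ g)), h2,
      Finset.mul_sum]
    refine Finset.sum_congr rfl fun n _ => ?_
    have h := congrFun heq n
    simp only [Pi.smul_apply, smul_eq_mul] at h
    rw [h, map_mul, Complex.conj_natCast]
    ring
  rw [← h1, ← N.card_mul_index, Nat.cast_mul] at hsplit
  constructor
  · intro hv
    rw [Finset.sum_eq_zero fun g hg => by rw [hv g (Finset.mem_filter.1 hg).2, zero_mul],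
      add_zero, mul_comm _ (Nat.card N : ℂ)] at hsplit
    exact_mod_cast (mul_left_cancel₀ hN0 hsplit).symm
  · intro he g hg
    have hz : ∑ g ∈ Finset.univ.filter (fun g => g ∉ N), χ g * conj (χ g) = 0 := by
      have hc : (e : ℂ) ^ 2 = (N.index : ℂ) := by exact_mod_cast he
      rw [hc] at hsplit
      linear_combination -hsplit
    simp only [Complex.mul_conj] at hz
    rw [← Complex.ofReal_sum, Complex.ofReal_eq_zero] at hz
    exact Complex.normSq_eq_zero.1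
      ((Finset.sum_eq_zero_iff_of_nonneg fun x _ => Complex.normSq_nonneg _).1 hz g (by simp [hg]))

end Cfsg.Agent.H39
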