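import Cfsg.Agent.H39.ZassChar
import Cfsg.Agent.H43.CharTools
import Cfsg.Agent.H27.Permutation

/-!
# Restrictions to the regular normal subgroup of a point stabiliser

The inner products, degrees and Frobenius–Schur indicators of the characters orthogonal to all
characters induced from the stabiliser of a point.
-/

set_option autoImplicit false

namespace Cfsg.Agent.H39

open MulAction
open scoped ComplexConjugate Classical

/-- The degree of an irreducible character. -/
noncomputable def degOf {K : Type*} [Group K] [Finite K] (χ : Cfsg.IrrCharacter K) : ℕ :=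
  (H26.exists_nat_char_one (H26.irr_isCharacter χ)).choose

lemma degOf_spec {K : Type*} [Group K] [Finite K] (χ : Cfsg.IrrCharacter K) :
    χ.1 1 = (degOf χ : ℂ) := (H26.exists_nat_char_one (H26.irr_isCharacter χ)).choose_spec

lemma degOf_pos {K : Type*} [Group K] [Finite K] (χ : Cfsg.IrrCharacter K) : 0 < degOf χ := by
  have h := H26.irr_one_ne_zero χ
  rw [degOf_spec] at h
  exact Nat.pos_of_ne_zero fun h0 => h (by rw [h0, Nat.cast_zero])

namespace ZSetup

variable {G Ω : Type*} [Group G] [MulAction G Ω] [Fintype Ω] (S : ZSetup G Ω)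

/-- Conjugation of `H` by an element of `D`. -/
def conjH (d : S.D) : S.H ≃* S.H where
  toFun u := ⟨(d : G)⁻¹ * u * d, by
    have := S.conj_mem_H (inv_mem d.2.1) u.2
    rwa [inv_inv] at this⟩
  invFun u := ⟨(d : G) * u * (d : G)⁻¹, S.conj_mem_H d.2.1 u.2⟩
  left_inv u := Subtype.ext (by simp [mul_assoc])
  right_inv u := Subtype.ext (by simp [mul_assoc])
  map_mul' u v := Subtype.ext (by simp [mul_assoc])

lemma coe_conjH (d : S.D) (u : S.H) : (S.conjH d u : G) = (d : G)⁻¹ * u * d := rfl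

/-- The conjugate of an irreducible character of `H`. -/
def cj (d : S.D) (φ : Cfsg.IrrCharacter S.H) : Cfsg.IrrCharacter S.H :=
  H43.irrCongr (S.conjH d) φ

lemma cj_apply (d : S.D) (φ : Cfsg.IrrCharacter S.H) (u : S.H) :
    (S.cj d φ).1 u = φ.1 (S.conjH d u) := rfl

lemma cj_one (φ : Cfsg.IrrCharacter S.H) : S.cj 1 φ = φ :=
  Subtype.ext (funext fun u => congrArg φ.1 (Subtype.ext (by simp [coe_conjH])))

lemma cj_mul (c d : S.D) (φ : Cfsg.IrrCharacter S.H) : S.cj (c * d) φ = S.cj c (S.cj d φ) :=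
  Subtype.ext (funext fun u => congrArg φ.1 (Subtype.ext (by simp [coe_conjH, mul_assoc])))

lemma cj_ne_one {d : S.D} {φ : Cfsg.IrrCharacter S.H} (hφ : φ ≠ H26.oneIrr S.H) :
    S.cj d φ ≠ H26.oneIrr S.H := by
  intro h
  refine hφ ?_
  have h2 := congrArg (S.cj d⁻¹) h
  rw [← S.cj_mul, inv_mul_cancel, S.cj_one] at h2
  rw [h2]
  rfl

/-- `D` moves every non-trivial irreducible character of `H` freely. -/
lemma eq_one_of_cj_eq {d : S.D} {φ : Cfsg.IrrCharacter S.H} (hφ : φ ≠ H26.oneIrr S.H)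
    (h : S.cj d φ = φ) : d = 1 := by
  haveI := S.finite
  by_contra hd
  have hd' : (d : G) ≠ 1 := fun h' => hd (Subtype.ext h')
  have hC : ∀ C : ConjClasses S.H, ConjClasses.map (S.conjH d).toMonoidHom C = C → C = ConjClasses.mk 1 := by
    intro C hC
    obtain ⟨u, rfl⟩ := ConjClasses.exists_rep C
    obtain ⟨v, hv⟩ := isConj_iff.1 (ConjClasses.mk_eq_mk_iff_isConj.1
      (show ConjClasses.mk (S.conjH d u) = ConjClasses.mk u from hC))
    by_contra hu
    have hu1 : (u : G) ≠ 1 := fun h' => hu (by rw [show u = 1 from Subtype.ext h'])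
    have hv' : (v : G) * ((d : G)⁻¹ * u * d) * (v : G)⁻¹ = u := congrArg Subtype.val hv
    have hcomm : ((v : G) * (d : G)⁻¹) * u = u * ((v : G) * (d : G)⁻¹) :=
      calc (v : G) * (d : G)⁻¹ * u
          = ((v : G) * ((d : G)⁻¹ * u * d) * (v : G)⁻¹) * ((v : G) * (d : G)⁻¹) := by group
        _ = u * ((v : G) * (d : G)⁻¹) := by rw [hv']
    have hmem := mul_mem (inv_mem v.2) (S.mem_H_of_commute u.2 hu1 hcomm)
    rw [inv_mul_cancel_left] at hmem
    exact hd' (S.inf_H_D (by simpa using inv_mem hmem) d.2)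
  have h1 : Nat.card {C : ConjClasses S.H // ConjClasses.map (S.conjH d).toMonoidHom C = C} ≤ 1 :=
    Finite.card_le_one_iff_subsingleton.2 ⟨fun x y => Subtype.ext ((hC x.1 x.2).trans (hC y.1 y.2).symm)⟩
  rw [H27.card_fixed_classes_eq_card_fixed_irr] at h1
  have := Finite.card_le_one_iff_subsingleton.1 h1
  have h2 : (⟨φ, congrArg Subtype.val h⟩ :
      {χ : Cfsg.IrrCharacter S.H // (χ : S.H → ℂ) ∘ (S.conjH d) = (χ : S.H → ℂ)}) =
      ⟨H26.oneIrr S.H, rfl⟩ := Subsingleton.elim _ _
  exact hφ (congrArg Subtype.val h2)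

lemma cj_injective {φ : Cfsg.IrrCharacter S.H} (hφ : φ ≠ H26.oneIrr S.H) :
    Function.Injective fun d : S.D => S.cj d φ := by
  intro c d h
  simp only at h
  have h2 := congrArg (S.cj d⁻¹) h
  rw [← S.cj_mul, ← S.cj_mul, inv_mul_cancel, S.cj_one] at h2
  exact (inv_mul_eq_one.1 (S.eq_one_of_cj_eq hφ h2)).symm

/-- Being conjugate under `D`. -/
def SameOrbit (φ φ' : Cfsg.IrrCharacter S.H) : Prop := ∃ d : S.D, S.cj d φ' = φ

lemma sameOrbit_refl (φ : Cfsg.IrrCharacter S.H) : S.SameOrbit φ φ := ⟨1, S.cj_one φ⟩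

lemma degOf_cj [Finite G] (d : S.D) (φ : Cfsg.IrrCharacter S.H) : degOf (S.cj d φ) = degOf φ := by
  have h : (S.cj d φ).1 1 = φ.1 1 := by rw [S.cj_apply, map_one]
  rw [degOf_spec, degOf_spec] at h
  exact_mod_cast h

variable [Fintype G]

omit [Fintype G] in
lemma conj_mem_H_iff {x u : G} (hu : u ∈ S.H) (hu1 : u ≠ 1) :
    x⁻¹ * u * x ∈ S.H ↔ x ∈ S.N := by
  refine ⟨fun h => ?_, fun h => ?_⟩
  · have := S.mem_N_of_conj_mem_H hu hu1 (g := x⁻¹) (by rwa [inv_inv])
    simpa using inv_mem this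
  · have := S.conj_mem_H (inv_mem h) hu
    rwa [inv_inv] at this

/-- The induced character of a character of `H` on a non-identity element of `H`. -/
lemma indFun_H_apply (φ : Cfsg.IrrCharacter S.H) {u : S.H} (hu : u ≠ 1) :
    Cfsg.indFun S.H φ.1 u = ∑ d : S.D, (S.cj d φ).1 u := by
  have hu' : (u : G) ≠ 1 := fun h => hu (Subtype.ext h)
  have hh : (Nat.card S.H : ℂ) ≠ 0 := Nat.cast_ne_zero.2 Nat.card_pos.ne'
  rw [H25.indFun_apply, ← Finset.sum_filter_add_sum_filter_not Finset.univ (fun x : G => x ∈ S.N),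
    Finset.sum_eq_zero (s := Finset.univ.filter fun x : G => ¬ x ∈ S.N) (fun x hx =>
      H25.extendByZero_of_notMem _ _ fun h => (Finset.mem_filter.1 hx).2 ((S.conj_mem_H_iff u.2 hu').1 h)),
    add_zero, Finset.sum_subtype (p := (· ∈ S.N)) _ (by simp),
    ← Fintype.sum_equiv S.stabEquiv (fun p => Cfsg.extendByZero S.H φ.1
      (((p.1 : G) * p.2)⁻¹ * u * ((p.1 : G) * p.2))) _ (fun p => rfl),
    Fintype.sum_prod_type, Finset.sum_comm, Finset.mul_sum]
  refine Finset.sum_congr rfl fun d _ => ?_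
  rw [Finset.sum_congr rfl (g := fun _ => (S.cj d φ).1 u) (fun v _ => ?_), Finset.sum_const,
    Finset.card_univ, ← Nat.card_eq_fintype_card, nsmul_eq_mul, inv_mul_cancel_left₀ hh]
  rw [show ((v : G) * d)⁻¹ * u * ((v : G) * d) = (S.conjH d (v⁻¹ * u * v) : G) by
      simp [coe_conjH, mul_assoc], H25.extendByZero_apply_coe, ← S.cj_apply]
  simpa using H26.irr_conj (S.cj d φ) u v⁻¹

lemma indFun_H_one (φ : Cfsg.IrrCharacter S.H) :
    Cfsg.indFun S.H φ.1 1 = ((S.h : ℂ) + 1) * S.e * φ.1 1 := by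
  rw [H25.indFun_one]
  congr 1
  have h1 := S.H.index_mul_card
  rw [S.card_G] at h1
  have h2 : S.H.index = (S.h + 1) * S.e := by
    refine Nat.eq_of_mul_eq_mul_right (show 0 < Nat.card S.H from Nat.card_pos) ?_
    rw [h1, ZSetup.h]; ring
  rw [h2]; push_cast; rfl

/-- Inner products of characters induced from `H`. -/
lemma classInner_indFun_H {φ φ' : Cfsg.IrrCharacter S.H} (hφ' : φ' ≠ H26.oneIrr S.H) :
    Cfsg.classInner (Cfsg.indFun S.H φ.1) (Cfsg.indFun S.H φ'.1) =
      φ.1 1 * φ'.1 1 * S.e + (if S.SameOrbit φ φ' then 1 else 0) := by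
  rw [H25.classInner_indFun_left _ _ _ (H25.isClassFunction_indFun _ _), Cfsg.classInner]
  have hval : ∀ u : S.H, φ.1 u * conj (Cfsg.indFun S.H φ'.1 u) =
      ∑ d : S.D, φ.1 u * conj ((S.cj d φ').1 u) +
        (if u = 1 then φ.1 1 * φ'.1 1 * ((S.h : ℂ) * S.e) else 0) := by
    intro u
    split_ifs with hu
    · subst hu
      rw [Subgroup.coe_one, S.indFun_H_one, Finset.sum_congr rfl (g := fun _ => φ.1 1 * conj (φ'.1 1))
        (fun d _ => by rw [S.cj_apply, map_one]), Finset.sum_const, Finset.card_univ,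
        ← Nat.card_eq_fintype_card, nsmul_eq_mul]
      simp only [degOf_spec, map_mul, map_add, map_natCast, map_one, ZSetup.e]
      ring
    · rw [add_zero, S.indFun_H_apply φ' hu, map_sum, Finset.mul_sum]
  rw [Finset.sum_congr rfl (fun u _ => hval u), Finset.sum_add_distrib, Finset.sum_comm, mul_add,
    Finset.mul_sum, Finset.sum_ite_eq', if_pos (Finset.mem_univ _)]
  have hd : ∀ d : S.D, (Nat.card S.H : ℂ)⁻¹ * ∑ u : S.H, φ.1 u * conj ((S.cj d φ').1 u) =
      if φ = S.cj d φ' then 1 else 0 := fun d => H26.classInner_irr φ (S.cj d φ')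
  rw [Finset.sum_congr rfl (fun d _ => hd d), Finset.sum_boole, add_comm]
  congr 1
  · change (S.h : ℂ)⁻¹ * _ = _
    field_simp [S.h_ne_zero]
  · split_ifs with ho
    · obtain ⟨d, hd'⟩ := ho
      have : (Finset.univ.filter fun c => φ = S.cj c φ') = {d} := by
        ext c
        simp only [Finset.mem_filter, Finset.mem_univ, true_and, Finset.mem_singleton]
        exact ⟨fun h => S.cj_injective hφ' (h.symm.trans hd'.symm), fun h => h ▸ hd'.symm⟩
      rw [this]; simp
    · have : (Finset.univ.filter fun c => φ = S.cj c φ') = ∅ :=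
        Finset.filter_eq_empty_iff.2 fun c _ h => ho ⟨c, h.symm⟩
      rw [this]; simp

/-- The multiplicity of a character of `H` in a restriction. -/
noncomputable def mult (χ : Cfsg.IrrCharacter G) (φ : Cfsg.IrrCharacter S.H) : ℕ :=
  (H26.exists_nat_classInner_irr (χ := fun u : S.H => χ.1 u)
    (H26.isCharacter_comp (H26.irr_isCharacter χ) S.H.subtype) φ).choose

lemma mult_spec (χ : Cfsg.IrrCharacter G) (φ : Cfsg.IrrCharacter S.H) :
    Cfsg.classInner (fun u : S.H => χ.1 u) φ.1 = (S.mult χ φ : ℂ) :=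
  (H26.exists_nat_classInner_irr (χ := fun u : S.H => χ.1 u)
    (H26.isCharacter_comp (H26.irr_isCharacter χ) S.H.subtype) φ).choose_spec

lemma classInner_indFun_mult (χ : Cfsg.IrrCharacter G) (φ : Cfsg.IrrCharacter S.H) :
    Cfsg.classInner (Cfsg.indFun S.H φ.1) χ.1 = (S.mult χ φ : ℂ) := by
  rw [H25.classInner_indFun_left _ _ _ (H26.irr_isClassFunction χ), H26.classInner_comm, S.mult_spec,
    map_natCast]

lemma sum_mult_mul (φ φ' : Cfsg.IrrCharacter S.H) :
    Cfsg.classInner (Cfsg.indFun S.H φ.1) (Cfsg.indFun S.H φ'.1) =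
      ∑ χ : Cfsg.IrrCharacter G, (S.mult χ φ : ℂ) * (S.mult χ φ' : ℂ) := by
  rw [H26.classInner_eq_sum _ _ (H25.isClassFunction_indFun _ _)]
  refine Finset.sum_congr rfl fun χ _ => ?_
  rw [S.classInner_indFun_mult, S.classInner_indFun_mult, map_natCast]

lemma sum_mult_deg (φ : Cfsg.IrrCharacter S.H) :
    ∑ χ : Cfsg.IrrCharacter G, (S.mult χ φ : ℂ) * χ.1 1 = ((S.h : ℂ) + 1) * S.e * φ.1 1 := by
  have h := congrFun (H26.class_function_expansion _ (H25.isClassFunction_indFun S.H φ.1)) 1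
  rw [S.indFun_H_one, Finset.sum_apply] at h
  rw [h]
  exact Finset.sum_congr rfl fun χ _ => by rw [Pi.smul_apply, smul_eq_mul, S.classInner_indFun_mult]

/-- The number of square roots. -/
noncomputable def roots {K : Type*} [Group K] [Fintype K] (g : K) : ℕ :=
  (Finset.univ.filter fun s : K => s * s = g).card

omit [Fintype G] in
/-- Indicators paired with a restriction to a subgroup. -/
lemma sum_fs_mul_classInner [Fintype G] (K : Subgroup G) [Fintype K] (θ : K → ℂ) :
    ∑ χ : Cfsg.IrrCharacter G, H26.fsIndicator χ.1 * Cfsg.classInner (fun k : K => χ.1 k) θ =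
      (Nat.card K : ℂ)⁻¹ * ∑ k : K, (roots (k : G) : ℂ) * conj (θ k) := by
  have hroots : ∀ k : K, (roots (k : G) : ℂ) =
      ∑ χ : Cfsg.IrrCharacter G, H26.fsIndicator χ.1 * χ.1 k := fun k => by
    rw [← H26.card_sqrt_eq_sum, roots]
  simp only [Cfsg.classInner, hroots, Finset.sum_mul, Finset.mul_sum]
  rw [Finset.sum_comm]
  exact Finset.sum_congr rfl fun k _ => Finset.sum_congr rfl fun χ _ => by ring

variable [IsSimpleGroup G] (hodd : Odd S.e)
include hodd

lemma roots_H {u : S.H} (hu : u ≠ 1) : roots (u : G) = roots u := by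
  symm
  refine Finset.card_bij (fun s _ => (s : G)) (fun s hs => ?_)
    (fun s _ t _ h => Subtype.val_injective h) (fun s hs => ?_)
  · simp only [Finset.mem_filter] at hs ⊢
    exact ⟨Finset.mem_univ _, congrArg Subtype.val hs.2⟩
  · simp only [Finset.mem_filter] at hs
    have hsH : s ∈ S.H := S.mem_H_of_commute u.2 (fun h => hu (Subtype.ext h))
      (by rw [← hs.2, mul_assoc])
    exact ⟨⟨s, hsH⟩, by simp only [Finset.mem_filter]; exact ⟨Finset.mem_univ _, Subtype.ext hs.2⟩, rfl⟩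

lemma roots_D {d : S.D} (hd : d ≠ 1) : roots (d : G) = 1 := by
  have hd' : (d : G) ≠ 1 := fun h => hd (Subtype.ext h)
  have hcop : ∀ s : S.D, Nat.Coprime 2 (orderOf s) := fun s =>
    (Nat.coprime_two_left.2 hodd).coprime_dvd_right (orderOf_dvd_natCard s)
  obtain ⟨j, hj⟩ := exists_pow_eq_self_of_coprime (x := d) (n := 2) (hcop d)
  rw [roots, Finset.card_eq_one]
  refine ⟨((d ^ j : S.D) : G), ?_⟩
  ext s
  simp only [Finset.mem_filter, Finset.mem_univ, true_and, Finset.mem_singleton]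
  constructor
  · intro hs
    have hsD : s ∈ S.D := S.mem_D_of_commute hodd d.2 hd' (by rw [← hs, mul_assoc])
    have h2 : (⟨s, hsD⟩ : S.D) ^ 2 = (d ^ j) ^ 2 := by
      rw [← pow_mul, mul_comm, pow_mul, hj, pow_two]
      exact Subtype.ext hs
    have hinj : Function.Injective fun x : S.D => x ^ 2 :=
      Finite.injective_iff_surjective.2 fun x => by
        obtain ⟨i, hi⟩ := exists_pow_eq_self_of_coprime (x := x) (n := 2) (hcop x)
        exact ⟨x ^ i, by show (x ^ i) ^ 2 = x; rw [← pow_mul, mul_comm, pow_mul, hi]⟩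
    exact congrArg Subtype.val (hinj h2)
  · rintro rfl
    have : (d ^ j) * (d ^ j) = d := by rw [← pow_two, ← pow_mul, mul_comm, pow_mul, hj]
    exact congrArg Subtype.val this

lemma roots_one : roots (1 : G) = roots (1 : S.H) + S.h * S.e := by
  have h1 : roots (1 : G) = S.inv2.card + 1 := by
    have : (Finset.univ.filter fun s : G => s * s = 1) = insert 1 S.inv2 := by
      ext s
      simp only [Finset.mem_filter, Finset.mem_univ, true_and, Finset.mem_insert, mem_inv2]
      refine ⟨fun hs => ?_, fun h => ?_⟩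
      · by_cases hs1 : s = 1
        · exact Or.inl hs1
        · exact Or.inr (orderOf_eq_prime (by rw [pow_two, hs]) hs1)
      · rcases h with rfl | h
        · simp
        · rw [← pow_two, ← h, pow_orderOf_eq_one]
    rw [roots, this, Finset.card_insert_of_notMem (by simp [mem_inv2])]
  have h2 : roots (1 : S.H) = 1 + (S.inv2.filter fun t => t • S.a = S.a).card := by
    have : (Finset.univ.filter fun s : S.H => s * s = 1).map ⟨Subtype.val, Subtype.val_injective⟩ =
        insert 1 (S.inv2.filter fun t => t • S.a = S.a) := by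
      ext s
      simp only [Finset.mem_map, Finset.mem_filter, Finset.mem_univ, true_and, Finset.mem_insert,
        Function.Embedding.coeFn_mk, mem_inv2]
      constructor
      · rintro ⟨x, hx, rfl⟩
        by_cases hx1 : (x : G) = 1
        · exact Or.inl hx1
        · exact Or.inr ⟨orderOf_eq_prime (by rw [pow_two]; exact congrArg Subtype.val hx) hx1,
            S.mem_N.1 (S.hHa x.2)⟩
      · rintro (rfl | ⟨hs, hsa⟩)
        · exact ⟨1, by simp, rfl⟩
        · have hsH : s ∈ S.H := S.mem_H_of_free hsa fun y hy =>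
            S.involution_fix_unique hodd hs hy hsa
          exact ⟨⟨s, hsH⟩, Subtype.ext (by rw [Subgroup.coe_mul, Subgroup.coe_one, ← pow_two, ← hs,
            pow_orderOf_eq_one]), rfl⟩
    have h3 := congrArg Finset.card this
    rw [Finset.card_map, Finset.card_insert_of_notMem (by simp [mem_inv2]), add_comm] at h3
    convert h3 using 1
    unfold roots
    congr!
  rw [h1, h2, S.card_inv2 hodd]
  split_ifs with he
  · have h4 := S.card_inv2_fixing hodd he S.a
    rw [show (S.inv2.filter fun t => t • S.a = S.a).card = S.e by convert h4 using 3]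
    ring
  · have : (S.inv2.filter fun t => t • S.a = S.a) = ∅ := Finset.filter_eq_empty_iff.2 fun t ht hta => by
      have h := S.card_fixedBy_involution hodd (S.mem_inv2.1 ht)
      rw [if_neg he, Nat.card_eq_fintype_card, Fintype.card_eq_zero_iff] at h
      exact h.false ⟨S.a, hta⟩
    rw [this, Finset.card_empty]; ring

omit [IsSimpleGroup G] hodd in
lemma sum_roots_eq : ∑ u : S.H, roots u = S.h := by
  have h := Finset.card_eq_sum_card_fiberwise (f := fun s : S.H => s * s) (s := Finset.univ)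
    (t := Finset.univ) (fun x _ => Finset.mem_univ _)
  rw [Finset.card_univ, ← Nat.card_eq_fintype_card] at h
  rw [show S.h = Nat.card S.H from rfl, h]
  unfold roots
  congr!

/-- Indicators weighted by the multiplicities. -/
lemma sum_fs_mult (φ : Cfsg.IrrCharacter S.H) :
    ∑ χ : Cfsg.IrrCharacter G, H26.fsIndicator χ.1 * (S.mult χ φ : ℂ) =
      H26.fsIndicator φ.1 + φ.1 1 * S.e := by
  rw [Finset.sum_congr rfl (fun χ _ => by rw [← S.mult_spec χ φ]), sum_fs_mul_classInner]
  have h1 : ∀ u : S.H, (roots (u : G) : ℂ) * conj (φ.1 u) =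
      (roots u : ℂ) * φ.1 u⁻¹ + (if u = 1 then ((S.h : ℂ) * S.e) * φ.1 1 else 0) := by
    intro u
    split_ifs with hu
    · subst hu
      rw [Subgroup.coe_one, S.roots_one hodd, inv_one, degOf_spec, map_natCast]
      push_cast; ring
    · rw [S.roots_H hodd hu, H26.irr_inv, add_zero]
  rw [Finset.sum_congr rfl (fun u _ => h1 u), Finset.sum_add_distrib, Finset.sum_ite_eq',
    if_pos (Finset.mem_univ _), mul_add]
  congr 1
  · rw [H26.fsIndicator]
    congr 1
    have h2 : ∑ u : S.H, (roots u : ℂ) * φ.1 u⁻¹ = ∑ s : S.H, φ.1 (s * s)⁻¹ := by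
      unfold roots
      rw [← Finset.sum_fiberwise Finset.univ (fun s : S.H => s * s) (fun s => φ.1 (s * s)⁻¹)]
      refine Finset.sum_congr rfl fun u _ => ?_
      rw [Finset.sum_congr rfl (g := fun _ => φ.1 u⁻¹) (fun s hs => by rw [(Finset.mem_filter.1 hs).2]),
        Finset.sum_const, nsmul_eq_mul]
      congr!
    rw [h2]
    exact Fintype.sum_equiv (Equiv.inv S.H) _ _ fun s => by rw [Equiv.inv_apply, mul_inv_rev]
  · change (S.h : ℂ)⁻¹ * _ = _
    field_simp [S.h_ne_zero]

/-- The indicators of the induced characters. -/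
lemma sum_fs_xi (l : Cfsg.IrrCharacter S.D) :
    ∑ χ : Cfsg.IrrCharacter G, H26.fsIndicator χ.1 * Cfsg.classInner χ.1 (S.xi hodd l) =
      1 + (if l = H26.oneIrr S.D then 1 else 0) := by
  have h0 : ∀ χ : Cfsg.IrrCharacter G, Cfsg.classInner χ.1 (S.xi hodd l) =
      Cfsg.classInner (fun n : S.N => χ.1 n) (S.lamN l) := fun χ =>
    H25.classInner_indFun_right S.N (S.lamN l) χ.1 (H26.irr_isClassFunction χ)
  rw [Finset.sum_congr rfl (fun χ _ => by rw [h0 χ]), sum_fs_mul_classInner S.N (S.lamN l)]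
  let F : G → ℂ := fun g => (roots g : ℂ) * conj (Cfsg.extendByZero S.N (S.lamN l) g)
  have hF : ∀ n : S.N, (roots (n : G) : ℂ) * conj (S.lamN l n) = F n := fun n => by
    simp only [F, H25.extendByZero_apply_coe]
  rw [Finset.sum_congr rfl (fun n _ => hF n), S.sum_N F (fun x hx g => ?_)]
  · have h1 : ∑ u : S.H, F u = (S.h : ℂ) + (S.h : ℂ) * S.e := by
      have hu : ∀ u : S.H, F u = (roots u : ℂ) + if u = 1 then (S.h : ℂ) * S.e else 0 := fun u => by
        simp only [F]
        rw [H25.extendByZero_of_mem _ _ (S.hHa u.2), lamN, S.projD_H u.2, S.l_one hodd, map_one, mul_one]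
        split_ifs with hu
        · subst hu
          rw [Subgroup.coe_one, S.roots_one hodd]
          push_cast; ring
        · rw [S.roots_H hodd hu, add_zero]
      rw [Finset.sum_congr rfl (fun u _ => hu u), Finset.sum_add_distrib, Finset.sum_ite_eq',
        if_pos (Finset.mem_univ _), ← Nat.cast_sum, S.sum_roots_eq]
    have h2 : ∑ d ∈ Finset.univ.erase (1 : S.D), F d =
        (if l = H26.oneIrr S.D then (S.e : ℂ) else 0) - 1 := by
      have h := S.sum_mul_conj_D hodd (H26.oneIrr S.D) l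
      rw [if_congr (eq_comm (a := l)) rfl rfl, ← h]
      refine Finset.sum_congr rfl fun d hd => ?_
      simp only [F, H26.oneIrr_val]
      rw [S.roots_D hodd (Finset.mem_erase.1 hd).1, Nat.cast_one,
        H25.extendByZero_of_mem _ _ d.2.1, lamN, S.projD_D (n := ⟨(d : G), d.2.1⟩) d.2]
    rw [h1, h2, S.card_N, nsmul_eq_mul, Nat.cast_mul]
    have := S.e_ne_zero
    have := S.h_ne_zero
    split_ifs <;> field_simp <;> ring
  · have hxN := S.hHa hx
    have hr : roots (x * g * x⁻¹) = roots g := by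
      refine (Finset.card_bij (fun s _ => x * s * x⁻¹) (fun s hs => ?_)
        (fun s _ t _ h => mul_left_cancel (mul_right_cancel h))
        (fun s hs => ⟨x⁻¹ * s * x, ?_, by group⟩)).symm
      · rw [Finset.mem_filter] at hs ⊢
        refine ⟨Finset.mem_univ _, ?_⟩
        rw [← hs.2]; group
      · rw [Finset.mem_filter] at hs ⊢
        refine ⟨Finset.mem_univ _, ?_⟩
        calc x⁻¹ * s * x * (x⁻¹ * s * x) = x⁻¹ * (s * s) * x := by group
          _ = g := by rw [hs.2]; group
    simp only [F]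
    rw [hr]
    congr 2
    by_cases hg : g ∈ S.N
    · rw [H25.extendByZero_of_mem _ _ (mul_mem (mul_mem hxN hg) (inv_mem hxN)),
        H25.extendByZero_of_mem _ _ hg]
      exact S.isClassFunction_lamN l ⟨g, hg⟩ ⟨x, hxN⟩
    · rw [H25.extendByZero_of_notMem _ _ hg, H25.extendByZero_of_notMem _ _ fun h => hg ?_]
      have := mul_mem (mul_mem (inv_mem hxN) h) hxN
      simpa [mul_assoc] using this

lemma fs_X (l : Cfsg.IrrCharacter S.D) : H26.fsIndicator (S.X hodd l).1 = 1 := by
  have h := S.sum_fs_xi hodd l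
  simp only [S.xi_eq hodd l, H26.classInner_add_right, H26.classInner_smul_right, H26.classInner_irr,
    mul_add, mul_ite, mul_one, mul_zero, Finset.sum_add_distrib, Finset.sum_ite_eq',
    Finset.mem_univ, if_true] at h
  have h1 : H26.fsIndicator (H26.oneIrr G).1 = 1 := by
    simp only [H26.fsIndicator, H26.oneIrr_val, Finset.sum_const, Finset.card_univ, nsmul_eq_mul, mul_one]
    rw [← Nat.card_eq_fintype_card, inv_mul_cancel₀ (Nat.cast_ne_zero.2 Nat.card_pos.ne')]
  rw [h1] at h
  split_ifs at h <;> simpa using h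

lemma fs_oneIrr : H26.fsIndicator (H26.oneIrr G).1 = 1 := by
  simp only [H26.fsIndicator, H26.oneIrr_val, Finset.sum_const, Finset.card_univ, nsmul_eq_mul, mul_one]
  rw [← Nat.card_eq_fintype_card, inv_mul_cancel₀ (Nat.cast_ne_zero.2 Nat.card_pos.ne')]

lemma mult_oneIrr {φ : Cfsg.IrrCharacter S.H} (hφ : φ ≠ H26.oneIrr S.H) :
    S.mult (H26.oneIrr G) φ = 0 := by
  have h := S.mult_spec (H26.oneIrr G) φ
  have h2 : Cfsg.classInner (fun u : S.H => (H26.oneIrr G).1 u) φ.1 =
      Cfsg.classInner (H26.oneIrr S.H).1 φ.1 := rfl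
  rw [h2, H26.classInner_irr, if_neg (Ne.symm hφ)] at h
  exact_mod_cast h.symm

lemma classInner_xi_H (l : Cfsg.IrrCharacter S.D) {φ : Cfsg.IrrCharacter S.H}
    (hφ : φ ≠ H26.oneIrr S.H) :
    Cfsg.classInner (fun u : S.H => S.xi hodd l u) φ.1 = φ.1 1 := by
  have h1 : (fun u : S.H => S.xi hodd l u) =
      (H26.oneIrr S.H).1 + fun u => if u = 1 then (S.h : ℂ) else 0 := by
    funext u
    simp only [Pi.add_apply, H26.oneIrr_val]
    split_ifs with hu
    · subst hu; rw [Subgroup.coe_one, S.xi_one hodd, add_comm]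
    · rw [S.xi_H hodd l u.2 (fun h => hu (Subtype.ext h)), add_zero]
  rw [h1, H26.classInner_add_left, H26.classInner_irr, if_neg (Ne.symm hφ), zero_add, Cfsg.classInner]
  simp only [ite_mul, zero_mul, Finset.sum_ite_eq', Finset.mem_univ, if_true, degOf_spec, map_natCast]
  change (S.h : ℂ)⁻¹ * _ = _
  field_simp [S.h_ne_zero]

lemma mult_X (l : Cfsg.IrrCharacter S.D) {φ : Cfsg.IrrCharacter S.H}
    (hφ : φ ≠ H26.oneIrr S.H) : S.mult (S.X hodd l) φ = degOf φ := by
  have h := S.classInner_xi_H hodd l hφ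
  have h2 : (fun u : S.H => S.xi hodd l u) = (fun u : S.H => (S.X hodd l).1 u) +
      (if l = H26.oneIrr S.D then (1 : ℂ) else 0) • fun u : S.H => (H26.oneIrr G).1 u := by
    funext u
    rw [S.xi_eq hodd l]; rfl
  rw [h2, H26.classInner_add_left, H26.classInner_smul_left, S.mult_spec, S.mult_spec,
    S.mult_oneIrr hodd hφ, Nat.cast_zero, mul_zero, add_zero, degOf_spec] at h
  exact_mod_cast h

/-- Half of `e - 1`. -/
noncomputable def kk (_hodd : Odd S.e) : ℕ := S.e / 2

omit [Fintype G] [IsSimpleGroup G] in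
lemma e_eq : S.e = 2 * S.kk hodd + 1 := by
  obtain ⟨m, hm⟩ := hodd
  show S.e = 2 * (S.e / 2) + 1
  omega

omit [Fintype G] [IsSimpleGroup G] in
lemma kk_pos : 1 ≤ S.kk hodd := by
  have := S.e_eq hodd
  have := S.two_le_e
  omega

lemma sum_split (f : Cfsg.IrrCharacter G → ℂ) :
    ∑ χ, f χ = ∑ χ ∈ S.rest hodd, f χ + ∑ χ ∈ S.others hodd, f χ :=
  (Finset.sum_filter_add_sum_filter_not _ _ _).symm

lemma two_mul_sum_others_const (f : Cfsg.IrrCharacter G → ℂ) (c c1 c0 : ℂ)
    (h0 : f (H26.oneIrr G) = c0) (hpi : f (S.X hodd (H26.oneIrr S.D)) = c1)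
    (hX : ∀ l, l ≠ H26.oneIrr S.D → f (S.X hodd l) = c) :
    ∑ χ ∈ S.others hodd, f χ = c0 + c1 + (S.kk hodd : ℂ) * c := by
  have h := S.two_mul_sum_others hodd f
  rw [← Finset.add_sum_erase _ _ (Finset.mem_univ (H26.oneIrr S.D)),
    Finset.sum_congr rfl (g := fun _ => c) (fun l hl => hX l (Finset.mem_erase.1 hl).1),
    Finset.sum_const, h0, hpi, nsmul_eq_mul] at h
  have hc : ((Finset.univ.erase (H26.oneIrr S.D)).card : ℂ) = 2 * (S.kk hodd : ℂ) := by
    rw [Finset.card_erase_of_mem (Finset.mem_univ _)]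
    have h1 : Fintype.card (Cfsg.IrrCharacter S.D) = S.e := by exact_mod_cast S.card_irr_D hodd
    rw [Finset.card_univ, h1, S.e_eq hodd, Nat.add_sub_cancel]
    push_cast; ring
  rw [hc] at h
  linear_combination h / 2

/-- The inner products of the multiplicity vectors. -/
lemma rest_gram {φ φ' : Cfsg.IrrCharacter S.H} (hφ : φ ≠ H26.oneIrr S.H)
    (hφ' : φ' ≠ H26.oneIrr S.H) :
    ∑ χ ∈ S.rest hodd, S.mult χ φ * S.mult χ φ' =
      (if S.SameOrbit φ φ' then 1 else 0) + degOf φ * degOf φ' * S.kk hodd := by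
  have h := S.sum_mult_mul φ φ'
  rw [S.classInner_indFun_H hφ', S.sum_split hodd, S.two_mul_sum_others_const hodd _
    ((degOf φ : ℂ) * degOf φ') ((degOf φ : ℂ) * degOf φ') 0
    (by rw [S.mult_oneIrr hodd hφ]; simp) (by rw [S.mult_X hodd _ hφ, S.mult_X hodd _ hφ'])
    (fun l _ => by rw [S.mult_X hodd _ hφ, S.mult_X hodd _ hφ']), degOf_spec, degOf_spec,
    show (S.e : ℂ) = 2 * S.kk hodd + 1 by exact_mod_cast S.e_eq hodd] at h
  apply Nat.cast_injective (R := ℂ)
  push_cast
  linear_combination -h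

/-- The degrees weighted by the multiplicities. -/
lemma rest_deg {φ : Cfsg.IrrCharacter S.H} (hφ : φ ≠ H26.oneIrr S.H) :
    ∑ χ ∈ S.rest hodd, S.mult χ φ * degOf χ = degOf φ * ((S.h + 1) * S.kk hodd + 1) := by
  have hpi : (S.X hodd (H26.oneIrr S.D)).1 1 = S.h := by
    rw [S.X_one_val hodd, Pi.sub_apply, S.xi_one hodd, H26.oneIrr_val, add_sub_cancel_right]
  have hX : ∀ l, l ≠ H26.oneIrr S.D → (S.X hodd l).1 1 = (S.h : ℂ) + 1 := fun l hl => by
    rw [S.X_val hodd hl, S.xi_one hodd]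
  have h := S.sum_mult_deg φ
  rw [S.sum_split hodd, S.two_mul_sum_others_const hodd _ ((degOf φ : ℂ) * ((S.h : ℂ) + 1))
    ((degOf φ : ℂ) * S.h) 0 (by rw [S.mult_oneIrr hodd hφ]; simp)
    (by rw [S.mult_X hodd _ hφ, hpi]) (fun l hl => by rw [S.mult_X hodd _ hφ, hX l hl]),
    degOf_spec, show (S.e : ℂ) = 2 * S.kk hodd + 1 by exact_mod_cast S.e_eq hodd] at h
  simp only [degOf_spec] at h
  apply Nat.cast_injective (R := ℂ)
  push_cast
  linear_combination h

/-- The indicators weighted by the multiplicities. -/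
lemma rest_fs {φ : Cfsg.IrrCharacter S.H} (hφ : φ ≠ H26.oneIrr S.H) :
    ∑ χ ∈ S.rest hodd, H26.fsIndicator χ.1 * (S.mult χ φ : ℂ) =
      H26.fsIndicator φ.1 + (degOf φ : ℂ) * S.kk hodd := by
  have h := S.sum_fs_mult hodd φ
  rw [S.sum_split hodd, S.two_mul_sum_others_const hodd _ (degOf φ : ℂ) (degOf φ : ℂ) 0
    (by rw [S.mult_oneIrr hodd hφ]; simp)
    (by rw [S.mult_X hodd _ hφ, S.fs_X hodd, one_mul])
    (fun l _ => by rw [S.mult_X hodd _ hφ, S.fs_X hodd, one_mul]), degOf_spec,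
    show (S.e : ℂ) = 2 * S.kk hodd + 1 by exact_mod_cast S.e_eq hodd] at h
  linear_combination h

/-- The sum of the squares of the degrees. -/
lemma rest_sq : (∑ χ ∈ S.rest hodd, (degOf χ : ℂ) ^ 2) =
    ((S.h : ℂ) - 1) * (((S.h : ℂ) + 1) * S.kk hodd + 1) := by
  have hpi : (S.X hodd (H26.oneIrr S.D)).1 1 = S.h := by
    rw [S.X_one_val hodd, Pi.sub_apply, S.xi_one hodd, H26.oneIrr_val, add_sub_cancel_right]
  have h := H26.sum_sq_degrees (G := G)
  rw [S.sum_split hodd, S.two_mul_sum_others_const hodd _ (((S.h : ℂ) + 1) ^ 2) ((S.h : ℂ) ^ 2) 1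
    (by simp [H26.oneIrr_val]) (by rw [hpi])
    (fun l hl => by rw [S.X_val hodd hl, S.xi_one hodd]), S.card_G] at h
  simp only [degOf_spec, Nat.cast_mul, Nat.cast_add, Nat.cast_one] at h
  rw [show (S.e : ℂ) = 2 * S.kk hodd + 1 by exact_mod_cast S.e_eq hodd] at h
  linear_combination h

/-- The characters of the rest vanish on `D` and have no fixed vectors on `H`. -/
lemma rest_vanish {χ : Cfsg.IrrCharacter G} (hχ : χ ∈ S.rest hodd) :
    ∑ u : S.H, χ.1 u = 0 ∧ ∀ d : S.D, d ≠ 1 → χ.1 d = 0 := by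
  have hl : ∀ l : Cfsg.IrrCharacter S.D, ∑ u : S.H, conj (χ.1 u) +
      (S.h : ℂ) * ∑ d ∈ Finset.univ.erase (1 : S.D), l.1 d * conj (χ.1 d) = 0 := fun l => by
    have h := (S.mem_rest hodd).1 hχ l
    rw [S.classInner_xi hodd l (H26.irr_isClassFunction χ)] at h
    exact (mul_eq_zero.1 h).resolve_left (inv_ne_zero (mul_ne_zero S.h_ne_zero S.e_ne_zero))
  -- a function on `D` orthogonal to every character vanishes
  let f : S.D → ℂ := fun d => if d = 1 then ∑ u : S.H, conj (χ.1 u) else (S.h : ℂ) * conj (χ.1 d)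
  have hf : ∀ l : Cfsg.IrrCharacter S.D, ∑ d : S.D, l.1 d * f d = 0 := fun l => by
    rw [← Finset.add_sum_erase _ _ (Finset.mem_univ (1 : S.D)), S.l_one hodd, one_mul]
    simp only [f, if_true]
    rw [← hl l, Finset.mul_sum]
    congr 1
    refine Finset.sum_congr rfl fun d hd => ?_
    rw [if_neg (Finset.mem_erase.1 hd).1]; ring
  have hf0 : f = 0 := by
    have hcl : Cfsg.IsClassFunction S.D (fun d => conj (f d)) := fun x y => by
      have hxy : y * x * y⁻¹ = x := by
        rw [show y * x = x * y from Subtype.ext ((S.D_abelian hodd).1 y y.2 x x.2),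
          mul_inv_cancel_right]
      rw [hxy]
    have h0 : (fun d => conj (f d)) = 0 := H26.eq_zero_of_forall_classInner _ hcl fun l => by
      rw [Cfsg.classInner]
      have : ∑ d : S.D, conj (f d) * conj (l.1 d) = conj (∑ d : S.D, l.1 d * f d) := by
        rw [map_sum]; exact Finset.sum_congr rfl fun d _ => by rw [map_mul]; ring
      rw [this, hf l, map_zero, mul_zero]
    funext d
    have := congrFun h0 d
    simpa using this
  refine ⟨?_, fun d hd => ?_⟩
  · have h := congrFun hf0 1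
    simp only [f, if_true, Pi.zero_apply] at h
    rw [← map_sum, map_eq_zero] at h
    exact h
  · have h := congrFun hf0 d
    simp only [f, if_neg hd, Pi.zero_apply, mul_eq_zero, map_eq_zero] at h
    exact h.resolve_left S.h_ne_zero

lemma mult_one_rest {χ : Cfsg.IrrCharacter G} (hχ : χ ∈ S.rest hodd) :
    S.mult χ (H26.oneIrr S.H) = 0 := by
  have h := S.mult_spec χ (H26.oneIrr S.H)
  simp only [Cfsg.classInner, H26.oneIrr_val, map_one, mul_one, (S.rest_vanish hodd hχ).1,
    mul_zero] at h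
  exact_mod_cast h.symm

omit [IsSimpleGroup G] hodd in
/-- The restriction to `H` is determined by the multiplicities. -/
lemma restrict_eq (χ : Cfsg.IrrCharacter G) (u : S.H) :
    χ.1 u = ∑ φ : Cfsg.IrrCharacter S.H, (S.mult χ φ : ℂ) * φ.1 u := by
  have h := congrFun (H26.class_function_expansion (fun v : S.H => χ.1 v)
    (H26.isClassFunction_of_isCharacter (H26.isCharacter_comp (H26.irr_isCharacter χ) S.H.subtype))) u
  rw [h, Finset.sum_apply]
  exact Finset.sum_congr rfl fun φ _ => by rw [Pi.smul_apply, smul_eq_mul, S.mult_spec]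

omit [IsSimpleGroup G] hodd in
lemma degOf_eq_sum (χ : Cfsg.IrrCharacter G) :
    degOf χ = ∑ φ : Cfsg.IrrCharacter S.H, S.mult χ φ * degOf φ := by
  have h := S.restrict_eq χ 1
  rw [Subgroup.coe_one, degOf_spec] at h
  simp only [degOf_spec] at h
  exact_mod_cast h

lemma e_dvd_deg {χ : Cfsg.IrrCharacter G} (hχ : χ ∈ S.rest hodd) : S.e ∣ degOf χ := by
  obtain ⟨m, hm⟩ := H26.exists_nat_classInner_irr (χ := fun d : S.D => χ.1 d)
    (H26.isCharacter_comp (H26.irr_isCharacter χ) S.D.subtype) (H26.oneIrr S.D)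
  refine ⟨m, ?_⟩
  rw [Cfsg.classInner, Finset.sum_eq_single (1 : S.D) (fun d _ hd => by
      rw [(S.rest_vanish hodd hχ).2 d hd, zero_mul]) (fun h => absurd (Finset.mem_univ _) h)] at hm
  simp only [H26.oneIrr_val, map_one, mul_one, Subgroup.coe_one, degOf_spec] at hm
  change (S.e : ℂ)⁻¹ * _ = _ at hm
  rw [inv_mul_eq_iff_eq_mul₀ S.e_ne_zero] at hm
  exact_mod_cast hm

end ZSetup

end Cfsg.Agent.H39
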