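import Cfsg.Agent.H26.CharFS
import Cfsg.Agent.H26.CharLinear
import Cfsg.Agent.H25.CharValues
import Cfsg.Agent.H19.Misc
import Cfsg.Agent.H39.ZassGram
import Mathlib.GroupTheory.SchurZassenhaus
import Mathlib.GroupTheory.FiniteAbelian.Duality

/-!
# Irreducible characters of nilpotent groups: kernels, squares of degrees, Hall decompositions
-/

set_option autoImplicit false

namespace Cfsg.Agent.H39

open scoped ComplexConjugate Classical

variable {K : Type*} [Group K] [Fintype K]

/-- The character is constant on `A`, that is `A` lies in its kernel. -/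
def TrivOn (A : Subgroup K) (χ : Cfsg.IrrCharacter K) : Prop := ∀ a ∈ A, χ.1 a = χ.1 1

omit [Fintype K] in
lemma trivOn_oneIrr (A : Subgroup K) : TrivOn A (H26.oneIrr K) := fun _ _ => rfl

omit [Fintype K] in
lemma TrivOn.mono {A B : Subgroup K} (h : A ≤ B) {χ : Cfsg.IrrCharacter K} (hχ : TrivOn B χ) :
    TrivOn A χ := fun a ha => hχ a (h ha)

lemma TrivOn.mul_apply {A : Subgroup K} {χ : Cfsg.IrrCharacter K} (hχ : TrivOn A χ) {a : K}
    (ha : a ∈ A) (x : K) : χ.1 (a * x) = χ.1 x := by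
  obtain ⟨n, ρ, -, e⟩ := χ.2
  have h := hχ a ha
  rw [← e, Representation.char_one, H25.char_eq_degree_iff] at h
  rw [← e, Representation.character, map_mul, h]
  rfl

lemma TrivOn.sup {A B : Subgroup K} [A.Normal] {χ : Cfsg.IrrCharacter K} (hA : TrivOn A χ)
    (hB : TrivOn B χ) : TrivOn (A ⊔ B) χ := by
  intro x hx
  rw [← SetLike.mem_coe, Subgroup.normal_mul] at hx
  obtain ⟨a, ha, b, hb, rfl⟩ := hx
  rw [hA.mul_apply ha]
  exact hB b hb

/-- The sum of an irreducible character over a normal subgroup outside its kernel vanishes. -/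
lemma sum_eq_zero_of_not_trivOn (A : Subgroup K) [A.Normal] {χ : Cfsg.IrrCharacter K}
    (h : ¬ TrivOn A χ) : ∑ a : A, χ.1 a = 0 := by
  obtain ⟨n, ρ, hρ, e⟩ := χ.2
  haveI := hρ
  let P : Module.End ℂ (Fin n → ℂ) := ∑ a : A, ρ a
  have hcomm : ∀ g : K, P ∘ₗ ρ g = ρ g ∘ₗ P := fun g => by
    simp only [P, ← Module.End.mul_eq_comp, Finset.sum_mul, Finset.mul_sum, ← map_mul]
    refine Fintype.sum_equiv (MulAut.conjNormal g⁻¹).toEquiv _ _ fun a => ?_
    simp [MulAut.conjNormal_apply, mul_assoc]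
  have hP := H25.eq_smul_id_of_comm ρ P hcomm
  set c := LinearMap.trace ℂ _ P / (Module.finrank ℂ (Fin n → ℂ) : ℂ) with hc
  have habs : ∀ a : A, ρ a * P = P := fun a => by
    simp only [P, Finset.mul_sum, ← map_mul]
    exact Fintype.sum_equiv (Equiv.mulLeft a) _ _ fun b => by simp
  have htr : ∑ a : A, χ.1 a = LinearMap.trace ℂ _ P := by
    simp only [P, map_sum, ← e]
    rfl
  by_cases hc0 : c = 0
  · rw [htr, hP, hc0, zero_smul, map_zero]
  · refine absurd (fun a ha => ?_) h
    have h2 : ρ a ∘ₗ P = P := habs ⟨a, ha⟩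
    rw [hP, LinearMap.comp_smul, LinearMap.comp_id] at h2
    have h3 := smul_right_injective (Module.End ℂ (Fin n → ℂ)) hc0 h2
    rw [← e, Representation.char_one, Representation.character, h3, LinearMap.trace_id]

/-- The squares of the degrees of the characters trivial on `A` add up to the index of `A`. -/
lemma sum_sq_trivOn (A : Subgroup K) [A.Normal] :
    ∑ χ ∈ Finset.univ.filter (TrivOn A), degOf χ ^ 2 = A.index := by
  let f : K → ℂ := fun g => if g ∈ A then (A.index : ℂ) else 0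
  have hf : Cfsg.IsClassFunction K f := fun g x => by
    simp only [f]
    refine if_congr ?_ rfl rfl
    refine ⟨fun hx => ?_, fun hg => Subgroup.Normal.conj_mem ‹A.Normal› g hg x⟩
    have := Subgroup.Normal.conj_mem ‹A.Normal› _ hx x⁻¹
    simpa [mul_assoc] using this
  have hin : ∀ χ : Cfsg.IrrCharacter K, Cfsg.classInner f χ.1 =
      if TrivOn A χ then (degOf χ : ℂ) else 0 := by
    intro χ
    rw [Cfsg.classInner]
    simp only [f, ite_mul, zero_mul]
    rw [← Finset.sum_filter, Finset.sum_subtype (p := (· ∈ A)) _ (by simp), ← Finset.mul_sum,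
      ← map_sum, ← mul_assoc]
    have hi : (Nat.card K : ℂ)⁻¹ * (A.index : ℂ) = (Nat.card A : ℂ)⁻¹ := by
      rw [← A.card_mul_index, Nat.cast_mul, mul_inv, mul_assoc,
        inv_mul_cancel₀ (Nat.cast_ne_zero.2 A.index_ne_zero_of_finite), mul_one]
    rw [hi]
    split_ifs with h
    · rw [Finset.sum_congr rfl (g := fun _ : A => χ.1 1) (fun a _ => h a a.2), Finset.sum_const,
        Finset.card_univ, ← Nat.card_eq_fintype_card, nsmul_eq_mul, degOf_spec, map_mul,
        map_natCast, map_natCast, inv_mul_cancel_left₀ (Nat.cast_ne_zero.2 Nat.card_pos.ne')]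
    · rw [sum_eq_zero_of_not_trivOn A h, map_zero, mul_zero]
  have h1 := congrFun (H26.class_function_expansion f hf) 1
  simp only [Finset.sum_apply, Pi.smul_apply, hin, smul_eq_mul, ite_mul, zero_mul, degOf_spec] at h1
  rw [← Finset.sum_filter] at h1
  simp only [f, if_pos A.one_mem] at h1
  apply Nat.cast_injective (R := ℂ)
  rw [h1]
  push_cast
  exact Finset.sum_congr rfl fun χ _ => sq _

/-- Elements at which a character has maximal absolute value bound its degree. -/
lemma degOf_sq_mul_card_le (χ : Cfsg.IrrCharacter K) (s : Finset K)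
    (hs : ∀ x ∈ s, ‖χ.1 x‖ = (degOf χ : ℝ)) : degOf χ ^ 2 * s.card ≤ Nat.card K := by
  have h := H26.classInner_irr χ χ
  rw [if_pos rfl, Cfsg.classInner, inv_mul_eq_iff_eq_mul₀ (Nat.cast_ne_zero.2 Nat.card_pos.ne'),
    mul_one] at h
  have h' : ∑ x : K, ‖χ.1 x‖ ^ 2 = (Nat.card K : ℝ) := by
    have h2 := congrArg Complex.re h
    rw [Complex.re_sum, Complex.natCast_re] at h2
    rw [← h2]
    exact Finset.sum_congr rfl fun x _ => by
      rw [Complex.mul_conj, Complex.ofReal_re, Complex.normSq_eq_norm_sq]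
  have h3 : ((degOf χ : ℝ)) ^ 2 * s.card ≤ Nat.card K := by
    rw [← h', mul_comm, ← nsmul_eq_mul, ← Finset.sum_const]
    rw [Finset.sum_congr rfl (g := fun x => ‖χ.1 x‖ ^ 2) fun x hx => by rw [hs x hx]]
    exact Finset.sum_le_univ_sum_of_nonneg fun x => by positivity
  exact_mod_cast h3

lemma norm_eq_of_central {A : Subgroup K} {χ : Cfsg.IrrCharacter K} (hχ : TrivOn A χ) {a c : K}
    (ha : a ∈ A) (hc : c ∈ Subgroup.center K) : ‖χ.1 (a * c)‖ = (degOf χ : ℝ) := by
  rw [hχ.mul_apply ha]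
  have hd := degOf_spec χ
  obtain ⟨n, ρ, hρ, e⟩ := χ.2
  haveI := hρ
  rw [← e, Representation.char_one, Nat.cast_inj] at hd
  rw [← e, H25.norm_char_eq_of_scalar ρ c _ (H25.eq_smul_id_of_comm ρ (ρ c) fun g => ?_), hd]
  simp only [← Module.End.mul_eq_comp, ← map_mul, Subgroup.mem_center_iff.1 hc g]

lemma degOf_dvd_card (χ : Cfsg.IrrCharacter K) : degOf χ ∣ Nat.card K := by
  have hd := degOf_spec χ
  obtain ⟨n, ρ, hρ, e⟩ := χ.2
  haveI := hρ
  rw [← e, Representation.char_one, Nat.cast_inj] at hd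
  rw [← hd]
  exact H25.finrank_dvd_card ρ

lemma degOf_sq_le_card (χ : Cfsg.IrrCharacter K) : degOf χ ^ 2 ≤ Nat.card K := by
  have := degOf_sq_mul_card_le χ {1} (by simp [degOf_spec])
  simpa using this

/-- In a `p`-group the square of a degree divides the order. -/
lemma degOf_sq_dvd_card {p : ℕ} [hp : Fact p.Prime] (hK : IsPGroup p K) (χ : Cfsg.IrrCharacter K) :
    ∃ i : ℕ, degOf χ = p ^ i ∧ degOf χ ^ 2 ∣ Nat.card K := by
  obtain ⟨n, hn⟩ := IsPGroup.iff_card.1 hK
  have hdvd := degOf_dvd_card χ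
  rw [hn] at hdvd
  obtain ⟨i, -, hi⟩ := (Nat.dvd_prime_pow hp.out).1 hdvd
  refine ⟨i, hi, ?_⟩
  have hle := degOf_sq_le_card χ
  rw [hn, hi, ← pow_mul] at hle
  rw [hn, hi, ← pow_mul]
  exact pow_dvd_pow p ((Nat.pow_le_pow_iff_right hp.out.one_lt).1 hle)

lemma degOf_oneIrr : degOf (H26.oneIrr K) = 1 := by
  have h := degOf_spec (H26.oneIrr K)
  rw [H26.oneIrr_val] at h
  exact_mod_cast h.symm

/-- The number of linear characters is the index of the commutator subgroup. -/
lemma card_linear : (Finset.univ.filter fun χ : Cfsg.IrrCharacter K => degOf χ = 1).card =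
    (commutator K).index := by
  rw [← H26.card_linear_irr, ← Fintype.card_subtype, ← Nat.card_eq_fintype_card]
  exact Nat.card_congr (Equiv.subtypeEquivRight fun χ => by rw [degOf_spec, Nat.cast_eq_one])

/-- A proper normal subgroup of a nilpotent group lies in the kernel of a non-trivial linear
character. -/
lemma exists_linear_trivOn [Group.IsNilpotent K] (A : Subgroup K) [A.Normal] (hA : A ≠ ⊤) :
    ∃ χ : Cfsg.IrrCharacter K, χ ≠ H26.oneIrr K ∧ degOf χ = 1 ∧ TrivOn A χ := by
  haveI : Nontrivial (K ⧸ A) := QuotientGroup.nontrivial_iff.2 hA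
  haveI : Nontrivial (Abelianization (K ⧸ A)) := by
    by_contra hc
    rw [not_nontrivial_iff_subsingleton] at hc
    have : commutator (K ⧸ A) = ⊤ := QuotientGroup.subgroup_eq_top_of_subsingleton _ hc
    exact (Group.IsSolvable.commutator_lt_top_of_nontrivial (K ⧸ A)).ne this
  haveI : Finite (Abelianization (K ⧸ A)) := Finite.of_surjective _ (QuotientGroup.mk'_surjective _)
  obtain ⟨q, hq⟩ := exists_ne (1 : Abelianization (K ⧸ A))
  haveI : NeZero (Monoid.exponent (Abelianization (K ⧸ A))) := ⟨Monoid.exponent_ne_zero_of_finite⟩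
  obtain ⟨f, hf⟩ := CommGroup.exists_apply_ne_one_of_hasEnoughRootsOfUnity
    (Abelianization (K ⧸ A)) ℂ hq
  let g : K →* ℂˣ := f.comp (Abelianization.of.comp (QuotientGroup.mk' A))
  let χ : Cfsg.IrrCharacter K := ⟨fun x => (g x : ℂ), H26.isIrrCharacter_hom g⟩
  refine ⟨χ, fun h => hf ?_, ?_, fun a ha => ?_⟩
  · obtain ⟨y, rfl⟩ := QuotientGroup.mk'_surjective (commutator (K ⧸ A)) q
    obtain ⟨x, rfl⟩ := QuotientGroup.mk'_surjective A y
    exact Units.ext (congrFun (congrArg Subtype.val h) x)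
  · have h := degOf_spec χ
    simp only [χ, map_one, Units.val_one] at h
    exact_mod_cast h.symm
  · show ((f (Abelianization.of (QuotientGroup.mk' A a))) : ℂ) = (g 1 : ℂ)
    rw [show QuotientGroup.mk' A a = 1 from (QuotientGroup.eq_one_iff a).2 ha, map_one, map_one,
      map_one]

omit [Fintype K] in
/-- A normal Hall subgroup contains every element of compatible order. -/
lemma mem_of_hall [Finite K] (B : Subgroup K) [B.Normal] (hB : (Nat.card B).Coprime B.index) {x : K}
    (hx : orderOf x ∣ Nat.card B) : x ∈ B := by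
  rw [← QuotientGroup.eq_one_iff, ← orderOf_eq_one_iff]
  exact Nat.eq_one_of_dvd_coprimes hB ((orderOf_map_dvd (QuotientGroup.mk' B) x).trans hx)
    (B.index_eq_card ▸ orderOf_dvd_natCard _)

omit [Fintype K] in
/-- A normal Hall subgroup is invariant under all automorphisms. -/
lemma map_mem_of_hall [Finite K] (B : Subgroup K) [B.Normal] (hB : (Nat.card B).Coprime B.index)
    (α : K ≃* K) {x : K} (hx : x ∈ B) : α x ∈ B := by
  refine mem_of_hall B hB ?_
  rw [MulEquiv.orderOf_eq, ← Subgroup.orderOf_mk x hx]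
  exact orderOf_dvd_natCard _

/-- A decomposition of a group into two normal subgroups of coprime orders. -/
structure IsSplit (A B : Subgroup K) : Prop where
  nA : A.Normal
  nB : B.Normal
  sup : A ⊔ B = ⊤
  cop : (Nat.card A).Coprime (Nat.card B)

omit [Fintype K] in
lemma IsSplit.card_mul [Finite K] {A B : Subgroup K} (h : IsSplit A B) :
    Nat.card A * Nat.card B = Nat.card K := by
  haveI := h.nA
  refine (Subgroup.isComplement'_of_disjoint_and_mul_eq_univ
    (Subgroup.disjoint_of_coprime_natCard h.cop) ?_).card_mul_card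
  rw [← Subgroup.normal_mul, h.sup, Subgroup.coe_top]

omit [Fintype K] in
lemma IsSplit.coprime_index [Finite K] {A B : Subgroup K} (h : IsSplit A B) :
    (Nat.card B).Coprime B.index := by
  have h1 := B.index_mul_card
  rw [← h.card_mul] at h1
  rw [Nat.eq_of_mul_eq_mul_right Nat.card_pos h1]
  exact h.cop.symm

omit [Fintype K] in
lemma IsSplit.symm {A B : Subgroup K} (h : IsSplit A B) : IsSplit B A :=
  ⟨h.nB, h.nA, by rw [sup_comm, h.sup], h.cop.symm⟩

omit [Fintype K] in
lemma IsSplit.index_eq [Finite K] {A B : Subgroup K} (h : IsSplit A B) : A.index = Nat.card B := by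
  have h1 := A.index_mul_card
  rw [← h.card_mul, mul_comm (Nat.card A)] at h1
  exact Nat.eq_of_mul_eq_mul_right Nat.card_pos h1

omit [Fintype K] in
/-- The second factor of a decomposition of a nilpotent group splits unless it has prime power order. -/
lemma IsSplit.exists_split [Finite K] [Group.IsNilpotent K] {A B : Subgroup K} (h : IsSplit A B)
    (hB : ∀ p : ℕ, p.Prime → ¬ IsPGroup p B) :
    ∃ B₁ B₂ : Subgroup K, B₁ ≤ B ∧ B₂ ≤ B ∧ Nat.card B₁ * Nat.card B₂ = Nat.card B ∧
      (Nat.card B₁).Coprime (Nat.card B₂) ∧ B₁ ≠ ⊥ ∧ B₂ ≠ ⊥ ∧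
      IsSplit (A ⊔ B₂) B₁ ∧ IsSplit (A ⊔ B₁) B₂ := by
  haveI := h.nA
  haveI := h.nB
  haveI : Group.IsNilpotent B := inferInstance
  have hB1 : Nat.card B ≠ 1 := fun h1 => hB 2 Nat.prime_two (IsPGroup.of_card (n := 0) (by simpa using h1))
  obtain ⟨p, hp, hpd⟩ := Nat.exists_prime_and_dvd hB1
  haveI := Fact.mk hp
  let P : Sylow p B := default
  haveI hPn : (P : Subgroup B).Normal :=
    ((Group.isNilpotent_of_finite_tfae (G := B)).out 0 3 rfl rfl).mp inferInstance p ⟨hp⟩ P
  obtain ⟨Q, hQ⟩ := Subgroup.exists_right_complement'_of_coprime (N := (P : Subgroup B))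
    P.card_coprime_index
  have hcard := hQ.card_mul_card
  have hQi : Nat.card Q = (P : Subgroup B).index := by
    have := (P : Subgroup B).index_mul_card
    rw [← hcard, mul_comm] at this
    exact (Nat.eq_of_mul_eq_mul_left Nat.card_pos this).symm
  have hcop : (Nat.card (P : Subgroup B)).Coprime (Nat.card Q) := hQi ▸ P.card_coprime_index
  have hQn : Q.Normal := by
    refine ⟨fun q hq g => ?_⟩
    obtain ⟨⟨⟨x, hx⟩, ⟨y, hy⟩⟩, rfl⟩ := hQ.2 g
    have hc : Commute x (y * q * y⁻¹) := H21.commute_of_coprime_of_nilpotent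
      (Nat.Coprime.coprime_dvd_left (Subgroup.orderOf_mk x hx ▸ orderOf_dvd_natCard _)
        (Nat.Coprime.coprime_dvd_right
          (Subgroup.orderOf_mk _ (mul_mem (mul_mem hy hq) (inv_mem hy)) ▸ orderOf_dvd_natCard _) hcop))
    show x * y * q * (x * y)⁻¹ ∈ Q
    rw [show x * y * q * (x * y)⁻¹ = x * (y * q * y⁻¹) * x⁻¹ by group, hc.eq, mul_inv_cancel_right]
    exact mul_mem (mul_mem hy hq) (inv_mem hy)
  let B₁ := (P : Subgroup B).map B.subtype
  let B₂ := Q.map B.subtype
  have c1 : Nat.card B₁ = Nat.card (P : Subgroup B) :=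
    (Nat.card_congr ((P : Subgroup B).equivMapOfInjective _ B.subtype_injective).toEquiv).symm
  have c2 : Nat.card B₂ = Nat.card Q :=
    (Nat.card_congr (Q.equivMapOfInjective _ B.subtype_injective).toEquiv).symm
  have hnormal : ∀ (R : Subgroup B), R.Normal → (Nat.card R).Coprime R.index →
      (R.map B.subtype).Normal := fun R hR hRc => by
    haveI := hR
    refine ⟨fun x hx g => ?_⟩
    obtain ⟨r, hr, rfl⟩ := hx
    exact ⟨MulAut.conjNormal g r, map_mem_of_hall R hRc _ hr, by simp [MulAut.conjNormal_apply]⟩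
  haveI n1 : B₁.Normal := hnormal _ hPn P.card_coprime_index
  haveI n2 : B₂.Normal := hnormal _ hQn (by
    have hi : Q.index = Nat.card (P : Subgroup B) := hQ.index_eq_card
    rw [hi]; exact hcop.symm)
  have hsup : B₁ ⊔ B₂ = B := by
    rw [← Subgroup.map_sup, hQ.sup_eq_top, ← MonoidHom.range_eq_map, B.range_subtype]
  have hAB : (Nat.card A).Coprime (Nat.card B) := h.cop
  have hcardAB : ∀ C : Subgroup K, C.Normal → C ≤ B → ∀ C' : Subgroup K, C'.Normal → C' ≤ B →
      C ⊔ C' = B → (Nat.card C).Coprime (Nat.card C') → IsSplit (A ⊔ C) C' := by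
    intro C hC hCB C' hC' hC'B hs hcc
    haveI := hC
    refine ⟨inferInstance, hC', by rw [sup_assoc, hs, h.sup], ?_⟩
    have hd : Nat.card ↥(A ⊔ C) ∣ Nat.card A * Nat.card C := by
      rw [← Subgroup.relIndex_bot_left, ← Subgroup.relIndex_mul_relIndex ⊥ C (A ⊔ C) bot_le le_sup_right,
        Subgroup.relIndex_sup_right, Subgroup.relIndex_bot_left, mul_comm (Nat.card A)]
      exact Nat.mul_dvd_mul_left _ (Subgroup.relIndex_dvd_card C A)
    refine Nat.Coprime.coprime_dvd_left hd ?_
    exact Nat.Coprime.mul_left (hAB.coprime_dvd_right (Subgroup.card_dvd_of_le hC'B)) hcc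
  refine ⟨B₁, B₂, Subgroup.map_subtype_le _, Subgroup.map_subtype_le _, by rw [c1, c2, hcard],
    c1 ▸ c2 ▸ hcop, ?_, ?_, ?_, ?_⟩
  · intro h0
    have : Nat.card B₁ = 1 := by rw [h0, Subgroup.card_bot]
    rw [c1] at this
    exact P.ne_bot_of_dvd_card hpd (Subgroup.card_eq_one.1 this)
  · intro h0
    have : Nat.card B₂ = 1 := by rw [h0, Subgroup.card_bot]
    rw [c2] at this
    refine hB p hp (IsPGroup.of_equiv (P.2 : IsPGroup p (P : Subgroup B)) ?_)
    have htop : (P : Subgroup B) = ⊤ := by rw [← Subgroup.index_eq_one, ← hQi, this]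
    exact (MulEquiv.subgroupCongr htop).trans Subgroup.topEquiv
  · exact hcardAB B₂ n2 (Subgroup.map_subtype_le _) B₁ n1 (Subgroup.map_subtype_le _)
      (by rw [sup_comm, hsup]) (c1 ▸ c2 ▸ hcop.symm)
  · exact hcardAB B₁ n1 (Subgroup.map_subtype_le _) B₂ n2 (Subgroup.map_subtype_le _) hsup
      (c1 ▸ c2 ▸ hcop)

end Cfsg.Agent.H39
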