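import Cfsg.Agent.H39.FeitFinish

/-!
# Feit's bound on the kernel of a point stabiliser in a Zassenhaus group
-/

set_option autoImplicit false

namespace Cfsg.Agent.H39

open MulAction
open scoped ComplexConjugate Classical

universe u v

/-- A nilpotent group all whose linear characters are real is a `2`-group. -/
theorem isPGroup_two_of_linear_real {K : Type*} [Group K] [Fintype K] [Group.IsNilpotent K]
    (hr : ∀ φ : Cfsg.IrrCharacter K, degOf φ = 1 → H26.conjIrr φ = φ) : IsPGroup 2 K := by
  have hprime : ∀ {q : ℕ}, q.Prime → q ∣ Nat.card K → q = 2 := by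
    intro q hq hqd
    by_contra hq2
    haveI := Fact.mk hq
    let Q : Sylow q K := default
    haveI hQn : (Q : Subgroup K).Normal :=
      ((Group.isNilpotent_of_finite_tfae (G := K)).out 0 3 rfl rfl).mp inferInstance q ⟨hq⟩ Q
    obtain ⟨R, hR⟩ := Subgroup.exists_right_complement'_of_coprime (N := (Q : Subgroup K))
      Q.card_coprime_index
    have hRi : R.index = Nat.card (Q : Subgroup K) := hR.index_eq_card
    have hRtop : R ≠ ⊤ := fun h => by
      rw [h, Subgroup.index_top] at hRi
      exact Q.ne_bot_of_dvd_card hqd (Subgroup.card_eq_one.1 hRi.symm)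
    obtain ⟨M, hM, hRM⟩ := (eq_top_or_exists_le_coatom R).resolve_left hRtop
    haveI : M.Normal :=
      Subgroup.NormalizerCondition.normal_of_coatom M normalizerCondition_of_isNilpotent hM
    obtain ⟨φ, hφ, hz, hφM⟩ := exists_linear_trivOn M hM.1
    obtain ⟨f, hf⟩ := H26.exists_hom_of_isCharacter_one (H26.irr_isCharacter φ)
      (by rw [degOf_spec, hz, Nat.cast_one])
    refine hφ (Subtype.ext (funext fun x => ?_))
    have hfr : f x * f x = 1 := by
      ext
      have hr' : conj (φ.1 x) = φ.1 x := by rw [← H26.conjIrr_val, hr φ hz]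
      rw [Units.val_mul, Units.val_one, hf]
      nth_rw 2 [← hr']
      rw [← H26.irr_inv, ← hf x, ← hf x⁻¹, ← Units.val_mul, ← map_mul, mul_inv_cancel, map_one,
        Units.val_one]
    have hfi : f x ^ M.index = 1 := by
      ext
      rw [Units.val_one, ← map_pow, hf, hφM _ (M.pow_index_mem x), degOf_spec, hz, Nat.cast_one]
    have hdvd : M.index ∣ Nat.card (Q : Subgroup K) := hRi ▸ Subgroup.index_dvd_of_le hRM
    obtain ⟨j, hj⟩ := IsPGroup.iff_card.1 Q.2
    rw [hj] at hdvd
    have hMi : Nat.Coprime 2 M.index :=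
      ((Nat.coprime_primes Nat.prime_two hq).2 (Ne.symm hq2)).pow_right j |>.coprime_dvd_right hdvd
    have h1 : orderOf (f x) = 1 := Nat.eq_one_of_dvd_coprimes hMi
      (orderOf_dvd_of_pow_eq_one (by rw [pow_two, hfr])) (orderOf_dvd_of_pow_eq_one hfi)
    rw [← hf, orderOf_eq_one_iff.1 h1, H26.oneIrr_val, Units.val_one]
  exact IsPGroup.of_card (n := (Nat.card K).primeFactorsList.length)
    (Nat.eq_prime_pow_of_unique_prime_dvd Nat.card_pos.ne' hprime)

namespace ZSetup

variable {G : Type u} {Ω : Type v} [Group G] [MulAction G Ω] [Fintype Ω]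

/-- The conclusion of the bound. -/
def FeitConcl (S : ZSetup G Ω) : Prop :=
  S.h - 1 ≤ 2 * S.e ∨
    (IsPGroup 2 S.H ∧ (∃ u v : S.H, u * v ≠ v * u) ∧ (commutator S.H).index ≤ 4 * S.e ^ 2 + 1)

variable [Fintype G] [IsSimpleGroup G] (S : ZSetup G Ω) (hodd : Odd S.e)
include hodd

/-- An abelian kernel with all linear characters real is small. -/
theorem le_of_abelian_real (hab : ∀ x y : S.H, x * y = y * x)
    (hr : ∀ φ : Cfsg.IrrCharacter S.H, degOf φ = 1 → H26.conjIrr φ = φ) : S.h - 1 ≤ 2 * S.e := by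
  haveI := S.H_nilpotent
  haveI : Fact (Nat.Prime 2) := ⟨Nat.prime_two⟩
  obtain ⟨n, hn⟩ := IsPGroup.iff_card.1 (isPGroup_two_of_linear_real hr)
  have hsq : ∀ x : S.H, x * x = 1 := by
    intro x
    by_contra hx
    have hof : (Abelianization.of (x * x) : Abelianization S.H) ≠ 1 := fun h => hx (by
      rw [← MonoidHom.mem_ker, Abelianization.ker_of] at h
      have hbot : commutator S.H = ⊥ := by
        rw [eq_bot_iff, commutator_def, Subgroup.commutator_le]
        exact fun p _ q _ => Subgroup.mem_bot.2 (commutatorElement_eq_one_iff_mul_comm.2 (hab p q))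
      rwa [hbot, Subgroup.mem_bot] at h)
    haveI : Finite (Abelianization S.H) := Finite.of_surjective _ (QuotientGroup.mk'_surjective _)
    haveI : NeZero (Monoid.exponent (Abelianization S.H)) := ⟨Monoid.exponent_ne_zero_of_finite⟩
    obtain ⟨f, hf⟩ := CommGroup.exists_apply_ne_one_of_hasEnoughRootsOfUnity
      (Abelianization S.H) ℂ hof
    let g : S.H →* ℂˣ := f.comp Abelianization.of
    let φ : Cfsg.IrrCharacter S.H := ⟨fun y => (g y : ℂ), H26.isIrrCharacter_hom g⟩
    have hz : degOf φ = 1 := by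
      have h := degOf_spec φ
      simp only [φ, map_one, Units.val_one] at h
      exact_mod_cast h.symm
    refine hf (Units.ext ?_)
    have hr' : conj (φ.1 x) = φ.1 x := by rw [← H26.conjIrr_val, hr φ hz]
    show φ.1 (x * x) = 1
    rw [linear_apply_mul hz]
    nth_rw 2 [← hr']
    rw [← H26.irr_inv, ← linear_apply_mul hz, mul_inv_cancel, degOf_spec, hz, Nat.cast_one]
  have heven : Even S.h := by
    have h2 := S.two_le_h
    rw [ZSetup.h] at h2 ⊢
    rw [hn] at h2 ⊢
    refine Nat.even_pow.2 ⟨even_two, fun h0 => ?_⟩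
    rw [h0, pow_zero] at h2
    omega
  have hcard : S.h - 1 = (S.inv2.filter fun t => t • S.a = S.a).card := by
    rw [show S.h - 1 = (Finset.univ.erase (1 : S.H)).card by
      rw [Finset.card_erase_of_mem (Finset.mem_univ _), Finset.card_univ, ← Nat.card_eq_fintype_card]
      rfl]
    refine Finset.card_bij (fun u _ => (u : G)) (fun u hu => ?_)
      (fun u _ u' _ h => Subtype.ext h) (fun t ht => ?_)
    · have hu1 : (u : G) ≠ 1 := fun h => (Finset.mem_erase.1 hu).1 (Subtype.ext h)
      exact Finset.mem_filter.2 ⟨S.mem_inv2.2 (orderOf_eq_prime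
        (by rw [pow_two]; exact congrArg Subtype.val (hsq u)) hu1), S.mem_N.1 (S.hHa u.2)⟩
    · obtain ⟨ht2, hta⟩ := Finset.mem_filter.1 ht
      have htH : t ∈ S.H := S.mem_H_of_free hta fun y hy =>
        S.involution_fix_unique hodd (S.mem_inv2.1 ht2) hy hta
      refine ⟨⟨t, htH⟩, Finset.mem_erase.2 ⟨fun h => ?_, Finset.mem_univ _⟩, rfl⟩
      have ht1 : t = 1 := congrArg Subtype.val h
      have := S.mem_inv2.1 ht2
      rw [ht1, orderOf_one] at this
      omega
  have hfx := S.card_inv2_fixing hodd heven S.a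
  have : (S.inv2.filter fun t => t • S.a = S.a).card = S.e := by convert hfx using 3
  omega

/-- The bound for simple groups. -/
theorem feit_simple : FeitConcl S := by
  haveI := S.H_nilpotent
  by_cases hbig : S.h - 1 ≤ 2 * S.e
  · exact Or.inl hbig
  refine Or.inr ?_
  by_cases hab : ∀ x y : S.H, x * y = y * x
  · exfalso
    obtain ⟨φ₀, hz₀, hnr₀⟩ : ∃ φ : Cfsg.IrrCharacter S.H, degOf φ = 1 ∧ H26.conjIrr φ ≠ φ := by
      by_contra hc
      push Not at hc
      exact hbig (S.le_of_abelian_real hodd hab hc)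
    obtain ⟨C₀, _, hcore, -⟩ := S.exists_core_of_nonreal hodd hz₀ hnr₀
    refine hbig (S.le_of_all_pure hodd hcore fun φ hφ => hcore.pure φ hφ ?_)
    have h := H26.irr_one_eq_one_of_comm hab φ
    rw [degOf_spec] at h
    exact_mod_cast h
  push Not at hab
  have hcore : (∃ φ : Cfsg.IrrCharacter S.H, degOf φ = 1 ∧ H26.conjIrr φ ≠ φ) →
      ∃ C₀, S.Core hodd C₀ := fun ⟨φ, hz, hnr⟩ => by
    obtain ⟨C₀, _, hc, -⟩ := S.exists_core_of_nonreal hodd hz hnr
    exact ⟨C₀, hc⟩
  by_cases hp : ∃ p : ℕ, p.Prime ∧ IsPGroup p S.H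
  · obtain ⟨p, hpp, hp⟩ := hp
    haveI := Fact.mk hpp
    by_cases hp2 : p = 2
    · subst hp2
      refine ⟨hp, hab, ?_⟩
      by_contra hidx
      push Not at hidx
      obtain ⟨C₀, hc⟩ : ∃ C₀, S.Core hodd C₀ := by
        by_cases hnr : ∃ φ : Cfsg.IrrCharacter S.H, degOf φ = 1 ∧ H26.conjIrr φ ≠ φ
        · exact hcore hnr
        · push Not at hnr
          exact S.exists_core_of_real hodd hnr hidx
      exact hbig (S.le_of_all_pure hodd hc (S.pure_pgroup hodd hp hidx hc))
    · exact (S.not_odd_pgroup hodd hp2 hp hab).elim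
  · exfalso
    push Not at hp
    obtain ⟨C₀, hc⟩ := hcore (by
      by_contra hc
      push Not at hc
      exact hp 2 Nat.prime_two (isPGroup_two_of_linear_real hc))
    exact hbig (S.le_of_all_pure hodd hc (S.pure_composite hodd hp hc))

end ZSetup

/-- The bound, by induction on the order. -/
theorem feit_aux {Ω : Type v} [Fintype Ω] : ∀ (n : ℕ) (G : Type u) [Group G] [MulAction G Ω]
    [Finite G], Nat.card G = n → Cfsg.IsZassenhausGroup G Ω → ∀ S : ZSetup G Ω, Odd S.e →
    ZSetup.FeitConcl S := by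
  intro n
  induction n using Nat.strong_induction_on with
  | _ n ih =>
  intro G _ _ _ hn hZ S hodd
  haveI := Fintype.ofFinite G
  haveI : Nontrivial G := by
    obtain ⟨d, -, hd⟩ := S.exists_D_ne_one
    exact ⟨⟨d, 1, hd⟩⟩
  by_cases hs : IsSimpleGroup G
  · exact S.feit_simple hodd
  obtain ⟨M, hM, hM1, hM2⟩ : ∃ M : Subgroup G, M.Normal ∧ M ≠ ⊥ ∧ M ≠ ⊤ := by
    by_contra hc
    push Not at hc
    exact hs ⟨fun M hM => or_iff_not_imp_left.2 (hc M hM)⟩
  haveI := hM
  have hZM : Cfsg.IsZassenhausGroup M Ω := H7.zassenhaus_normal hZ M hM1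
  obtain ⟨T, hTa, hTb⟩ := exists_zsetup (H7.ZHyp.of_zassenhaus hZM) S.hab
  have hdvd : T.e ∣ S.e := by
    have hle : T.D.map M.subtype ≤ S.D := by
      rintro _ ⟨x, hx, rfl⟩
      refine S.mem_D.2 ⟨?_, ?_⟩
      · have h := hx.1; rw [hTa] at h; exact h
      · have h := hx.2; rw [hTb] at h; exact h
    have h1 := Subgroup.card_dvd_of_le hle
    rw [← Nat.card_congr (T.D.equivMapOfInjective _ M.subtype_injective).toEquiv] at h1
    exact h1
  have hTodd : Odd T.e := Odd.of_dvd_nat hodd hdvd
  have hlt : Nat.card M < n := by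
    rw [← hn]
    exact lt_of_le_of_ne (Subgroup.card_le_card_group M) fun h => hM2 (Subgroup.eq_top_of_card_eq M h)
  have hH : T.H.map M.subtype = S.H := by
    have hle : T.H.map M.subtype ≤ S.H := by
      rintro _ ⟨x, hx, rfl⟩
      by_cases hx1 : x = 1
      · subst hx1; exact one_mem _
      · refine S.mem_H_of_free ?_ fun y hy => ?_
        · have h : x • T.a = T.a := T.mem_N.1 (T.hHa hx)
          rw [hTa] at h
          exact h
        · rw [← hTa]
          exact T.hHfix x hx hx1 y hy
    refine Subgroup.eq_of_le_of_card_ge hle ?_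
    rw [← Nat.card_congr (T.H.equivMapOfInjective _ M.subtype_injective).toEquiv]
    have h1 := T.hHcard
    have h2 := S.hHcard
    omega
  have hh : T.h = S.h := by
    have h1 := T.card_omega
    have h2 := S.card_omega
    omega
  have hle : T.e ≤ S.e := Nat.le_of_dvd (by have := S.two_le_e; omega) hdvd
  rcases ih _ hlt M rfl hZM T hTodd with hc | ⟨hp, ⟨u, v, huv⟩, hidx⟩
  · left
    rw [hh] at hc
    omega
  · right
    let E : T.H ≃* S.H :=
      (T.H.equivMapOfInjective _ M.subtype_injective).trans (MulEquiv.subgroupCongr hH)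
    refine ⟨hp.of_equiv E, ⟨E u, E v, fun h => huv (E.injective (by rw [map_mul, map_mul, h]))⟩, ?_⟩
    have hmap : (commutator T.H).map E.toMonoidHom = commutator S.H := by
      rw [commutator_def, commutator_def, Subgroup.map_commutator,
        Subgroup.map_top_of_surjective _ E.surjective]
    rw [← hmap, show ((commutator T.H).map E.toMonoidHom).index = (commutator T.H).index from
      Subgroup.index_map_of_bijective (f := E.toMonoidHom) E.bijective _]
    exact hidx.trans (by have := Nat.pow_le_pow_left hle 2; omega)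

end Cfsg.Agent.H39
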