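import Cfsg.Agent.H39.ZassGram
import Cfsg.Agent.H39.CharNilp

/-!
# Linear characters of the kernel: the common real constituents
-/

set_option autoImplicit false

namespace Cfsg.Agent.H39

open MulAction
open scoped ComplexConjugate Classical

/-- Sets of size `k + 1` meeting pairwise in `k` points, more than `k + 2` of them, have `k` points in common. -/
lemma exists_common_core {α : Type*} [DecidableEq α] (F : Finset (Finset α)) (k : ℕ)
    (hcard : ∀ A ∈ F, A.card = k + 1) (hinter : ∀ A ∈ F, ∀ B ∈ F, A ≠ B → (A ∩ B).card = k)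
    (hF : k + 2 < F.card) : ∃ K : Finset α, K.card = k ∧ ∀ A ∈ F, K ⊆ A := by
  have hsmall : ∀ A ∈ F, ∀ B ∈ F, A ≠ B → ∀ C ∈ F, ¬ A ∩ B ⊆ C → C ⊆ A ∪ B := by
    intro A hA B hB hne C hC hK
    have hca : C ≠ A := fun h => hK (h ▸ Finset.inter_subset_left)
    have hcb : C ≠ B := fun h => hK (h ▸ Finset.inter_subset_right)
    have h1 := hinter C hC A hA hca
    have h2 := hinter C hC B hB hcb
    have h3 : (C ∩ A ∩ (C ∩ B)).card < k := by
      rw [← hinter A hA B hB hne]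
      refine Finset.card_lt_card ⟨fun x hx => ?_, fun h => hK fun x hx => ?_⟩
      · simp only [Finset.mem_inter] at hx ⊢; exact ⟨hx.1.2, hx.2.2⟩
      · have := h hx; simp only [Finset.mem_inter] at this; exact this.1.1
    have h4 := Finset.card_union_add_card_inter (C ∩ A) (C ∩ B)
    have h5 : (C ∩ A) ∪ (C ∩ B) = C := by
      refine Finset.eq_of_subset_of_card_le
        (Finset.union_subset Finset.inter_subset_left Finset.inter_subset_left) ?_
      rw [hcard C hC]; omega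
    intro x hx
    rw [← h5] at hx
    simp only [Finset.mem_union, Finset.mem_inter] at hx ⊢
    exact hx.imp And.right And.right
  obtain ⟨A, hA, B, hB, hne⟩ := Finset.one_lt_card.1 (show 1 < F.card by omega)
  obtain ⟨C₃, hC₃, hC₃'⟩ : ∃ C ∈ F, ¬ C ⊆ A ∪ B := by
    by_contra hc
    push Not at hc
    have hsub : F ⊆ Finset.powersetCard (k + 1) (A ∪ B) := fun C hC =>
      Finset.mem_powersetCard.2 ⟨hc C hC, hcard C hC⟩
    have h1 := Finset.card_le_card hsub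
    have h2 := Finset.card_union_add_card_inter A B
    rw [hinter A hA B hB hne, hcard A hA, hcard B hB] at h2
    rw [Finset.card_powersetCard, show (A ∪ B).card = k + 2 by omega,
      Nat.choose_succ_self_right] at h1
    omega
  have hK₃ : A ∩ B ⊆ C₃ := by_contra fun h => hC₃' (hsmall A hA B hB hne C₃ hC₃ h)
  refine ⟨A ∩ B, hinter A hA B hB hne, fun D hD => by_contra fun hDK => ?_⟩
  have hA3 : A ≠ C₃ := fun h => hC₃' (h ▸ Finset.subset_union_left)
  have hB3 : B ≠ C₃ := fun h => hC₃' (h ▸ Finset.subset_union_right)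
  have eA : A ∩ B = A ∩ C₃ := Finset.eq_of_subset_of_card_le
    (Finset.subset_inter Finset.inter_subset_left hK₃) (by
      rw [hinter A hA C₃ hC₃ hA3, hinter A hA B hB hne])
  have eB : A ∩ B = B ∩ C₃ := Finset.eq_of_subset_of_card_le
    (Finset.subset_inter Finset.inter_subset_right hK₃) (by
      rw [hinter B hB C₃ hC₃ hB3, hinter A hA B hB hne])
  have h1 := hsmall A hA B hB hne D hD hDK
  have h2 := hsmall A hA C₃ hC₃ hA3 D hD (eA ▸ hDK)
  have hDA : D ⊆ A := fun x hx => by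
    rcases Finset.mem_union.1 (h1 hx) with h | h
    · exact h
    rcases Finset.mem_union.1 (h2 hx) with h' | h'
    · exact h'
    have : x ∈ A ∩ B := eB ▸ Finset.mem_inter.2 ⟨h, h'⟩
    exact (Finset.mem_inter.1 this).1
  refine hDK ?_
  rw [Finset.eq_of_subset_of_card_le hDA (by rw [hcard A hA, hcard D hD])]
  exact Finset.inter_subset_left

/-- The Frobenius–Schur indicator as an integer. -/
lemma exists_fs_int {K : Type*} [Group K] [Fintype K] :
    ∃ ε : Cfsg.IrrCharacter K → ℤ, ∀ χ, H26.fsIndicator χ.1 = (ε χ : ℂ) ∧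
      (ε χ = 0 ∨ ε χ = 1 ∨ ε χ = -1) ∧ (H26.conjIrr χ ≠ χ → ε χ = 0) := by
  have h : ∀ χ : Cfsg.IrrCharacter K, ∃ m : ℤ, H26.fsIndicator χ.1 = (m : ℂ) ∧
      (m = 0 ∨ m = 1 ∨ m = -1) ∧ (H26.conjIrr χ ≠ χ → m = 0) := fun χ => by
    by_cases hc : H26.conjIrr χ = χ
    · rcases (H26.fsIndicator_cases χ).2 hc with h | h
      · exact ⟨1, by simp [h], by simp, fun h' => absurd hc h'⟩
      · exact ⟨-1, by simp [h], by simp, fun h' => absurd hc h'⟩
    · exact ⟨0, by simp [(H26.fsIndicator_cases χ).1 hc], by simp, fun _ => rfl⟩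
  choose ε hε using h
  exact ⟨ε, hε⟩

lemma degOf_conjIrr {K : Type*} [Group K] [Fintype K] (χ : Cfsg.IrrCharacter K) :
    degOf (H26.conjIrr χ) = degOf χ := by
  have h := degOf_spec (H26.conjIrr χ)
  rw [H26.conjIrr_val, degOf_spec, Complex.conj_natCast] at h
  exact_mod_cast h.symm

lemma fs_eq_one_of_linear {K : Type*} [Group K] [Fintype K] {φ : Cfsg.IrrCharacter K}
    (h1 : degOf φ = 1) (hr : H26.conjIrr φ = φ) : H26.fsIndicator φ.1 = 1 := by
  obtain ⟨f, hf⟩ := H26.exists_hom_of_isCharacter_one (H26.irr_isCharacter φ)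
    (by rw [degOf_spec, h1, Nat.cast_one])
  have hs : ∀ s : K, φ.1 (s * s) = 1 := fun s => by
    have hr' : conj (φ.1 s) = φ.1 s := by rw [← H26.conjIrr_val, hr]
    rw [← hf, map_mul, Units.val_mul, hf]
    nth_rw 2 [← hr']
    rw [← H26.irr_inv, ← hf s, ← hf s⁻¹, ← Units.val_mul, ← map_mul, mul_inv_cancel, map_one,
      Units.val_one]
  simp only [H26.fsIndicator, hs, Finset.sum_const, Finset.card_univ, nsmul_eq_mul, mul_one]
  rw [← Nat.card_eq_fintype_card, inv_mul_cancel₀ (Nat.cast_ne_zero.2 Nat.card_pos.ne')]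

namespace ZSetup

variable {G Ω : Type*} [Group G] [MulAction G Ω] [Fintype Ω] (S : ZSetup G Ω) [Fintype G]
  [IsSimpleGroup G] (hodd : Odd S.e)

/-- `φ` restricts from the common characters and exactly one further one. -/
def Pure (C₀ : Finset (Cfsg.IrrCharacter G)) (φ : Cfsg.IrrCharacter S.H) : Prop :=
  ∃ χ ∈ S.rest hodd, χ ∉ C₀ ∧ ∀ ψ ∈ S.rest hodd,
    S.mult ψ φ = (if ψ ∈ C₀ then degOf φ else 0) + (if ψ = χ then 1 else 0)

/-- The real characters common to all linear characters of `H`. -/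
structure Core (C₀ : Finset (Cfsg.IrrCharacter G)) : Prop where
  sub : C₀ ⊆ S.rest hodd
  card : C₀.card = S.kk hodd
  real : ∀ ψ ∈ C₀, H26.conjIrr ψ = ψ
  pure : ∀ φ, φ ≠ H26.oneIrr S.H → degOf φ = 1 → S.Pure hodd C₀ φ

include hodd

lemma rest_conj {χ : Cfsg.IrrCharacter G} (hχ : χ ∈ S.rest hodd) :
    H26.conjIrr χ ∈ S.rest hodd := by
  rw [S.mem_rest] at hχ ⊢
  intro l
  have hconj : ∀ (l : Cfsg.IrrCharacter S.D) (g : G),
      conj (S.xi hodd l g) = S.xi hodd (H26.conjIrr l) g := fun l g => by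
    simp only [xi, H25.indFun_apply, map_mul, map_inv₀, map_natCast, map_sum]
    congr 1
    refine Finset.sum_congr rfl fun x _ => ?_
    by_cases hx : x⁻¹ * g * x ∈ S.N
    · rw [H25.extendByZero_of_mem _ _ hx, H25.extendByZero_of_mem _ _ hx]; rfl
    · rw [H25.extendByZero_of_notMem _ _ hx, H25.extendByZero_of_notMem _ _ hx, map_zero]
  have h := congrArg conj (hχ (H26.conjIrr l))
  rw [map_zero] at h
  rw [← h]
  simp only [Cfsg.classInner, map_mul, map_inv₀, map_natCast, map_sum, hconj,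
    H26.conjIrr_conjIrr, H26.conjIrr_val]

omit [IsSimpleGroup G] hodd in
lemma mult_conj (χ : Cfsg.IrrCharacter G) (φ : Cfsg.IrrCharacter S.H) :
    S.mult (H26.conjIrr χ) (H26.conjIrr φ) = S.mult χ φ := by
  have h := congrArg conj (S.mult_spec χ φ)
  rw [map_natCast] at h
  apply Nat.cast_injective (R := ℂ)
  rw [← S.mult_spec, ← h]
  simp [Cfsg.classInner, map_sum, H26.conjIrr_val]

lemma rest_norm {φ : Cfsg.IrrCharacter S.H} (hφ : φ ≠ H26.oneIrr S.H) :
    ∑ χ ∈ S.rest hodd, S.mult χ φ * S.mult χ φ = 1 + degOf φ * degOf φ * S.kk hodd := by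
  rw [S.rest_gram hodd hφ hφ, if_pos (S.sameOrbit_refl φ)]

lemma mult_eq_of_sameOrbit {φ φ' : Cfsg.IrrCharacter S.H} (hφ : φ ≠ H26.oneIrr S.H)
    (hφ' : φ' ≠ H26.oneIrr S.H) (ho : S.SameOrbit φ φ') :
    ∀ χ ∈ S.rest hodd, S.mult χ φ = S.mult χ φ' := by
  have hz : degOf φ = degOf φ' := by obtain ⟨d, rfl⟩ := ho; exact S.degOf_cj d φ'
  have h1 := congrArg (Nat.cast : ℕ → ℤ) (S.rest_norm hodd hφ)
  have h2 := congrArg (Nat.cast : ℕ → ℤ) (S.rest_norm hodd hφ')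
  have h3 := congrArg (Nat.cast : ℕ → ℤ) (S.rest_gram hodd hφ hφ')
  rw [if_pos ho] at h3
  push_cast at h1 h2 h3
  have h4 : ∑ χ ∈ S.rest hodd, ((S.mult χ φ : ℤ) - S.mult χ φ') ^ 2 = 0 := by
    have : ∀ χ ∈ S.rest hodd, ((S.mult χ φ : ℤ) - S.mult χ φ') ^ 2 = (S.mult χ φ : ℤ) * S.mult χ φ
        + (S.mult χ φ' : ℤ) * S.mult χ φ' - 2 * ((S.mult χ φ : ℤ) * S.mult χ φ') := fun χ _ => by ring
    rw [Finset.sum_congr rfl this, Finset.sum_sub_distrib, Finset.sum_add_distrib, ← Finset.mul_sum,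
      h1, h2, h3, hz]
    ring
  intro χ hχ
  have := (Finset.sum_eq_zero_iff_of_nonneg fun χ _ => sq_nonneg _).1 h4 χ hχ
  have := sub_eq_zero.1 ((pow_eq_zero_iff (two_ne_zero)).1 this)
  exact_mod_cast this

/-- A non-real linear character. -/
lemma nonreal_linear {φ : Cfsg.IrrCharacter S.H} (hz : degOf φ = 1)
    (hnr : H26.conjIrr φ ≠ φ) :
    ∃ (C : Finset (Cfsg.IrrCharacter G)) (χ : Cfsg.IrrCharacter G), C ⊆ S.rest hodd ∧
      C.card = S.kk hodd ∧ (∀ ψ ∈ C, H26.conjIrr ψ = ψ) ∧ χ ∈ S.rest hodd ∧ H26.conjIrr χ ≠ χ ∧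
      ∀ ψ ∈ S.rest hodd, S.mult ψ φ = (if ψ ∈ C then 1 else 0) + (if ψ = χ then 1 else 0) := by
  have hφ : φ ≠ H26.oneIrr S.H := fun h => hnr (by subst h; exact Subtype.ext (funext fun u => by
    simp [H26.conjIrr_val, H26.oneIrr_val]))
  have hφ' : H26.conjIrr φ ≠ H26.oneIrr S.H := fun h => hnr (by
    have h2 := congrArg H26.conjIrr h
    rw [H26.conjIrr_conjIrr] at h2
    rw [h, h2]
    exact Subtype.ext (funext fun u => by simp [H26.conjIrr_val, H26.oneIrr_val]))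
  obtain ⟨ε, hε⟩ := exists_fs_int (K := G)
  let n : Cfsg.IrrCharacter G → ℤ := fun ψ => (S.mult ψ φ : ℤ)
  have hno : ¬ S.SameOrbit φ (H26.conjIrr φ) := by
    rintro ⟨d, hd⟩
    have hcomm : S.cj d φ = H26.conjIrr φ := by
      have h2 := congrArg H26.conjIrr hd
      rw [← h2]
      exact Subtype.ext (funext fun u => by simp [H26.conjIrr_val, S.cj_apply])
    have h2 : S.cj (d * d) φ = φ := by rw [S.cj_mul, hcomm, hd]
    have h3 : d ^ 2 = 1 := by rw [pow_two]; exact S.eq_one_of_cj_eq hφ h2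
    have h4 : orderOf d = 1 := Nat.eq_one_of_dvd_coprimes (Nat.coprime_two_left.2 hodd)
      (orderOf_dvd_of_pow_eq_one h3) (orderOf_dvd_natCard _)
    rw [orderOf_eq_one_iff.1 h4, S.cj_one] at hcomm
    exact hnr hcomm.symm
  have hsq : ∑ ψ ∈ S.rest hodd, n ψ * n ψ = 1 + S.kk hodd := by
    have := congrArg (Nat.cast : ℕ → ℤ) (S.rest_norm hodd hφ)
    rw [hz] at this
    simpa [n] using this
  have hfs : ∑ ψ ∈ S.rest hodd, ε ψ * n ψ = S.kk hodd := by
    have h := S.rest_fs hodd hφ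
    rw [(H26.fsIndicator_cases φ).1 hnr, hz] at h
    simp only [(hε _).1, zero_add, Nat.cast_one, one_mul] at h
    apply Int.cast_injective (α := ℂ)
    push_cast [n]
    exact h
  have hT : ∑ ψ ∈ S.rest hodd, (n ψ * n ψ - ε ψ * n ψ) = 1 := by
    rw [Finset.sum_sub_distrib, hsq, hfs]; ring
  have hpos : ∀ ψ ∈ S.rest hodd, 0 ≤ n ψ * n ψ - ε ψ * n ψ := fun ψ _ => by
    have hn : 0 ≤ n ψ := Int.natCast_nonneg _
    rcases (hε ψ).2.1 with h | h | h <;> rw [h] <;> nlinarith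
  obtain ⟨χ, hχ, hχnr, hχ1⟩ : ∃ χ ∈ S.rest hodd, H26.conjIrr χ ≠ χ ∧ 1 ≤ n χ := by
    by_contra hc
    push Not at hc
    have hzero : ∀ ψ ∈ S.rest hodd, H26.conjIrr ψ ≠ ψ → S.mult ψ φ = 0 := fun ψ hψ h => by
      have h' := hc ψ hψ h
      simp only [n] at h'
      omega
    have heq : ∀ ψ ∈ S.rest hodd, S.mult ψ (H26.conjIrr φ) = S.mult ψ φ := fun ψ hψ => by
      have h := S.mult_conj (H26.conjIrr ψ) φ
      rw [H26.conjIrr_conjIrr] at h
      rw [h]
      by_cases hr : H26.conjIrr ψ = ψ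
      · rw [hr]
      · rw [hzero ψ hψ hr, hzero _ (S.rest_conj hodd hψ) (fun h' => hr (by
          rw [H26.conjIrr_conjIrr] at h'; exact h'.symm))]
    have h := S.rest_gram hodd hφ hφ'
    rw [if_neg hno, Finset.sum_congr rfl (fun ψ hψ => by rw [heq ψ hψ]), S.rest_norm hodd hφ,
      degOf_conjIrr, hz] at h
    omega
  have hεχ : ε χ = 0 := (hε χ).2.2 hχnr
  rw [← Finset.add_sum_erase _ _ hχ, hεχ] at hT
  have hrest0 : 0 ≤ ∑ ψ ∈ (S.rest hodd).erase χ, (n ψ * n ψ - ε ψ * n ψ) :=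
    Finset.sum_nonneg fun ψ hψ => hpos ψ (Finset.mem_of_mem_erase hψ)
  have hχn : n χ = 1 := by nlinarith
  have hothers : ∀ ψ ∈ (S.rest hodd).erase χ, n ψ * n ψ - ε ψ * n ψ = 0 := by
    refine (Finset.sum_eq_zero_iff_of_nonneg fun ψ hψ => hpos ψ (Finset.mem_of_mem_erase hψ)).1 ?_
    rw [hχn] at hT
    linarith
  let C := ((S.rest hodd).erase χ).filter fun ψ => n ψ = 1
  have hval : ∀ ψ ∈ (S.rest hodd).erase χ, n ψ = 0 ∨ (n ψ = 1 ∧ H26.conjIrr ψ = ψ) := fun ψ hψ => by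
    have h : n ψ * (n ψ - ε ψ) = 0 := by rw [mul_sub]; linarith [hothers ψ hψ]
    rcases mul_eq_zero.1 h with h | h
    · exact Or.inl h
    · have hn : 0 ≤ n ψ := Int.natCast_nonneg _
      rcases (hε ψ).2.1 with h' | h' | h'
      · exact Or.inl (by omega)
      · exact Or.inr ⟨by omega, by_contra fun hr => by have := (hε ψ).2.2 hr; omega⟩
      · omega
  have hmult : ∀ ψ ∈ S.rest hodd,
      S.mult ψ φ = (if ψ ∈ C then 1 else 0) + (if ψ = χ then 1 else 0) := fun ψ hψ => by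
    by_cases hψχ : ψ = χ
    · subst hψχ
      rw [if_neg (fun h => (Finset.mem_erase.1 (Finset.mem_filter.1 h).1).1 rfl), if_pos rfl, zero_add]
      simp only [n] at hχn
      exact_mod_cast hχn
    · have hmem : ψ ∈ (S.rest hodd).erase χ := Finset.mem_erase.2 ⟨hψχ, hψ⟩
      rw [if_neg hψχ, add_zero]
      rcases hval ψ hmem with h | h
      · rw [if_neg fun h' => by have := (Finset.mem_filter.1 h').2; omega]
        simp only [n] at h
        exact_mod_cast h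
      · rw [if_pos (Finset.mem_filter.2 ⟨hmem, h.1⟩)]
        have := h.1
        simp only [n] at this
        exact_mod_cast this
  have hCsub : C ⊆ S.rest hodd := fun ψ hψ => Finset.mem_of_mem_erase (Finset.mem_filter.1 hψ).1
  refine ⟨C, χ, hCsub, ?_, fun ψ hψ => ?_, hχ, hχnr, hmult⟩
  · have h := S.rest_norm hodd hφ
    rw [← Finset.add_sum_erase _ _ hχ, hz, hmult χ hχ,
      if_neg (fun h => (Finset.mem_erase.1 (Finset.mem_filter.1 h).1).1 rfl), if_pos rfl,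
      Finset.sum_congr rfl (g := fun ψ => if ψ ∈ C then 1 else 0) (fun ψ hψ => by
        rw [hmult ψ (Finset.mem_of_mem_erase hψ), if_neg (Finset.mem_erase.1 hψ).1, add_zero]
        split_ifs <;> rfl), Finset.sum_boole] at h
    have hC : ((S.rest hodd).erase χ).filter (fun ψ => ψ ∈ C) = C := by
      ext ψ; simp only [C, Finset.mem_filter]; tauto
    rw [hC] at h
    simp only [Nat.cast_id] at h
    omega
  · rcases hval ψ (Finset.mem_filter.1 hψ).1 with h | h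
    · have := (Finset.mem_filter.1 hψ).2; omega
    · exact h.2

/-- The support of a real linear character. -/
lemma real_linear {φ : Cfsg.IrrCharacter S.H} (hφ : φ ≠ H26.oneIrr S.H) (hz : degOf φ = 1)
    (hr : H26.conjIrr φ = φ) :
    ∃ A : Finset (Cfsg.IrrCharacter G), A ⊆ S.rest hodd ∧ A.card = S.kk hodd + 1 ∧
      (∀ ψ ∈ A, H26.conjIrr ψ = ψ) ∧
      ∀ ψ ∈ S.rest hodd, S.mult ψ φ = if ψ ∈ A then 1 else 0 := by
  obtain ⟨ε, hε⟩ := exists_fs_int (K := G)
  let n : Cfsg.IrrCharacter G → ℤ := fun ψ => (S.mult ψ φ : ℤ)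
  have hsq : ∑ ψ ∈ S.rest hodd, n ψ * n ψ = 1 + S.kk hodd := by
    have := congrArg (Nat.cast : ℕ → ℤ) (S.rest_norm hodd hφ)
    rw [hz] at this
    simpa [n] using this
  have hfs : ∑ ψ ∈ S.rest hodd, ε ψ * n ψ = 1 + S.kk hodd := by
    have h := S.rest_fs hodd hφ
    rw [fs_eq_one_of_linear hz hr, hz] at h
    simp only [(hε _).1, Nat.cast_one, one_mul] at h
    apply Int.cast_injective (α := ℂ)
    push_cast [n]
    exact h
  have hpos : ∀ ψ ∈ S.rest hodd, 0 ≤ n ψ * n ψ - ε ψ * n ψ := fun ψ _ => by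
    have hn : 0 ≤ n ψ := Int.natCast_nonneg _
    rcases (hε ψ).2.1 with h | h | h <;> rw [h] <;> nlinarith
  have h0 := (Finset.sum_eq_zero_iff_of_nonneg hpos).1 (by rw [Finset.sum_sub_distrib, hsq, hfs, sub_self])
  have hval : ∀ ψ ∈ S.rest hodd, S.mult ψ φ = 0 ∨ (S.mult ψ φ = 1 ∧ H26.conjIrr ψ = ψ) :=
    fun ψ hψ => by
    have h : n ψ * (n ψ - ε ψ) = 0 := by rw [mul_sub]; linarith [h0 ψ hψ]
    simp only [n] at h
    rcases mul_eq_zero.1 h with h | h
    · exact Or.inl (by omega)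
    · rcases (hε ψ).2.1 with h' | h' | h'
      · exact Or.inl (by omega)
      · exact Or.inr ⟨by omega, by_contra fun hr' => by have := (hε ψ).2.2 hr'; omega⟩
      · omega
  have hmult : ∀ ψ ∈ S.rest hodd,
      S.mult ψ φ = if ψ ∈ (S.rest hodd).filter (fun ψ => S.mult ψ φ = 1) then 1 else 0 := by
    intro ψ hψ
    rcases hval ψ hψ with h | h
    · rw [if_neg fun h' => by have := (Finset.mem_filter.1 h').2; omega, h]
    · rw [if_pos (Finset.mem_filter.2 ⟨hψ, h.1⟩), h.1]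
  refine ⟨_, Finset.filter_subset _ _, ?_, fun ψ hψ => ?_, hmult⟩
  · have h := S.rest_norm hodd hφ
    rw [hz, Finset.sum_congr rfl (g := fun ψ => if ψ ∈ (S.rest hodd).filter (fun ψ => S.mult ψ φ = 1)
      then 1 else 0) (fun ψ hψ => by rw [hmult ψ hψ]; split_ifs <;> rfl), Finset.sum_boole] at h
    simp only [Nat.cast_id, Finset.filter_mem_eq_inter,
      Finset.inter_eq_right.2 (Finset.filter_subset _ _)] at h
    omega
  · obtain ⟨hψ1, hψ2⟩ := Finset.mem_filter.1 hψ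
    rcases hval ψ hψ1 with h | h
    · omega
    · exact h.2

omit [IsSimpleGroup G] hodd in
lemma sum_boole_inter {α : Type*} [DecidableEq α] (R A B : Finset α) (hA : A ⊆ R) :
    ∑ x ∈ R, (if x ∈ A then 1 else 0) * (if x ∈ B then 1 else 0) = (A ∩ B).card := by
  rw [Finset.card_eq_sum_ones, Finset.sum_congr rfl (g := fun x => if x ∈ A ∩ B then 1 else 0)
    (fun x _ => by simp only [Finset.mem_inter]; split_ifs <;> simp_all), Finset.sum_ite_mem,
    Finset.inter_eq_right.2 (Finset.inter_subset_left.trans hA)]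

/-- A non-real linear character determines the common characters. -/
theorem exists_core_of_nonreal {φ₀ : Cfsg.IrrCharacter S.H} (hz₀ : degOf φ₀ = 1)
    (hnr₀ : H26.conjIrr φ₀ ≠ φ₀) :
    ∃ C₀ χ₀, S.Core hodd C₀ ∧ χ₀ ∈ S.rest hodd ∧ H26.conjIrr χ₀ ≠ χ₀ ∧
      ∀ ψ ∈ S.rest hodd, S.mult ψ φ₀ = (if ψ ∈ C₀ then 1 else 0) + (if ψ = χ₀ then 1 else 0) := by
  obtain ⟨C₀, χ₀, hsub, hcard, hreal, hχ₀, hχnr, hm₀⟩ := S.nonreal_linear hodd hz₀ hnr₀
  have hφ₀ : φ₀ ≠ H26.oneIrr S.H := fun h => hnr₀ (by subst h; exact Subtype.ext (funext fun u => by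
    simp [H26.conjIrr_val, H26.oneIrr_val]))
  have hφ₀' : H26.conjIrr φ₀ ≠ H26.oneIrr S.H := fun h => hnr₀ (by
    have h2 := congrArg H26.conjIrr h
    rw [H26.conjIrr_conjIrr] at h2
    rw [h, h2]
    exact Subtype.ext (funext fun u => by simp [H26.conjIrr_val, H26.oneIrr_val]))
  have hχC : χ₀ ∉ C₀ := fun h => hχnr (hreal χ₀ h)
  refine ⟨C₀, χ₀, ⟨hsub, hcard, hreal, fun φ hφ hz => ?_⟩, hχ₀, hχnr, hm₀⟩
  by_cases hr : H26.conjIrr φ = φ
  · obtain ⟨A, hA, hAcard, hAreal, hmA⟩ := S.real_linear hodd hφ hz hr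
    have hχA : χ₀ ∉ A := fun h => hχnr (hAreal χ₀ h)
    have h := S.rest_gram hodd hφ hφ₀
    have hno : ¬ S.SameOrbit φ φ₀ := fun ho => by
      have := S.mult_eq_of_sameOrbit hodd hφ hφ₀ ho χ₀ hχ₀
      rw [hmA χ₀ hχ₀, hm₀ χ₀ hχ₀, if_neg hχA, if_neg hχC, if_pos rfl] at this
      omega
    rw [if_neg hno, hz, hz₀, Finset.sum_congr rfl (g := fun ψ => (if ψ ∈ A then 1 else 0) *
      (if ψ ∈ C₀ then 1 else 0)) (fun ψ hψ => by
        rw [hmA ψ hψ, hm₀ ψ hψ, mul_add]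
        by_cases hψ' : ψ = χ₀
        · subst hψ'; simp [hχA]
        · rw [if_neg hψ', mul_zero, add_zero]), sum_boole_inter _ _ _ hA] at h
    have hCA : C₀ ⊆ A := by
      have h2 := Finset.eq_of_subset_of_card_le (Finset.inter_subset_right (s₁ := A) (s₂ := C₀))
        (by rw [h, hcard]; simp)
      exact Finset.inter_eq_right.1 h2
    obtain ⟨χ, hχ⟩ : ∃ χ, A \ C₀ = {χ} := Finset.card_eq_one.1 (by
      rw [Finset.card_sdiff_of_subset hCA, hAcard, hcard]; omega)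
    have hχmem : χ ∈ A \ C₀ := by rw [hχ]; exact Finset.mem_singleton_self χ
    rw [Finset.mem_sdiff] at hχmem
    refine ⟨χ, hA hχmem.1, hχmem.2, fun ψ hψ => ?_⟩
    rw [hmA ψ hψ, hz]
    by_cases hψC : ψ ∈ C₀
    · rw [if_pos (hCA hψC), if_pos hψC, if_neg (fun h' : ψ = χ => hχmem.2 (h' ▸ hψC))]
    · rw [if_neg hψC, zero_add]
      refine if_congr ⟨fun h' => ?_, fun h' => h' ▸ hχmem.1⟩ rfl rfl
      have : ψ ∈ A \ C₀ := Finset.mem_sdiff.2 ⟨h', hψC⟩
      rwa [hχ, Finset.mem_singleton] at this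
  · by_cases h1 : S.SameOrbit φ φ₀
    · exact ⟨χ₀, hχ₀, hχC, fun ψ hψ => by
        rw [S.mult_eq_of_sameOrbit hodd hφ hφ₀ h1 ψ hψ, hm₀ ψ hψ, hz]⟩
    by_cases h2 : S.SameOrbit φ (H26.conjIrr φ₀)
    · refine ⟨H26.conjIrr χ₀, S.rest_conj hodd hχ₀, fun h => hχC ?_, fun ψ hψ => ?_⟩
      · have := hreal _ h; rw [H26.conjIrr_conjIrr] at this; rwa [← this] at h
      · have hm := S.mult_conj (H26.conjIrr ψ) φ₀
        rw [H26.conjIrr_conjIrr] at hm
        rw [S.mult_eq_of_sameOrbit hodd hφ hφ₀' h2 ψ hψ, hm, hm₀ _ (S.rest_conj hodd hψ), hz]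
        congr 1
        · refine if_congr ⟨fun h' => ?_, fun h' => ?_⟩ rfl rfl
          · have := hreal _ h'; rw [H26.conjIrr_conjIrr] at this; rwa [← this] at h'
          · rwa [hreal _ h']
        · refine if_congr ⟨fun h' => ?_, fun h' => ?_⟩ rfl rfl
          · rw [← h', H26.conjIrr_conjIrr]
          · rw [h', H26.conjIrr_conjIrr]
    obtain ⟨C, χ, hC, hCcard, hCreal, hχ, hχ', hm⟩ := S.nonreal_linear hodd hz hr
    have hχC₀ : χ ∉ C₀ := fun h => hχ' (hreal χ h)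
    have hχ₀C : χ₀ ∉ C := fun h => hχnr (hCreal χ₀ h)
    have hsum : ∀ (φ' : Cfsg.IrrCharacter S.H) (χ' : Cfsg.IrrCharacter G), χ' ∈ S.rest hodd →
        H26.conjIrr χ' ≠ χ' →
        (∀ ψ ∈ S.rest hodd, S.mult ψ φ' = (if ψ ∈ C₀ then 1 else 0) + (if ψ = χ' then 1 else 0)) →
        ∑ ψ ∈ S.rest hodd, S.mult ψ φ * S.mult ψ φ' =
          (C ∩ C₀).card + if χ = χ' then 1 else 0 := fun φ' χ' hχR hχnr' hm' => by
      have hχ'C : χ' ∉ C := fun h => hχnr' (hCreal χ' h)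
      rw [Finset.sum_congr rfl (g := fun ψ => (if ψ ∈ C then 1 else 0) * (if ψ ∈ C₀ then 1 else 0) +
        (if ψ = χ then (if χ = χ' then 1 else 0) else 0)) (fun ψ hψ => ?_),
        Finset.sum_add_distrib, sum_boole_inter _ _ _ hC, Finset.sum_ite_eq', if_pos hχ]
      rw [hm ψ hψ, hm' ψ hψ]
      by_cases e1 : ψ = χ
      · subst e1
        have : ψ ∉ C := fun h => hχ' (hCreal ψ h)
        simp [hχC₀, this]
      · rw [if_neg e1, add_zero, if_neg e1, add_zero]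
        by_cases e2 : ψ = χ'
        · subst e2; simp [hχ'C]
        · rw [if_neg e2, add_zero]
    have hg1 := S.rest_gram hodd hφ hφ₀
    rw [if_neg h1, hz, hz₀, hsum φ₀ χ₀ hχ₀ hχnr hm₀] at hg1
    have hg2 := S.rest_gram hodd hφ hφ₀'
    rw [if_neg h2, degOf_conjIrr, hz, hz₀, hsum (H26.conjIrr φ₀) (H26.conjIrr χ₀) (S.rest_conj hodd hχ₀)
      (fun h => hχnr (by rw [H26.conjIrr_conjIrr] at h; exact h.symm)) (fun ψ hψ => ?_)] at hg2
    · have hne : ¬ χ = χ₀ := fun h => by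
        rw [if_pos h] at hg1
        rw [if_neg (fun h' : χ = H26.conjIrr χ₀ => hχnr (h'.symm.trans h))] at hg2
        omega
      rw [if_neg hne] at hg1
      have hCC : C = C₀ := by
        have e1 := Finset.eq_of_subset_of_card_le (Finset.inter_subset_left (s₁ := C) (s₂ := C₀))
          (by rw [hCcard]; omega)
        exact Finset.eq_of_subset_of_card_le (Finset.inter_eq_left.1 e1) (by rw [hcard, hCcard])
      subst hCC
      exact ⟨χ, hχ, hχC₀, fun ψ hψ => by rw [hm ψ hψ, hz]⟩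
    · have hmm := S.mult_conj (H26.conjIrr ψ) φ₀
      rw [H26.conjIrr_conjIrr] at hmm
      rw [hmm, hm₀ _ (S.rest_conj hodd hψ)]
      congr 1
      · refine if_congr ⟨fun h' => ?_, fun h' => ?_⟩ rfl rfl
        · have := hreal _ h'; rw [H26.conjIrr_conjIrr] at this; rwa [← this] at h'
        · rwa [hreal _ h']
      · refine if_congr ⟨fun h' => ?_, fun h' => ?_⟩ rfl rfl
        · rw [← h', H26.conjIrr_conjIrr]
        · rw [h', H26.conjIrr_conjIrr]

/-- Enough real linear characters determine the common characters. -/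
theorem exists_core_of_real (hr : ∀ φ : Cfsg.IrrCharacter S.H, degOf φ = 1 → H26.conjIrr φ = φ)
    (hbig : 4 * S.e ^ 2 + 1 < (commutator S.H).index) : ∃ C₀, S.Core hodd C₀ := by
  let L := (Finset.univ.filter fun φ : Cfsg.IrrCharacter S.H => degOf φ = 1).erase (H26.oneIrr S.H)
  have hL : 4 * S.e ^ 2 < L.card := by
    rw [Finset.card_erase_of_mem (by simp [degOf_oneIrr]), card_linear]; omega
  have hmem : ∀ φ ∈ L, φ ≠ H26.oneIrr S.H ∧ degOf φ = 1 := fun φ hφ => by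
    simp only [L, Finset.mem_erase, Finset.mem_filter, Finset.mem_univ, true_and] at hφ
    exact hφ
  have key : ∀ φ ∈ L, ∃ A : Finset (Cfsg.IrrCharacter G), A ⊆ S.rest hodd ∧ A.card = S.kk hodd + 1 ∧
      (∀ ψ ∈ A, H26.conjIrr ψ = ψ) ∧
      ∀ ψ ∈ S.rest hodd, S.mult ψ φ = if ψ ∈ A then 1 else 0 := fun φ hφ =>
    S.real_linear hodd (hmem φ hφ).1 (hmem φ hφ).2 (hr φ (hmem φ hφ).2)
  choose! A hA using key
  have hinter : ∀ φ ∈ L, ∀ φ' ∈ L, (A φ ∩ A φ').card =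
      (if S.SameOrbit φ φ' then 1 else 0) + S.kk hodd := fun φ hφ φ' hφ' => by
    have h := S.rest_gram hodd (hmem φ hφ).1 (hmem φ' hφ').1
    rw [(hmem φ hφ).2, (hmem φ' hφ').2, one_mul, one_mul, Finset.sum_congr rfl
      (g := fun ψ => (if ψ ∈ A φ then 1 else 0) * (if ψ ∈ A φ' then 1 else 0))
      (fun ψ hψ => by rw [(hA φ hφ).2.2.2 ψ hψ, (hA φ' hφ').2.2.2 ψ hψ]),
      sum_boole_inter _ _ _ (hA φ hφ).1] at h
    exact h
  have hfib : L.card ≤ S.e * (L.image A).card := by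
    refine Finset.card_le_mul_card_image _ S.e fun B hB => ?_
    obtain ⟨φ, hφ, rfl⟩ := Finset.mem_image.1 hB
    refine (Finset.card_le_card (t := Finset.univ.image fun d => S.cj d φ) fun φ' hφ' => ?_).trans
      (Finset.card_image_le.trans (by rw [Finset.card_univ, ZSetup.e, Nat.card_eq_fintype_card]))
    obtain ⟨hφ'L, hAe⟩ := Finset.mem_filter.1 hφ'
    have h := hinter φ' hφ'L φ hφ
    rw [hAe, Finset.inter_self, (hA φ hφ).2.1] at h
    by_cases ho : S.SameOrbit φ' φ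
    · obtain ⟨d, hd⟩ := ho
      exact Finset.mem_image.2 ⟨d, Finset.mem_univ _, hd⟩
    · rw [if_neg ho] at h; omega
  have hcount : S.kk hodd + 2 < (L.image A).card := by
    have h2 := S.two_le_e
    have h3 := S.e_eq hodd
    have h4 : S.e * (4 * S.e) < S.e * (L.image A).card := by
      calc S.e * (4 * S.e) = 4 * S.e ^ 2 := by ring
        _ < _ := hL.trans_le hfib
    have := Nat.lt_of_mul_lt_mul_left h4
    omega
  obtain ⟨C₀, hC₀, hC₀sub⟩ := exists_common_core (L.image A) (S.kk hodd)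
    (fun B hB => by obtain ⟨φ, hφ, rfl⟩ := Finset.mem_image.1 hB; exact (hA φ hφ).2.1)
    (fun B hB B' hB' hne => by
      obtain ⟨φ, hφ, rfl⟩ := Finset.mem_image.1 hB
      obtain ⟨φ', hφ', rfl⟩ := Finset.mem_image.1 hB'
      rw [hinter φ hφ φ' hφ', if_neg, zero_add]
      intro ho
      refine hne (Finset.ext fun ψ => ⟨fun h => ?_, fun h => ?_⟩)
      · have h' := S.mult_eq_of_sameOrbit hodd (hmem φ hφ).1 (hmem φ' hφ').1 ho ψ ((hA φ hφ).1 h)
        rw [(hA φ hφ).2.2.2 ψ ((hA φ hφ).1 h), if_pos h, (hA φ' hφ').2.2.2 ψ ((hA φ hφ).1 h)] at h'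
        by_contra hc; rw [if_neg hc] at h'; omega
      · have h' := S.mult_eq_of_sameOrbit hodd (hmem φ hφ).1 (hmem φ' hφ').1 ho ψ ((hA φ' hφ').1 h)
        rw [(hA φ hφ).2.2.2 ψ ((hA φ' hφ').1 h), (hA φ' hφ').2.2.2 ψ ((hA φ' hφ').1 h), if_pos h] at h'
        by_contra hc; rw [if_neg hc] at h'; omega) hcount
  obtain ⟨φ₁, hφ₁⟩ : L.Nonempty := Finset.card_pos.1 (by omega)
  have hsub₁ := hC₀sub _ (Finset.mem_image_of_mem A hφ₁)
  refine ⟨C₀, hsub₁.trans (hA φ₁ hφ₁).1, hC₀, fun ψ hψ => (hA φ₁ hφ₁).2.2.1 ψ (hsub₁ hψ),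
    fun φ hφ hz => ?_⟩
  have hφL : φ ∈ L := by simp [L, hφ, hz]
  obtain ⟨hAR, hAcard, -, hm⟩ := hA φ hφL
  have hCA := hC₀sub _ (Finset.mem_image_of_mem A hφL)
  obtain ⟨χ, hχ⟩ : ∃ χ, A φ \ C₀ = {χ} := Finset.card_eq_one.1 (by
    rw [Finset.card_sdiff_of_subset hCA, hAcard, hC₀]; omega)
  have hχmem : χ ∈ A φ \ C₀ := by rw [hχ]; exact Finset.mem_singleton_self χ
  rw [Finset.mem_sdiff] at hχmem
  refine ⟨χ, hAR hχmem.1, hχmem.2, fun ψ hψ => ?_⟩
  rw [hm ψ hψ, hz]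
  by_cases hψC : ψ ∈ C₀
  · rw [if_pos (hCA hψC), if_pos hψC, if_neg (fun h' : ψ = χ => hχmem.2 (h' ▸ hψC))]
  · rw [if_neg hψC, zero_add]
    refine if_congr ⟨fun h' => ?_, fun h' => h' ▸ hχmem.1⟩ rfl rfl
    have : ψ ∈ A φ \ C₀ := Finset.mem_sdiff.2 ⟨h', hψC⟩
    rwa [hχ, Finset.mem_singleton] at this

end ZSetup

end Cfsg.Agent.H39
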