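import Cfsg.Agent.H39.FeitBase

/-!
# Extending purity to all characters of the kernel
-/

set_option autoImplicit false

namespace Cfsg.Agent.H39

open MulAction
open scoped ComplexConjugate Classical

/-- Orders of coprime normal subgroups multiply in the join. -/
lemma card_sup_of_coprime {K : Type*} [Group K] [Finite K] (A C : Subgroup K) [C.Normal]
    (h : (Nat.card A).Coprime (Nat.card C)) : Nat.card ↥(A ⊔ C) = Nat.card A * Nat.card C := by
  have hd : Disjoint C A := Subgroup.disjoint_of_coprime_natCard h.symm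
  rw [← Subgroup.relIndex_bot_left, ← Subgroup.relIndex_mul_relIndex ⊥ C (A ⊔ C) bot_le le_sup_right,
    Subgroup.relIndex_sup_right, Subgroup.relIndex_bot_left, mul_comm (Nat.card A)]
  congr 1
  rw [← Subgroup.inf_relIndex_right, hd.eq_bot, Subgroup.relIndex_bot_left]

namespace ZSetup

variable {G Ω : Type*} [Group G] [MulAction G Ω] [Fintype Ω] (S : ZSetup G Ω) [Fintype G]

/-- A `D`-invariant finset of non-trivial characters has weights divisible by `e`. -/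
lemma e_dvd_sum (T : Finset (Cfsg.IrrCharacter S.H)) (hne : ∀ φ ∈ T, φ ≠ H26.oneIrr S.H)
    (hclosed : ∀ φ ∈ T, ∀ d : S.D, S.cj d φ ∈ T) (f : Cfsg.IrrCharacter S.H → ℕ)
    (hf : ∀ φ ∈ T, ∀ d : S.D, f (S.cj d φ) = f φ) : S.e ∣ ∑ φ ∈ T, f φ := by
  let orb : Cfsg.IrrCharacter S.H → Finset (Cfsg.IrrCharacter S.H) := fun φ =>
    Finset.univ.image fun d => S.cj d φ
  rw [← Finset.sum_fiberwise_of_maps_to (g := orb) (t := T.image orb)
    (fun φ hφ => Finset.mem_image_of_mem orb hφ)]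
  refine Finset.dvd_sum fun O hO => ?_
  obtain ⟨φ, hφ, rfl⟩ := Finset.mem_image.1 hO
  have hfib : (T.filter fun φ' => orb φ' = orb φ) = orb φ := by
    ext φ'
    simp only [Finset.mem_filter, orb, Finset.mem_image, Finset.mem_univ, true_and]
    refine ⟨fun h => ?_, ?_⟩
    · have : φ' ∈ Finset.univ.image fun d => S.cj d φ :=
        h.2 ▸ Finset.mem_image.2 ⟨1, Finset.mem_univ _, S.cj_one φ'⟩
      simpa using this
    · rintro ⟨d, rfl⟩
      refine ⟨hclosed φ hφ d, ?_⟩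
      ext φ'
      simp only [Finset.mem_image, Finset.mem_univ, true_and, ← S.cj_mul]
      exact ⟨fun ⟨c, hc⟩ => ⟨c * d, hc⟩, fun ⟨c, hc⟩ => ⟨c * d⁻¹, by rw [inv_mul_cancel_right]; exact hc⟩⟩
  rw [hfib, Finset.sum_congr rfl (g := fun _ => f φ) (fun φ' hφ' => by
    obtain ⟨d, -, rfl⟩ := Finset.mem_image.1 hφ'; exact hf φ hφ d), Finset.sum_const,
    Finset.card_image_of_injective _ (S.cj_injective (hne φ hφ)), Finset.card_univ,
    ← Nat.card_eq_fintype_card, smul_eq_mul]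
  exact dvd_mul_right _ _

omit [Fintype G] in
/-- An invariant non-trivial subgroup of `H` has more than `e` elements. -/
lemma e_lt_card [Finite G] (C : Subgroup S.H) (hC : C ≠ ⊥)
    (hinv : ∀ d : S.D, ∀ u ∈ C, S.conjH d u ∈ C) : S.e < Nat.card C := by
  obtain ⟨u, hu, hu1⟩ := C.bot_or_exists_ne_one.resolve_left hC
  have hinj : Function.Injective fun d : S.D => S.conjH d u := by
    intro c d h
    have h' : (c : G)⁻¹ * u * c = (d : G)⁻¹ * u * d := congrArg Subtype.val h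
    by_contra hne
    refine hu1 (Subtype.ext (S.fpf (d := (d * c⁻¹ : S.D)) (d * c⁻¹).2 (fun h0 => hne ?_) u.2 ?_))
    · exact (mul_inv_eq_one.1 (Subtype.ext (p := (· ∈ S.D)) h0)).symm
    · push_cast
      calc (d : G) * (c : G)⁻¹ * u = d * ((c : G)⁻¹ * u * c) * (c : G)⁻¹ := by group
        _ = d * ((d : G)⁻¹ * u * d) * (c : G)⁻¹ := by rw [h']
        _ = _ := by group
  have hlt : Nat.card S.D < Nat.card C := by
    haveI := Fintype.ofFinite G
    refine lt_of_le_of_ne (Nat.card_le_card_of_injective (fun d => (⟨S.conjH d u, hinv d u hu⟩ : C))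
      fun c d h => hinj (congrArg Subtype.val h)) fun heq => ?_
    have hbij := (Nat.bijective_iff_injective_and_card
      (fun d => (⟨S.conjH d u, hinv d u hu⟩ : C))).2 ⟨fun c d h => hinj (congrArg Subtype.val h), heq⟩
    obtain ⟨d, hd⟩ := hbij.2 1
    have h1 : S.conjH d u = 1 := congrArg Subtype.val hd
    rw [EmbeddingLike.map_eq_one_iff] at h1
    exact hu1 h1
  exact hlt

lemma trivOn_cj {A : Subgroup S.H} {φ : Cfsg.IrrCharacter S.H} (d : S.D)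
    (hA : ∀ u ∈ A, S.conjH d u ∈ A) (h : TrivOn A φ) : TrivOn A (S.cj d φ) := fun u hu => by
  rw [S.cj_apply, S.cj_apply, map_one, h _ (hA u hu)]

variable [IsSimpleGroup G] (hodd : Odd S.e)
include hodd

/-- The inner product of two pure vectors. -/
lemma pure_gram {C₀ : Finset (Cfsg.IrrCharacter G)} (hc : S.Core hodd C₀)
    {φ φ' : Cfsg.IrrCharacter S.H} {χ χ' : Cfsg.IrrCharacter G}
    (hφ : φ ≠ H26.oneIrr S.H) (hφ' : φ' ≠ H26.oneIrr S.H) (hχ : χ ∈ S.rest hodd) (hχ₀ : χ ∉ C₀)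
    (hχ₀' : χ' ∉ C₀)
    (hm : ∀ ψ ∈ S.rest hodd, S.mult ψ φ = (if ψ ∈ C₀ then degOf φ else 0) + (if ψ = χ then 1 else 0))
    (hm' : ∀ ψ ∈ S.rest hodd,
      S.mult ψ φ' = (if ψ ∈ C₀ then degOf φ' else 0) + (if ψ = χ' then 1 else 0)) :
    χ = χ' ↔ S.SameOrbit φ φ' := by
  have h := S.rest_gram hodd hφ hφ'
  rw [Finset.sum_congr rfl (g := fun ψ => (if ψ ∈ C₀ then degOf φ * degOf φ' else 0) +
    (if ψ = χ then (if χ = χ' then 1 else 0) else 0)) (fun ψ hψ => ?_), Finset.sum_add_distrib,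
    Finset.sum_ite_mem, Finset.inter_eq_right.2 hc.sub, Finset.sum_const, hc.card,
    Finset.sum_ite_eq', if_pos hχ, smul_eq_mul, mul_comm (S.kk hodd)] at h
  · constructor
    · intro he
      rw [if_pos he] at h
      by_contra ho
      rw [if_neg ho] at h
      omega
    · intro ho
      rw [if_pos ho] at h
      by_contra he
      rw [if_neg he] at h
      omega
  · rw [hm ψ hψ, hm' ψ hψ]
    by_cases e0 : ψ ∈ C₀
    · have e1 : ψ ≠ χ := fun h => hχ₀ (h ▸ e0)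
      have e2 : ψ ≠ χ' := fun h => hχ₀' (h ▸ e0)
      simp [e0, e1, e2]
    · by_cases e1 : ψ = χ
      · subst e1; simp [e0]
      · simp [e0, e1]

/-- Purity passes to a character of small degree compared with a pure invariant set. -/
theorem pure_extend {C₀ : Finset (Cfsg.IrrCharacter G)} (hc : S.Core hodd C₀)
    (T : Finset (Cfsg.IrrCharacter S.H))
    (hT : ∀ φ ∈ T, φ ≠ H26.oneIrr S.H ∧ S.Pure hodd C₀ φ)
    (hclosed : ∀ φ ∈ T, ∀ d : S.D, S.cj d φ ∈ T) {φ : Cfsg.IrrCharacter S.H}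
    (hφ : φ ≠ H26.oneIrr S.H) (hbig : 2 * S.e * degOf φ < ∑ φ' ∈ T, degOf φ' ^ 2) :
    S.Pure hodd C₀ φ := by
  by_cases hmem : ∃ φ' ∈ T, S.SameOrbit φ φ'
  · obtain ⟨φ', hφ', d, rfl⟩ := hmem
    exact (hT _ (hclosed φ' hφ' d)).2
  push Not at hmem
  have hX : ∀ φ' ∈ T, ∃ χ ∈ S.rest hodd, χ ∉ C₀ ∧ ∀ ψ ∈ S.rest hodd,
      S.mult ψ φ' = (if ψ ∈ C₀ then degOf φ' else 0) + (if ψ = χ then 1 else 0) :=
    fun φ' h => (hT φ' h).2
  haveI : Nonempty (Cfsg.IrrCharacter G) := ⟨H26.oneIrr G⟩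
  choose! X hXR hXC hXm using hX
  set z := degOf φ with hz
  set k := S.kk hodd with hk
  let v : Cfsg.IrrCharacter G → ℤ := fun ψ => (S.mult ψ φ : ℤ)
  set N : ℤ := (z : ℤ) * k - ∑ ψ ∈ C₀, v ψ with hN
  have hv : ∀ φ' ∈ T, v (X φ') = (degOf φ' : ℤ) * N := by
    intro φ' hφ'
    have h := congrArg (Nat.cast : ℕ → ℤ) (S.rest_gram hodd hφ (hT φ' hφ').1)
    rw [if_neg (hmem φ' hφ'), zero_add] at h
    push_cast at h
    rw [Finset.sum_congr rfl (g := fun ψ => (if ψ ∈ C₀ then (degOf φ' : ℤ) * v ψ else 0) +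
      (if ψ = X φ' then v ψ else 0)) (fun ψ hψ => ?_), Finset.sum_add_distrib, Finset.sum_ite_mem,
      Finset.inter_eq_right.2 hc.sub, ← Finset.mul_sum, Finset.sum_ite_eq', if_pos (hXR φ' hφ')] at h
    · rw [hN]; linear_combination h
    · rw [hXm φ' hφ' ψ hψ]
      push_cast
      simp only [v, mul_add, mul_ite, mul_zero, mul_one]
      rw [mul_comm ((S.mult ψ φ : ℤ))]
  have hsq : ∑ ψ ∈ S.rest hodd, v ψ ^ 2 = 1 + (z : ℤ) ^ 2 * k := by
    have h := congrArg (Nat.cast : ℕ → ℤ) (S.rest_norm hodd hφ)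
    push_cast at h
    rw [Finset.sum_congr rfl (fun ψ _ => sq (v ψ))]
    simp only [v]
    rw [h]; ring
  obtain ⟨m, hm⟩ := S.e_dvd_sum T (fun φ' h => (hT φ' h).1) hclosed (fun φ' => degOf φ' ^ 2)
    (fun φ' _ d => by rw [S.degOf_cj])
  have hmz : 2 * z < m := by
    by_contra hc'
    push Not at hc'
    have : S.e * m ≤ S.e * (2 * z) := Nat.mul_le_mul_left _ hc'
    rw [← hm] at this
    rw [mul_comm 2 S.e, mul_assoc] at hbig
    omega
  have hfib : ∑ φ' ∈ T, v (X φ') ^ 2 ≤ (S.e : ℤ) * ∑ ψ ∈ (S.rest hodd) \ C₀, v ψ ^ 2 := by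
    rw [← Finset.sum_fiberwise_of_maps_to (g := X) (t := (S.rest hodd) \ C₀)
      (fun φ' h => Finset.mem_sdiff.2 ⟨hXR φ' h, hXC φ' h⟩), Finset.mul_sum]
    refine Finset.sum_le_sum fun ψ _ => ?_
    rw [Finset.sum_congr rfl (g := fun _ => v ψ ^ 2) (fun φ' h => by rw [(Finset.mem_filter.1 h).2]),
      Finset.sum_const, nsmul_eq_mul]
    refine mul_le_mul_of_nonneg_right ?_ (sq_nonneg _)
    rcases (T.filter fun φ' => X φ' = ψ).eq_empty_or_nonempty with h | ⟨φ₁, hφ₁⟩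
    · rw [h]; simp
    obtain ⟨h₁, h₁'⟩ := Finset.mem_filter.1 hφ₁
    have : (T.filter fun φ' => X φ' = ψ).card ≤ S.e := by
      refine (Finset.card_le_card (t := Finset.univ.image fun d => S.cj d φ₁) fun φ₂ hφ₂ => ?_).trans
        (Finset.card_image_le.trans (by rw [Finset.card_univ, ZSetup.e, Nat.card_eq_fintype_card]))
      obtain ⟨h₂, h₂'⟩ := Finset.mem_filter.1 hφ₂
      obtain ⟨d, hd⟩ := (S.pure_gram hodd hc (hT φ₂ h₂).1 (hT φ₁ h₁).1 (hXR φ₂ h₂) (hXC φ₂ h₂)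
        (hXC φ₁ h₁) (hXm φ₂ h₂) (hXm φ₁ h₁)).1 (h₂'.trans h₁'.symm)
      exact Finset.mem_image.2 ⟨d, Finset.mem_univ _, hd⟩
    exact_mod_cast this
  rw [Finset.sum_congr rfl (g := fun φ' => N ^ 2 * (degOf φ' : ℤ) ^ 2)
    (fun φ' h => by rw [hv φ' h]; ring), ← Finset.mul_sum,
    show ∑ φ' ∈ T, (degOf φ' : ℤ) ^ 2 = (S.e : ℤ) * m by exact_mod_cast hm] at hfib
  have he : (0 : ℤ) < S.e := by have := S.two_le_e; omega
  have hsplit := Finset.sum_sdiff (f := fun ψ => v ψ ^ 2) hc.sub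
  rw [hsq] at hsplit
  have hfib' : N ^ 2 * m ≤ ∑ ψ ∈ (S.rest hodd) \ C₀, v ψ ^ 2 := by nlinarith
  have hcs : (∑ ψ ∈ C₀, v ψ) ^ 2 ≤ (k : ℤ) * ∑ ψ ∈ C₀, v ψ ^ 2 := by
    have := sq_sum_le_card_mul_sum_sq (s := C₀) (f := v)
    rwa [hc.card] at this
  have hN0 : 0 ≤ N := by
    obtain ⟨φ', hφ'⟩ : T.Nonempty := by
      by_contra h
      rw [Finset.not_nonempty_iff_eq_empty] at h
      rw [h, Finset.sum_empty] at hbig
      omega
    have h1 : (0 : ℤ) ≤ v (X φ') := Int.natCast_nonneg _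
    rw [hv φ' hφ'] at h1
    have h2 : (0 : ℤ) < degOf φ' := by exact_mod_cast degOf_pos φ'
    nlinarith
  have hNz : N = 0 := by
    by_contra hne
    have h1 : 1 ≤ N := by omega
    have hkpos : (1 : ℤ) ≤ k := by exact_mod_cast S.kk_pos hodd
    have hm' : (2 * z + 1 : ℤ) ≤ m := by exact_mod_cast hmz
    have h2 : ∑ ψ ∈ C₀, v ψ = (z : ℤ) * k - N := by rw [hN]; ring
    rw [h2] at hcs
    have h3 : N ^ 2 * (2 * z + 1) * k ≤ N ^ 2 * m * k := by
      exact mul_le_mul_of_nonneg_right (mul_le_mul_of_nonneg_left hm' (sq_nonneg N)) (by omega)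
    have h4 : N ^ 2 * m * k ≤ (∑ ψ ∈ (S.rest hodd) \ C₀, v ψ ^ 2) * k :=
      mul_le_mul_of_nonneg_right hfib' (by omega)
    nlinarith [mul_nonneg (mul_nonneg (show (0:ℤ) ≤ k by omega) (show (0:ℤ) ≤ z by omega))
      (mul_nonneg hN0 (show (0:ℤ) ≤ N - 1 by omega)),
      mul_nonneg (show (0:ℤ) ≤ k by omega) (show (0:ℤ) ≤ N ^ 2 - 1 by nlinarith)]
  -- the common part is constant
  have hsum : ∑ ψ ∈ C₀, v ψ = (z : ℤ) * k := by linarith
  have hdev : ∑ ψ ∈ C₀, (v ψ - z) ^ 2 = ∑ ψ ∈ C₀, v ψ ^ 2 - (z : ℤ) ^ 2 * k := by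
    have : ∀ ψ ∈ C₀, (v ψ - (z : ℤ)) ^ 2 = v ψ ^ 2 - 2 * (z : ℤ) * v ψ + (z : ℤ) ^ 2 :=
      fun ψ _ => by ring
    rw [Finset.sum_congr rfl this, Finset.sum_add_distrib, Finset.sum_sub_distrib, ← Finset.mul_sum,
      hsum, Finset.sum_const, hc.card, nsmul_eq_mul, ← hk]
    ring
  have hle : ∑ ψ ∈ C₀, (v ψ - z) ^ 2 ≤ 1 := by
    have : 0 ≤ ∑ ψ ∈ (S.rest hodd) \ C₀, v ψ ^ 2 := Finset.sum_nonneg fun ψ _ => sq_nonneg _
    rw [hdev]; linarith
  have hC : ∀ ψ ∈ C₀, v ψ = z := by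
    intro ψ hψ
    by_contra hne
    have h1 : 1 ≤ (v ψ - z) ^ 2 := by
      have : v ψ - z ≠ 0 := sub_ne_zero.2 hne
      have := sq_pos_of_ne_zero this
      omega
    rw [← Finset.add_sum_erase _ _ hψ] at hle
    have h2 : ∀ ψ' ∈ C₀.erase ψ, (v ψ' - z) ^ 2 = 0 := by
      refine (Finset.sum_eq_zero_iff_of_nonneg fun ψ' _ => sq_nonneg _).1 (le_antisymm ?_
        (Finset.sum_nonneg fun ψ' _ => sq_nonneg _))
      linarith
    have h3 : ∑ ψ' ∈ C₀, (v ψ' - z) = v ψ - z := by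
      rw [← Finset.add_sum_erase _ _ hψ, Finset.sum_eq_zero (s := C₀.erase ψ)
        (fun ψ' h => (pow_eq_zero_iff two_ne_zero).1 (h2 ψ' h)), add_zero]
    rw [Finset.sum_sub_distrib, hsum, Finset.sum_const, hc.card, nsmul_eq_mul] at h3
    exact hne (by linarith)
  have hout : ∑ ψ ∈ (S.rest hodd) \ C₀, v ψ ^ 2 = 1 := by
    rw [Finset.sum_congr rfl (s₁ := C₀) (g := fun _ => (z : ℤ) ^ 2) (fun ψ h => by rw [hC ψ h]),
      Finset.sum_const, hc.card, nsmul_eq_mul] at hsplit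
    linarith
  obtain ⟨χ, hχ, hχ1⟩ : ∃ χ ∈ (S.rest hodd) \ C₀, v χ ≠ 0 := by
    by_contra h
    push Not at h
    rw [Finset.sum_eq_zero fun ψ hψ => by rw [h ψ hψ]; ring] at hout
    exact zero_ne_one hout
  rw [← Finset.add_sum_erase _ _ hχ] at hout
  have hχp : 1 ≤ v χ := by
    have : 0 ≤ v χ := Int.natCast_nonneg _
    omega
  have hχv : v χ = 1 := by
    have : 0 ≤ ∑ ψ ∈ ((S.rest hodd) \ C₀).erase χ, v ψ ^ 2 := Finset.sum_nonneg fun ψ _ => sq_nonneg _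
    nlinarith
  have hzero : ∀ ψ ∈ ((S.rest hodd) \ C₀).erase χ, v ψ ^ 2 = 0 := by
    refine (Finset.sum_eq_zero_iff_of_nonneg fun ψ _ => sq_nonneg _).1 ?_
    rw [hχv] at hout
    linarith
  obtain ⟨hχR, hχC⟩ := Finset.mem_sdiff.1 hχ
  refine ⟨χ, hχR, hχC, fun ψ hψ => ?_⟩
  apply Nat.cast_injective (R := ℤ)
  push_cast
  show v ψ = _
  by_cases e0 : ψ ∈ C₀
  · rw [if_pos e0, if_neg (fun h : ψ = χ => hχC (h ▸ e0)), add_zero, hC ψ e0]
  · rw [if_neg e0, zero_add]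
    by_cases e1 : ψ = χ
    · subst e1; rw [if_pos rfl, hχv]
    · rw [if_neg e1]
      exact (pow_eq_zero_iff two_ne_zero).1 (hzero ψ (Finset.mem_erase.2 ⟨e1, Finset.mem_sdiff.2 ⟨hψ, e0⟩⟩))

end ZSetup

end Cfsg.Agent.H39
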