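import Cfsg.Agent.H39.FeitPure
import Cfsg.Agent.H38.ClassCoeff

/-!
# The two contradictions in the bound on the kernel of a Zassenhaus group
-/

set_option autoImplicit false

namespace Cfsg.Agent.H39

open MulAction
open scoped ComplexConjugate Classical

/-- The arithmetic contradiction in odd characteristic. -/
lemma feit_arith {m k d s Q x E : ℤ} (hk : 1 ≤ k) (hE : E = 2 * k + 1) (hQ0 : 0 ≤ Q)
    (hx : x ≤ E ^ 2) (hm : 4 * E ^ 2 + 4 * E ≤ m) (hs : s ^ 2 ≤ (k - 1) * Q)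
    (hD : d + (x + s) = (m + 2) * k + 1) (hQ : 2 * d ^ 2 + Q ≤ m * ((m + 2) * k + 1)) : False := by
  subst hE
  have hds : (d + s) ^ 2 * 2 ≤ (2 * k - 1) * (2 * d ^ 2 + Q) := by
    rcases eq_or_lt_of_le hk with hk' | hk'
    · subst hk'
      have hs0 : s = 0 := by
        have := sq_nonneg s
        exact (pow_eq_zero_iff two_ne_zero).1 (by linarith)
      rw [hs0]; linarith
    · by_contra hc'
      push Not at hc'
      nlinarith [sq_nonneg (2 * (k - 1) * d - s),
        mul_le_mul_of_nonneg_left hs (show (0:ℤ) ≤ 2 * k - 1 by omega)]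
  have hXY : (m + 2) * k + 1 - (2 * k + 1) ^ 2 ≤ d + s := by linarith
  have hm0 : 0 ≤ m := le_trans (by positivity) hm
  have hY0 : 0 ≤ (m + 2) * k + 1 - (2 * k + 1) ^ 2 := by nlinarith
  have hfin : 2 * ((m + 2) * k + 1 - (2 * k + 1) ^ 2) ^ 2 ≤
      (2 * k - 1) * (m * ((m + 2) * k + 1)) := by
    have h1 := pow_le_pow_left₀ hY0 hXY 2
    have h3 := mul_le_mul_of_nonneg_left hQ (show (0:ℤ) ≤ 2 * k - 1 by omega)
    linarith
  have hmq : 8 * (2 * k + 1) ≤ m - 4 * (2 * k + 1) * (2 * k) := by nlinarith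
  have key : m * (k * (m - 4 * (2 * k + 1) * (2 * k))) ≤ m * ((2 * k - 1) * (2 * k + 1)) := by
    nlinarith [sq_nonneg ((2 * k + 1) * (2 * k))]
  have key2 : k * (m - 4 * (2 * k + 1) * (2 * k)) ≤ (2 * k - 1) * (2 * k + 1) :=
    le_of_mul_le_mul_left key (by nlinarith)
  nlinarith [mul_le_mul_of_nonneg_left hmq (show (0:ℤ) ≤ k by omega)]

namespace ZSetup

variable {G Ω : Type*} [Group G] [MulAction G Ω] [Fintype Ω] (S : ZSetup G Ω) [Fintype G]
  [IsSimpleGroup G] (hodd : Odd S.e)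
include hodd

/-- If all characters of the kernel are pure, the kernel is small. -/
theorem le_of_all_pure {C₀ : Finset (Cfsg.IrrCharacter G)} (hc : S.Core hodd C₀)
    (hall : ∀ φ, φ ≠ H26.oneIrr S.H → S.Pure hodd C₀ φ) : S.h - 1 ≤ 2 * S.e := by
  haveI := S.H_nilpotent
  have hne : (⊥ : Subgroup S.H) ≠ ⊤ := fun h => by
    obtain ⟨u, hu, hu1⟩ := S.exists_H_ne_one
    have hm : (⟨u, hu⟩ : S.H) ∈ (⊥ : Subgroup S.H) := h ▸ Subgroup.mem_top _
    exact hu1 (congrArg Subtype.val (Subgroup.mem_bot.1 hm))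
  obtain ⟨φ, hφ, hz, -⟩ := exists_linear_trivOn (⊥ : Subgroup S.H) hne
  obtain ⟨χ, hχ, hχC, hm⟩ := hall φ hφ
  have hmult : ∀ φ', S.mult χ φ' = if S.SameOrbit φ' φ then 1 else 0 := fun φ' => by
    by_cases h1 : φ' = H26.oneIrr S.H
    · rw [h1, S.mult_one_rest hodd hχ, if_neg]
      rintro ⟨d, hd⟩
      exact S.cj_ne_one hφ hd
    · obtain ⟨χ', hχ', hχ'C, hm'⟩ := hall φ' h1
      rw [hm' χ hχ, if_neg hχC, zero_add]
      exact if_congr ⟨fun h => (S.pure_gram hodd hc h1 hφ hχ' hχ'C hχC hm' hm).1 h.symm,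
        fun h => ((S.pure_gram hodd hc h1 hφ hχ' hχ'C hχC hm' hm).2 h).symm⟩ rfl rfl
  have horb : (Finset.univ.filter fun φ' => S.SameOrbit φ' φ) =
      Finset.univ.image fun d => S.cj d φ := by
    ext φ'
    simp [SameOrbit]
  have horbcard : (Finset.univ.filter fun φ' => S.SameOrbit φ' φ).card = S.e := by
    rw [horb, Finset.card_image_of_injective _ (S.cj_injective hφ), Finset.card_univ,
      ← Nat.card_eq_fintype_card]
    rfl
  have hdeg : degOf χ = S.e := by
    rw [S.degOf_eq_sum, Finset.sum_congr rfl (g := fun φ' => if S.SameOrbit φ' φ then 1 else 0)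
      (fun φ' _ => ?_), Finset.sum_boole, horbcard, Nat.cast_id]
    rw [hmult φ']
    split_ifs with h
    · obtain ⟨d, rfl⟩ := h
      rw [S.degOf_cj, hz]
    · rw [zero_mul]
  -- the norm of the restriction to `H`
  have hnormH : ∑ u : S.H, χ.1 u * conj (χ.1 u) = (S.h : ℂ) * S.e := by
    have hcf : Cfsg.IsClassFunction S.H fun u : S.H => χ.1 u :=
      H26.isClassFunction_of_isCharacter (H26.isCharacter_comp (H26.irr_isCharacter χ) S.H.subtype)
    have h := H26.classInner_eq_sum _ (fun u : S.H => χ.1 u) hcf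
    simp only [S.mult_spec, map_natCast, hmult] at h
    rw [Cfsg.classInner, inv_mul_eq_iff_eq_mul₀ (Nat.cast_ne_zero.2 Nat.card_pos.ne'),
      Finset.sum_congr rfl (g := fun φ' => if S.SameOrbit φ' φ then (1 : ℂ) else 0)
        (fun φ' _ => by split_ifs <;> simp), Finset.sum_boole, horbcard] at h
    exact h
  let Ψ : G → ℂ := χ.1 * (H26.conjIrr χ).1
  have hΨ : Cfsg.IsCharacter G Ψ :=
    H26.isCharacter_mul (H26.irr_isCharacter χ) (H26.irr_isCharacter _)
  have hxi : ∀ l, Cfsg.classInner (S.xi hodd l) Ψ = 1 := fun l => by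
    rw [S.classInner_xi hodd l (H26.isClassFunction_of_isCharacter hΨ),
      Finset.sum_eq_zero (s := Finset.univ.erase (1 : S.D)) (fun d hd => ?_), mul_zero, add_zero]
    · have hu : ∀ u : S.H, conj (Ψ u) = χ.1 u * conj (χ.1 u) := fun u => by
        simp only [Ψ, Pi.mul_apply, H26.conjIrr_val, map_mul, Complex.conj_conj]; ring
      rw [Finset.sum_congr rfl (fun u _ => hu u), hnormH, inv_mul_cancel₀]
      exact mul_ne_zero S.h_ne_zero S.e_ne_zero
    · simp [Ψ, (S.rest_vanish hodd hχ).2 d (Finset.mem_erase.1 hd).1]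
  have hone : Cfsg.classInner Ψ (H26.oneIrr G).1 = 1 := by
    have h := H26.classInner_irr χ χ
    rw [if_pos rfl] at h
    rw [← h]
    simp [Ψ, Cfsg.classInner, H26.oneIrr_val, H26.conjIrr_val]
  obtain ⟨m, hm', hexp⟩ := H26.exists_nat_coeffs hΨ
  have hX : ∀ l, Cfsg.classInner Ψ (S.X hodd l).1 = 1 - if l = H26.oneIrr S.D then 1 else 0 := fun l => by
    have h := congrArg conj (hxi l)
    rw [← H26.classInner_comm, map_one, S.xi_eq hodd l, H26.classInner_add_right,
      H26.classInner_smul_right, hone, mul_one] at h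
    rw [eq_sub_iff_add_eq]
    convert h using 2
    split_ifs <;> simp
  have hval := congrFun hexp 1
  simp only [Ψ, Pi.mul_apply, H26.conjIrr_val, degOf_spec, map_natCast, Finset.sum_apply,
    Pi.smul_apply, smul_eq_mul, hdeg] at hval
  rw [S.sum_split hodd, S.two_mul_sum_others_const hodd _ ((S.h : ℂ) + 1) 0 1
    (by rw [← hm', hone, degOf_oneIrr]; simp)
    (by rw [← hm', hX, if_pos rfl, sub_self, zero_mul])
    (fun l hl => by
      rw [← hm', hX, if_neg hl, sub_zero, one_mul, ← degOf_spec, S.X_val hodd hl, S.xi_one hodd])] at hval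
  have hnat : S.e * S.e = (∑ ψ ∈ S.rest hodd, m ψ * degOf ψ) + (1 + S.kk hodd * (S.h + 1)) := by
    apply Nat.cast_injective (R := ℂ)
    push_cast
    linear_combination hval
  have he := S.e_eq hodd
  have hk := S.kk_pos hodd
  have h2 : S.kk hodd * (S.h + 1) + 1 ≤ S.e * S.e := by omega
  rw [he] at h2 ⊢
  by_contra hcon
  push Not at hcon
  have h3 : 2 * (2 * S.kk hodd + 1) + 3 ≤ S.h + 1 := by omega
  nlinarith [Nat.mul_le_mul_left (S.kk hodd) h3]

omit [Fintype G] [IsSimpleGroup G] hodd in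
lemma odd_h_of_isPGroup [Finite G] {p : ℕ} [Fact p.Prime] (hp2 : p ≠ 2) (hp : IsPGroup p S.H) :
    Odd S.h := by
  obtain ⟨n, hn⟩ := IsPGroup.iff_card.1 hp
  rw [ZSetup.h, hn]
  exact ((Fact.out : p.Prime).odd_of_ne_two hp2).pow

/-- Values of the remaining characters at an involution. -/
lemma rest_at_involution {χ : Cfsg.IrrCharacter G} (hχ : χ ∈ S.rest hodd) :
    ∃ a b : ℕ, degOf χ = S.e * (a + b) ∧ χ.1 S.w = (a : ℂ) - b := by
  let K := Subgroup.normalizer (S.D : Set G)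
  have hcardK : Nat.card K = 2 * S.e := by
    have h := (S.D.subgroupOf K).index_mul_card
    rw [S.index_D_normalizer, Nat.card_congr (Subgroup.subgroupOfEquivOfLe S.D_le_normalizer).toEquiv] at h
    exact h.symm
  let sgn : K →* ℂˣ := MonoidHom.mk' (fun k => if (k : G) ∈ S.D then 1 else -1) (fun x y => by
    have h2 := Subgroup.mul_mem_iff_of_index_two S.index_D_normalizer (a := x) (b := y)
    simp only [Subgroup.mem_subgroupOf, Subgroup.coe_mul] at h2 ⊢
    by_cases hx : (x : G) ∈ S.D <;> by_cases hy : (y : G) ∈ S.D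
    · rw [if_pos (h2.2 (iff_of_true hx hy)), if_pos hx, if_pos hy, mul_one]
    · rw [if_neg (fun h => hy ((h2.1 h).1 hx)), if_pos hx, if_neg hy, one_mul]
    · rw [if_neg (fun h => hx ((h2.1 h).2 hy)), if_neg hx, if_pos hy, mul_one]
    · rw [if_pos (h2.2 (iff_of_false hx hy)), if_neg hx, if_neg hy, neg_mul_neg, mul_one])
  have hval : ∀ c : ℂ, ∑ k : K, χ.1 k * (if (k : G) ∈ S.D then 1 else c) =
      (degOf χ : ℂ) + (S.e : ℂ) * (c * χ.1 S.w) := by
    intro c
    obtain ⟨hcomm, hinv⟩ := S.D_abelian hodd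
    have e1 : ∑ k ∈ Finset.univ.filter (fun k : K => (k : G) ∈ S.D),
        χ.1 k * (if (k : G) ∈ S.D then 1 else c) = (degOf χ : ℂ) := by
      have : ∑ k ∈ Finset.univ.filter (fun k : K => (k : G) ∈ S.D),
          χ.1 k * (if (k : G) ∈ S.D then 1 else c) = ∑ d : S.D, χ.1 d := by
        refine (Finset.sum_bij (fun (d : S.D) _ => (⟨(d : G), S.D_le_normalizer d.2⟩ : K))
          (fun d _ => Finset.mem_filter.2 ⟨Finset.mem_univ _, d.2⟩) (fun d _ f _ h => Subtype.ext (congrArg (fun k : K => (k : G)) h))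
          (fun k hk => ⟨⟨(k : G), (Finset.mem_filter.1 hk).2⟩, Finset.mem_univ _, rfl⟩)
          (fun d _ => by rw [if_pos (show (d : G) ∈ S.D from d.2), mul_one])).symm
      rw [this, Finset.sum_eq_single (1 : S.D) (fun d _ hd => (S.rest_vanish hodd hχ).2 d hd)
        (fun h => absurd (Finset.mem_univ _) h), Subgroup.coe_one, degOf_spec]
    have e2 : ∑ k ∈ Finset.univ.filter (fun k : K => ¬ (k : G) ∈ S.D),
        χ.1 k * (if (k : G) ∈ S.D then 1 else c) = (S.e : ℂ) * (c * χ.1 S.w) := by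
      have : ∑ k ∈ Finset.univ.filter (fun k : K => ¬ (k : G) ∈ S.D),
          χ.1 k * (if (k : G) ∈ S.D then 1 else c) = ∑ d : S.D, χ.1 S.w * c := by
        have hnot : ∀ d : S.D, (d : G) * S.w ∉ S.D := fun d h => S.w_not_mem_D (by
          simpa using mul_mem (inv_mem d.2) h)
        refine (Finset.sum_bij (fun (d : S.D) _ =>
          (⟨(d : G) * S.w, mul_mem (S.D_le_normalizer d.2) S.w_mem_normalizer⟩ : K))
          (fun d _ => Finset.mem_filter.2 ⟨Finset.mem_univ _, hnot d⟩) (fun d _ f _ h => Subtype.ext (mul_right_cancel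
            (congrArg (fun k : K => (k : G)) h))) (fun k hk => ?_) (fun d _ => ?_)).symm
        · rcases S.mem_normalizer_D.1 k.2 with hc' | ⟨ha, hb⟩
          · exact absurd (S.mem_D.2 hc') (Finset.mem_filter.1 hk).2
          · exact ⟨⟨_, S.mul_w_inv_mem_D ha hb⟩, Finset.mem_univ _,
              Subtype.ext (inv_mul_cancel_right _ _)⟩
        · have ha : ((d : G) * S.w) • S.a = S.b := by rw [mul_smul, S.w_a]; exact d.2.2
          have h2 : orderOf ((d : G) * S.w) = 2 := ((S.swapper_iff hodd).2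
            ⟨ha, by rw [mul_smul, S.w_b]; exact d.2.1⟩).1
          have h3 : orderOf S.w = 2 := ((S.swapper_iff hodd).2 ⟨S.w_a, S.w_b⟩).1
          rw [if_neg (hnot d)]
          congr 1
          exact H26.irr_eq_of_isConj χ (S.involutions_conj hodd h3 h2)
      rw [this, Finset.sum_const, Finset.card_univ, ← Nat.card_eq_fintype_card, nsmul_eq_mul]
      change (S.e : ℂ) * _ = _
      ring
    rw [← Finset.sum_filter_add_sum_filter_not Finset.univ (fun k : K => (k : G) ∈ S.D), e1, e2]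
  obtain ⟨a, ha⟩ := H26.exists_nat_classInner_irr (χ := fun k : K => χ.1 k)
    (H26.isCharacter_comp (H26.irr_isCharacter χ) K.subtype) (H26.oneIrr K)
  obtain ⟨b, hb⟩ := H26.exists_nat_classInner_irr (χ := fun k : K => χ.1 k)
    (H26.isCharacter_comp (H26.irr_isCharacter χ) K.subtype) ⟨_, H26.isIrrCharacter_hom sgn⟩
  have ha' : (a : ℂ) = (2 * (S.e : ℂ))⁻¹ * ((degOf χ : ℂ) + (S.e : ℂ) * χ.1 S.w) := by
    rw [← ha, Cfsg.classInner, hcardK]
    have h1 := hval 1
    simp only [ite_self, mul_one, one_mul] at h1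
    simp [H26.oneIrr_val, h1]
  have hb' : (b : ℂ) = (2 * (S.e : ℂ))⁻¹ * ((degOf χ : ℂ) - (S.e : ℂ) * χ.1 S.w) := by
    rw [← hb, Cfsg.classInner, hcardK]
    have h1 := hval (-1)
    rw [neg_one_mul, mul_neg, ← sub_eq_add_neg] at h1
    rw [← h1]
    push_cast
    congr 1
    refine Finset.sum_congr rfl fun k _ => ?_
    simp only [sgn, MonoidHom.mk'_apply]
    split_ifs <;> simp
  refine ⟨a, b, ?_, ?_⟩
  · apply Nat.cast_injective (R := ℂ)
    push_cast
    rw [ha', hb']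
    field_simp [S.e_ne_zero]
    ring
  · rw [ha', hb']
    field_simp [S.e_ne_zero]
    ring

/-- In odd degree the class of involutions has no products in `H`. -/
lemma sum_sq_at_involution (heven : Odd S.h) (u : S.H) :
    ∑ ψ : Cfsg.IrrCharacter G, ψ.1 S.w * ψ.1 S.w * conj (ψ.1 u) / ψ.1 1 =
      if u = 1 then (S.h : ℂ) + 1 else 0 := by
  have hw : orderOf S.w = 2 := ((S.swapper_iff hodd).2 ⟨S.w_a, S.w_b⟩).1
  have hclass : (Finset.univ.filter fun g : G => ConjClasses.mk g = ConjClasses.mk S.w) = S.inv2 := by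
    ext g
    simp only [Finset.mem_filter, Finset.mem_univ, true_and, mem_inv2, ConjClasses.mk_eq_mk_iff_isConj]
    refine ⟨fun h => ?_, fun h => S.involutions_conj hodd h hw⟩
    obtain ⟨k, hk⟩ := isConj_iff.1 h.symm
    rw [← hk, ← MulAut.conj_apply, MulEquiv.orderOf_eq, hw]
  have hI : S.inv2.card = S.e * S.h := by
    rw [S.card_inv2 hodd, if_neg (Nat.not_even_iff_odd.2 heven)]
  split_ifs with hu
  · subst hu
    have hreal : ∀ ψ : Cfsg.IrrCharacter G, conj (ψ.1 S.w) = ψ.1 S.w := fun ψ => by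
      rw [← H26.irr_inv, inv_eq_of_mul_eq_one_right (by rw [← pow_two, ← hw, pow_orderOf_eq_one])]
    have h := H26.column_orthogonality S.w S.w
    rw [H26.classIndicator, if_pos (IsConj.refl _), mul_one] at h
    have hc := H26.card_class_mul_card_centralizer S.w
    rw [hclass, hI, S.card_G] at hc
    have hC : Nat.card (Subgroup.centralizer ({S.w} : Set G)) = S.h + 1 := by
      have : 0 < S.e * S.h := Nat.mul_pos (by have := S.two_le_e; omega) (by have := S.two_le_h; omega)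
      refine Nat.eq_of_mul_eq_mul_left this ?_
      rw [hc]; ring
    rw [show (S.h : ℂ) + 1 = ((S.h + 1 : ℕ) : ℂ) by push_cast; rfl, ← hC, ← h]
    refine Finset.sum_congr rfl fun ψ _ => ?_
    have hne := H26.irr_one_ne_zero ψ
    rw [Subgroup.coe_one, degOf_spec] at *
    rw [map_natCast, hreal]
    field_simp
  · have h := H38.class_coeff S.w S.w (u : G)
    have hempty : IsEmpty {p : G × G // IsConj S.w p.1 ∧ IsConj S.w p.2 ∧ p.1 * p.2 = (u : G)} := by
      refine ⟨fun ⟨⟨x, y⟩, hx, hy, hxy⟩ => ?_⟩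
      simp only at hx hy hxy
      have hinv : ∀ g, IsConj S.w g → orderOf g = 2 := fun g hg => by
        have : g ∈ Finset.univ.filter fun g : G => ConjClasses.mk g = ConjClasses.mk S.w := by
          simpa [ConjClasses.mk_eq_mk_iff_isConj] using hg.symm
        rw [hclass] at this
        exact S.mem_inv2.1 this
      have hx2 : x * x = 1 := by rw [← pow_two, ← hinv x hx, pow_orderOf_eq_one]
      have hy2 : y * y = 1 := by rw [← pow_two, ← hinv y hy, pow_orderOf_eq_one]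
      have hxinv : x⁻¹ = x := inv_eq_of_mul_eq_one_right hx2
      have hyinv : y⁻¹ = y := inv_eq_of_mul_eq_one_right hy2
      have hxN : x ∈ S.N := S.mem_N_of_conj_mem_H u.2 (fun h0 => hu (Subtype.ext h0)) (by
        have : x * (u : G) * x⁻¹ = (u : G)⁻¹ := by
          rw [← hxy, hxinv, mul_inv_rev, hxinv, hyinv]
          calc x * (x * y) * x = (x * x) * y * x := by group
            _ = y * x := by rw [hx2, one_mul]
        rw [this]; exact inv_mem u.2)
      have h0 := S.card_fixedBy_involution hodd (hinv x hx)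
      rw [if_neg (Nat.not_even_iff_odd.2 heven), Nat.card_eq_fintype_card, Fintype.card_eq_zero_iff] at h0
      exact h0.false ⟨S.a, S.mem_N.1 hxN⟩
    rw [Nat.card_of_isEmpty, Nat.cast_zero, eq_comm, mul_eq_zero] at h
    refine h.resolve_left (div_ne_zero (mul_ne_zero ?_ ?_) (Nat.cast_ne_zero.2 Nat.card_pos.ne')) <;>
    · haveI : Nonempty {x : G // IsConj S.w x} := ⟨⟨S.w, IsConj.refl _⟩⟩
      exact Nat.cast_ne_zero.2 Nat.card_pos.ne'

set_option maxHeartbeats 1000000 in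
/-- No non-abelian kernel of odd prime power order with more than `2 e + 1` elements. -/
theorem not_odd_pgroup {p : ℕ} [hpf : Fact p.Prime] (hp2 : p ≠ 2) (hp : IsPGroup p S.H)
    (hnab : ∃ u v : S.H, u * v ≠ v * u) : False := by
  haveI := S.H_nilpotent
  have hhodd : Odd S.h := S.odd_h_of_isPGroup hp2 hp
  have he := S.e_eq hodd
  have hk := S.kk_pos hodd
  -- sizes of `H'` and its index
  have hne : commutator S.H ≠ ⊥ := by
    obtain ⟨u, v, huv⟩ := hnab
    intro h
    refine huv (commutatorElement_eq_one_iff_mul_comm.1 ?_)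
    rw [← Subgroup.mem_bot, ← h]
    exact Subgroup.commutator_mem_commutator (Subgroup.mem_top u) (Subgroup.mem_top v)
  haveI : Nontrivial S.H := by
    obtain ⟨u, v, huv⟩ := hnab
    exact ⟨⟨u * v, v * u, huv⟩⟩
  have htop : commutator S.H ≠ ⊤ := (Group.IsSolvable.commutator_lt_top_of_nontrivial S.H).ne
  set a := (commutator S.H).index with ha
  set c := Nat.card (commutator S.H) with hc
  have hac : a * c = S.h := (commutator S.H).index_mul_card
  obtain ⟨na, hna⟩ : ∃ n, a = p ^ n := by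
    obtain ⟨n, hn⟩ := IsPGroup.iff_card.1 hp
    obtain ⟨i, -, hi⟩ := (Nat.dvd_prime_pow hpf.out).1 (hn ▸ (commutator S.H).index_dvd_card)
    exact ⟨i, hi⟩
  have ha1 : 1 < a := Nat.one_lt_iff_ne_zero_and_ne_one.2
    ⟨Subgroup.index_ne_zero_of_finite, fun h => htop (Subgroup.index_eq_one.1 h)⟩
  have hc1 : 1 < c := (Subgroup.one_lt_card_iff_ne_bot _).2 hne
  have hpa : p ∣ a := by
    rw [hna] at ha1 ⊢
    exact dvd_pow_self p (fun h0 => by rw [h0, pow_zero] at ha1; omega)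
  have haodd : Odd a := by rw [hna]; exact (hpf.out.odd_of_ne_two hp2).pow
  have hcodd : Odd c := Odd.of_dvd_nat (hac ▸ hhodd) (dvd_mul_left c a)
  let L := (Finset.univ.filter fun x : Cfsg.IrrCharacter S.H => degOf x = 1).erase (H26.oneIrr S.H)
  have hLcard : L.card + 1 = a := by
    rw [Finset.card_erase_of_mem (by simp [degOf_oneIrr]), card_linear]
    omega
  have hLmem : ∀ x, x ∈ L ↔ x ≠ H26.oneIrr S.H ∧ degOf x = 1 := fun x => by simp [L]
  have hea : S.e ∣ L.card := by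
    have h := S.e_dvd_sum L (fun x hx => ((hLmem x).1 hx).1)
      (fun x hx d => (hLmem _).2 ⟨S.cj_ne_one ((hLmem x).1 hx).1, by rw [S.degOf_cj]; exact ((hLmem x).1 hx).2⟩)
      (fun _ => 1) (fun _ _ _ => rfl)
    simpa using h
  have ham : a ≡ 1 [MOD S.e] := by
    rw [← hLcard]
    exact (Nat.modEq_iff_dvd' (by omega)).2 (by simpa using hea) |>.symm
  have hcm : c ≡ 1 [MOD S.e] := by
    have h1 : 1 * c ≡ a * c [MOD S.e] := (ham.mul_right c).symm
    rw [one_mul, hac] at h1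
    exact h1.trans S.e_dvd_h_sub_one
  have hbound : ∀ x, 1 < x → Odd x → x ≡ 1 [MOD S.e] → 2 * S.e + 1 ≤ x := fun x hx hox hxm => by
    obtain ⟨j, hj⟩ := (Nat.modEq_iff_dvd' (show 1 ≤ x by omega)).1 hxm.symm
    obtain ⟨i, hi⟩ := hox
    obtain ⟨l, hl⟩ := hodd
    rcases Nat.lt_or_ge j 2 with hj2 | hj2
    · interval_cases j <;> omega
    · have := Nat.mul_le_mul_left S.e hj2
      omega
  have hh : 4 * S.e ^ 2 + 4 * S.e ≤ S.h - 1 := by
    have := Nat.mul_le_mul (hbound a ha1 haodd ham) (hbound c hc1 hcodd hcm)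
    rw [hac] at this
    have h2 : (2 * S.e + 1) * (2 * S.e + 1) = 4 * S.e ^ 2 + 4 * S.e + 1 := by ring
    omega
  -- the common characters
  obtain ⟨φ₀, hφ₀L⟩ : L.Nonempty := Finset.card_pos.1 (by omega)
  obtain ⟨hφ₀, hz₀⟩ := (hLmem φ₀).1 hφ₀L
  have hnr : H26.conjIrr φ₀ ≠ φ₀ := fun hr => hφ₀ (Subtype.ext (funext fun u => by
    obtain ⟨j, hj⟩ := exists_pow_eq_self_of_coprime (x := u) (n := 2)
      ((Nat.coprime_two_left.2 hhodd).coprime_dvd_right (orderOf_dvd_natCard u))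
    obtain ⟨f, hf⟩ := H26.exists_hom_of_isCharacter_one (H26.irr_isCharacter φ₀)
      (by rw [degOf_spec, hz₀, Nat.cast_one])
    have h2 : (f u : ℂ) * f u = 1 := by
      have hr' : conj (φ₀.1 u) = φ₀.1 u := by rw [← H26.conjIrr_val, hr]
      rw [hf]
      nth_rw 2 [← hr']
      rw [← H26.irr_inv, ← hf u, ← hf u⁻¹, ← Units.val_mul, ← map_mul, mul_inv_cancel, map_one,
        Units.val_one]
    rw [← hf, ← hj, map_pow, Units.val_pow_eq_pow_val, map_pow, Units.val_pow_eq_pow_val, pow_two, h2,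
      one_pow, H26.oneIrr_val]))
  obtain ⟨C₀, χ₀, hcore, hχ₀, hχnr, hm₀⟩ := S.exists_core_of_nonreal hodd hz₀ hnr
  have hχC : χ₀ ∉ C₀ := fun h => hχnr (hcore.real χ₀ h)
  -- values at an involution
  have hfree : ∀ x : Ω, S.w • x ≠ x := fun x hx => by
    have h0 := S.card_fixedBy_involution hodd ((S.swapper_iff hodd).2 ⟨S.w_a, S.w_b⟩).1
    rw [if_neg (Nat.not_even_iff_odd.2 hhodd), Nat.card_eq_fintype_card, Fintype.card_eq_zero_iff] at h0
    exact h0.false ⟨x, hx⟩
  have hX : ∀ l, (S.X hodd l).1 S.w = -(if l = H26.oneIrr S.D then 1 else 0) := fun l => by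
    have h := S.xi_free hodd l hfree
    rw [S.xi_eq hodd l, Pi.add_apply, Pi.smul_apply, H26.oneIrr_val, smul_eq_mul, mul_one] at h
    exact eq_neg_of_add_eq_zero_left h
  have hFt : ∑ ψ : Cfsg.IrrCharacter G, (S.mult ψ φ₀ : ℂ) * ψ.1 S.w = 0 := by
    have h := congrFun (H26.class_function_expansion _ (H25.isClassFunction_indFun S.H φ₀.1)) S.w
    rw [H25.indFun_eq_zero _ _ (fun x hx => hfree (x • S.a) (by
      have h' : (x⁻¹ * S.w * x) • S.a = S.a := S.hHa hx
      rw [mul_smul, mul_smul, inv_smul_eq_iff] at h'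
      exact h')), Finset.sum_apply] at h
    rw [h]
    exact Finset.sum_congr rfl fun ψ _ => by rw [Pi.smul_apply, smul_eq_mul, S.classInner_indFun_mult]
  have hsum1 : ∑ ψ ∈ S.rest hodd, (S.mult ψ φ₀ : ℂ) * ψ.1 S.w = 1 := by
    rw [S.sum_split hodd, S.two_mul_sum_others_const hodd _ 0 (-1) 0
      (by rw [S.mult_oneIrr hodd hφ₀, Nat.cast_zero, zero_mul])
      (by rw [S.mult_X hodd _ hφ₀, hz₀, hX, if_pos rfl]; simp)
      (fun l hl => by rw [hX, if_neg hl, neg_zero, mul_zero])] at hFt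
    linear_combination hFt
  have hsq1 : ∑ ψ ∈ S.rest hodd, (S.mult ψ φ₀ : ℂ) * (ψ.1 S.w * ψ.1 S.w / ψ.1 1) = 1 := by
    have hn : ∀ ψ : Cfsg.IrrCharacter G,
        (S.mult ψ φ₀ : ℂ) = (S.h : ℂ)⁻¹ * ∑ u : S.H, φ₀.1 u * conj (ψ.1 u) := fun ψ => by
      have h := congrArg conj (S.mult_spec ψ φ₀)
      rw [map_natCast, ← H26.classInner_comm] at h
      rw [← h, Cfsg.classInner]
      rfl
    have htot : ∑ ψ : Cfsg.IrrCharacter G, (S.mult ψ φ₀ : ℂ) * (ψ.1 S.w * ψ.1 S.w / ψ.1 1) =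
        (S.h : ℂ)⁻¹ * ((S.h : ℂ) + 1) := by
      calc _ = (S.h : ℂ)⁻¹ * ∑ u : S.H, φ₀.1 u *
            ∑ ψ : Cfsg.IrrCharacter G, ψ.1 S.w * ψ.1 S.w * conj (ψ.1 u) / ψ.1 1 := by
            simp only [hn, Finset.mul_sum, Finset.sum_mul]
            rw [Finset.sum_comm]
            exact Finset.sum_congr rfl fun u _ => Finset.sum_congr rfl fun ψ _ => by ring
        _ = _ := by
            simp only [S.sum_sq_at_involution hodd hhodd]
            simp only [mul_ite, mul_zero, Finset.sum_ite_eq', Finset.mem_univ, if_true, degOf_spec,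
              hz₀, Nat.cast_one, one_mul]
    rw [S.sum_split hodd, S.two_mul_sum_others_const hodd _ 0 (S.h : ℂ)⁻¹ 0
      (by rw [S.mult_oneIrr hodd hφ₀, Nat.cast_zero, zero_mul])
      (by rw [S.mult_X hodd _ hφ₀, hz₀, hX, if_pos rfl, S.X_one_val hodd, Pi.sub_apply, S.xi_one hodd,
        H26.oneIrr_val]; simp)
      (fun l hl => by rw [hX, if_neg hl]; simp)] at htot
    have := S.h_ne_zero
    generalize ∑ ψ ∈ S.rest hodd, (S.mult ψ φ₀ : ℂ) * (ψ.1 S.w * ψ.1 S.w / ψ.1 1) = T at htot ⊢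
    field_simp at htot
    have h' : (S.h : ℂ) * (T - 1) = 0 := by linear_combination htot
    exact sub_eq_zero.1 ((mul_eq_zero.1 h').resolve_left this)
  -- integral data
  have hdata : ∀ ψ : Cfsg.IrrCharacter G, ∃ (v : ℤ) (M : ℕ), ψ ∈ S.rest hodd →
      degOf ψ = S.e * M ∧ ψ.1 S.w = (v : ℂ) ∧ v.natAbs ≤ M ∧ 0 < M := fun ψ => by
    by_cases hψ : ψ ∈ S.rest hodd
    · obtain ⟨i, j, h1, h2⟩ := S.rest_at_involution hodd hψ
      refine ⟨(i : ℤ) - j, i + j, fun _ => ⟨h1, by rw [h2]; push_cast; rfl, by omega, ?_⟩⟩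
      have := degOf_pos ψ
      rw [h1] at this
      exact Nat.pos_of_mul_pos_left this
    · exact ⟨0, 0, fun h => absurd h hψ⟩
  choose v M hvM using hdata
  -- degrees prime to `p`
  have hcop : ∀ ψ, ψ ∈ insert χ₀ C₀ → (degOf ψ).Coprime S.h := by
    intro ψ hψ
    obtain ⟨n, hn⟩ := IsPGroup.iff_card.1 hp
    rw [ZSetup.h, hn]
    refine Nat.Coprime.pow_right n ((hpf.out.coprime_iff_not_dvd).2 ?_).symm
    have hψR : ψ ∈ S.rest hodd := by
      rcases Finset.mem_insert.1 hψ with rfl | h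
      · exact hχ₀
      · exact hcore.sub h
    have hsplit : degOf ψ = ∑ x ∈ L, S.mult ψ x +
        ∑ x ∈ Finset.univ.filter (fun x : Cfsg.IrrCharacter S.H => degOf x ≠ 1), S.mult ψ x * degOf x := by
      rw [S.degOf_eq_sum, ← Finset.sum_filter_add_sum_filter_not Finset.univ
        (fun x : Cfsg.IrrCharacter S.H => degOf x = 1)]
      congr 1
      rw [← Finset.add_sum_erase _ _ (show H26.oneIrr S.H ∈
        Finset.univ.filter (fun x : Cfsg.IrrCharacter S.H => degOf x = 1) by simp [degOf_oneIrr]),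
        S.mult_one_rest hodd hψR, zero_mul, zero_add]
      exact Finset.sum_congr rfl fun x hx => by rw [((hLmem x).1 hx).2, mul_one]
    have hnl : p ∣ ∑ x ∈ Finset.univ.filter (fun x : Cfsg.IrrCharacter S.H => degOf x ≠ 1),
        S.mult ψ x * degOf x := Finset.dvd_sum fun x hx => by
      obtain ⟨i, hi, -⟩ := degOf_sq_dvd_card hp x
      refine dvd_mul_of_dvd_right ?_ _
      rw [hi]
      refine dvd_pow_self p (fun h0 => (Finset.mem_filter.1 hx).2 ?_)
      rw [hi, h0, pow_zero]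
    intro hdvd
    rw [hsplit, Nat.dvd_add_left hnl] at hdvd
    rcases Finset.mem_insert.1 hψ with rfl | hψC
    · -- the count is `e`
      have hcount : ∑ x ∈ L, S.mult ψ x = S.e := by
        have horb : L.filter (fun x => S.SameOrbit x φ₀) = Finset.univ.image fun d => S.cj d φ₀ := by
          ext x
          simp only [Finset.mem_filter, Finset.mem_image, Finset.mem_univ, true_and]
          refine ⟨fun h => h.2, ?_⟩
          rintro ⟨d, rfl⟩
          exact ⟨(hLmem _).2 ⟨S.cj_ne_one hφ₀, by rw [S.degOf_cj]; exact hz₀⟩, ⟨d, rfl⟩⟩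
        rw [Finset.sum_congr rfl (g := fun x => if S.SameOrbit x φ₀ then 1 else 0) (fun x hx => ?_),
          Finset.sum_boole, horb, Finset.card_image_of_injective _ (S.cj_injective hφ₀),
          Finset.card_univ, ← Nat.card_eq_fintype_card, Nat.cast_id]
        · rfl
        · obtain ⟨χ', hχ', hχ'C, hm'⟩ := hcore.pure x ((hLmem x).1 hx).1 ((hLmem x).1 hx).2
          have hm₀' : ∀ q ∈ S.rest hodd, S.mult q φ₀ =
              (if q ∈ C₀ then degOf φ₀ else 0) + (if q = ψ then 1 else 0) := fun q hq => by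
            rw [hm₀ q hq, hz₀]
          have hg := S.pure_gram hodd hcore ((hLmem x).1 hx).1 hφ₀ hχ' hχ'C hχC hm' hm₀'
          rw [hm' ψ hχ₀, if_neg hχC, zero_add]
          exact if_congr ⟨fun h => hg.1 h.symm, fun h => (hg.2 h).symm⟩ rfl rfl
      rw [hcount] at hdvd
      have h1 : p ∣ S.h := by rw [← hac]; exact dvd_mul_of_dvd_left hpa c
      have := Nat.eq_one_of_dvd_coprimes (show Nat.Coprime S.e S.h by
        rw [Nat.coprime_comm, Nat.Coprime, S.e_dvd_h_sub_one.gcd_eq]; simp) hdvd h1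
      exact hpf.out.ne_one this
    · rw [Finset.sum_congr rfl (g := fun _ => 1) (fun x hx => ?_), Finset.sum_const, smul_eq_mul,
        mul_one] at hdvd
      · exact hpf.out.ne_one (Nat.dvd_one.1 ((Nat.dvd_add_right hdvd).1 (hLcard ▸ hpa)))
      · obtain ⟨χ', -, hχ'C, hm'⟩ := hcore.pure x ((hLmem x).1 hx).1 ((hLmem x).1 hx).2
        rw [hm' ψ hψR, if_pos hψC, if_neg (fun h : ψ = χ' => hχ'C (h ▸ hψC)), add_zero,
          ((hLmem x).1 hx).2]
  have hMv : ∀ ψ, ψ ∈ insert χ₀ C₀ → M ψ ∣ (v ψ).natAbs := by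
    intro ψ hψ
    have hψR : ψ ∈ S.rest hodd := by
      rcases Finset.mem_insert.1 hψ with rfl | h
      · exact hχ₀
      · exact hcore.sub h
    obtain ⟨hd, hv, -, hM⟩ := hvM ψ hψR
    have hint : IsIntegral ℤ (((S.e * S.h * (v ψ).natAbs : ℕ) : ℂ) / (degOf ψ : ℂ)) := by
      obtain ⟨n, ρ, hρ, e'⟩ := ψ.2
      haveI := hρ
      have h := H25.isIntegral_classSize_mul_char_div ρ S.w
      have hidx : (Subgroup.centralizer ({S.w} : Set G)).index = S.e * S.h := by
        have hw : orderOf S.w = 2 := ((S.swapper_iff hodd).2 ⟨S.w_a, S.w_b⟩).1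
        rw [H25.index_centralizer_eq_card_class, Nat.card_eq_fintype_card, Fintype.card_subtype,
          ← if_neg (α := ℕ) (Nat.not_even_iff_odd.2 hhodd) (t := S.e * (S.h + 1)) (e := S.e * S.h),
          ← S.card_inv2 hodd]
        congr 1
        ext g
        simp only [Finset.mem_filter, Finset.mem_univ, true_and, mem_inv2]
        refine ⟨fun hg => ?_, fun hg => S.involutions_conj hodd hw hg⟩
        obtain ⟨k, hk⟩ := isConj_iff.1 hg
        rw [← hk, ← MulAut.conj_apply, MulEquiv.orderOf_eq, hw]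
      have hdeg : (Module.finrank ℂ (Fin n → ℂ) : ℂ) = (degOf ψ : ℂ) := by
        rw [← degOf_spec ψ, ← e', Representation.char_one]
      rw [hidx, hdeg, e', hv] at h
      have hs := Int.natAbs_eq (v ψ)
      generalize (v ψ).natAbs = q at hs ⊢
      rcases hs with hs | hs <;> rw [hs] at h
      · convert h using 1
        push_cast; ring
      · convert h.neg using 1
        push_cast; ring
    have hdvd := H25.dvd_of_isIntegral_div (degOf_pos ψ).ne' hint
    rw [show S.e * S.h * (v ψ).natAbs = S.e * (v ψ).natAbs * S.h by ring] at hdvd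
    have h2 := (hcop ψ hψ).dvd_of_dvd_mul_right hdvd
    rw [hd] at h2
    exact Nat.dvd_of_mul_dvd_mul_left (by omega) h2
  -- the two equations in real numbers
  have hval : ∀ ψ ∈ S.rest hodd, (S.mult ψ φ₀ : ℂ) = if ψ ∈ insert χ₀ C₀ then 1 else 0 := fun ψ hψ => by
    rw [hm₀ ψ hψ]
    by_cases h1 : ψ = χ₀
    · subst h1; simp [hχC]
    · by_cases h2 : ψ ∈ C₀ <;> simp [h1, h2]
  have hins : insert χ₀ C₀ ⊆ S.rest hodd := Finset.insert_subset hχ₀ hcore.sub
  rw [Finset.sum_congr rfl (g := fun ψ => if ψ ∈ insert χ₀ C₀ then ψ.1 S.w else 0)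
    (fun ψ hψ => by rw [hval ψ hψ]; split_ifs <;> simp), Finset.sum_ite_mem,
    Finset.inter_eq_right.2 hins,
    Finset.sum_congr rfl (g := fun ψ => ((v ψ : ℤ) : ℂ)) (fun ψ hψ => (hvM ψ (hins hψ)).2.1)] at hsum1
  rw [Finset.sum_congr rfl (g := fun ψ => if ψ ∈ insert χ₀ C₀ then ψ.1 S.w * ψ.1 S.w / ψ.1 1 else 0)
    (fun ψ hψ => by rw [hval ψ hψ]; split_ifs <;> simp), Finset.sum_ite_mem,
    Finset.inter_eq_right.2 hins,
    Finset.sum_congr rfl (g := fun ψ => (((v ψ : ℝ) ^ 2 / (degOf ψ : ℝ) : ℝ) : ℂ)) (fun ψ hψ => by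
      rw [(hvM ψ (hins hψ)).2.1, degOf_spec]; push_cast; ring), ← Complex.ofReal_sum,
    Complex.ofReal_eq_one] at hsq1
  have hvsum : ∑ ψ ∈ insert χ₀ C₀, v ψ = 1 := by
    rw [← Int.cast_sum] at hsum1
    exact_mod_cast hsum1
  -- a common character not vanishing at the involution
  obtain ⟨ψ₀, hψ₀, hv₀⟩ : ∃ ψ ∈ C₀, v ψ ≠ 0 := by
    by_contra h0
    push Not at h0
    rw [Finset.sum_insert hχC, Finset.sum_eq_zero h0, add_zero] at hvsum
    rw [Finset.sum_insert hχC, Finset.sum_eq_zero (fun ψ hψ => by rw [h0 ψ hψ]; simp), add_zero,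
      hvsum] at hsq1
    obtain ⟨hd, -, -, hM⟩ := hvM χ₀ hχ₀
    have h1 : (degOf χ₀ : ℝ) = 1 := by
      have hpos : (0 : ℝ) < degOf χ₀ := by exact_mod_cast degOf_pos χ₀
      field_simp at hsq1
      push_cast at hsq1
      linarith
    have h2 : degOf χ₀ = 1 := by exact_mod_cast h1
    rw [hd] at h2
    have := Nat.eq_one_of_mul_eq_one_right h2
    have := S.two_le_e
    omega
  have hdeg₀ : degOf ψ₀ ≤ S.e ^ 2 := by
    obtain ⟨hd, -, hle, hM⟩ := hvM ψ₀ (hcore.sub hψ₀)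
    have heq : (v ψ₀).natAbs = M ψ₀ := le_antisymm hle
      (Nat.le_of_dvd (Int.natAbs_pos.2 hv₀) (hMv ψ₀ (Finset.mem_insert_of_mem hψ₀)))
    have h1 : (v ψ₀ : ℝ) ^ 2 / (degOf ψ₀ : ℝ) ≤ 1 := by
      rw [← hsq1]
      exact Finset.single_le_sum (f := fun ψ => (v ψ : ℝ) ^ 2 / (degOf ψ : ℝ))
        (fun ψ _ => by positivity) (Finset.mem_insert_of_mem hψ₀)
    rw [div_le_one (by exact_mod_cast degOf_pos ψ₀)] at h1
    have h2 : (v ψ₀) ^ 2 ≤ (degOf ψ₀ : ℤ) := by exact_mod_cast h1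
    rw [← Int.natAbs_sq, heq, hd] at h2
    push_cast at h2
    have h3 : (M ψ₀ : ℤ) ≤ S.e := by
      have : (0 : ℤ) < M ψ₀ := by exact_mod_cast hM
      nlinarith
    rw [hd, sq]
    exact Nat.mul_le_mul_left _ (by exact_mod_cast h3)
  -- the final inequality
  have hD := S.rest_deg hodd hφ₀
  rw [hz₀, one_mul, Finset.sum_congr rfl (g := fun ψ => if ψ ∈ insert χ₀ C₀ then degOf ψ else 0)
    (fun ψ hψ => by
      have h := hval ψ hψ
      split_ifs at h ⊢ <;> norm_cast at h <;> simp [h]), Finset.sum_ite_mem,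
    Finset.inter_eq_right.2 hins, Finset.sum_insert hχC, ← Finset.add_sum_erase _ _ hψ₀] at hD
  have hQ : 2 * (degOf χ₀ : ℤ) ^ 2 + ∑ ψ ∈ C₀.erase ψ₀, (degOf ψ : ℤ) ^ 2 ≤
      ((S.h : ℤ) - 1) * (((S.h : ℤ) + 1) * S.kk hodd + 1) := by
    have h := S.rest_sq hodd
    have h' : (∑ ψ ∈ S.rest hodd, (degOf ψ : ℤ) ^ 2) =
        ((S.h : ℤ) - 1) * (((S.h : ℤ) + 1) * S.kk hodd + 1) := by
      apply Int.cast_injective (α := ℂ)
      push_cast
      exact h
    rw [← h']
    have hne' : H26.conjIrr χ₀ ∉ insert χ₀ (C₀.erase ψ₀) := by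
      rw [Finset.mem_insert]
      rintro (h | h)
      · exact hχnr h
      · have := hcore.real _ (Finset.mem_of_mem_erase h)
        rw [H26.conjIrr_conjIrr] at this
        exact hχnr this.symm
    refine le_trans (le_of_eq ?_) (Finset.sum_le_sum_of_subset_of_nonneg
      (Finset.insert_subset (S.rest_conj hodd hχ₀) (Finset.insert_subset hχ₀
        ((Finset.erase_subset ψ₀ C₀).trans hcore.sub))) fun ψ _ _ => sq_nonneg _)
    rw [Finset.sum_insert hne', Finset.sum_insert (fun h => hχC (Finset.mem_of_mem_erase h)),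
      degOf_conjIrr]
    ring
  have hs : (∑ ψ ∈ C₀.erase ψ₀, (degOf ψ : ℤ)) ^ 2 ≤
      ((S.kk hodd : ℤ) - 1) * ∑ ψ ∈ C₀.erase ψ₀, (degOf ψ : ℤ) ^ 2 := by
    have h := sq_sum_le_card_mul_sum_sq (s := C₀.erase ψ₀) (f := fun ψ => (degOf ψ : ℤ))
    rw [Finset.card_erase_of_mem hψ₀, hcore.card, Nat.cast_sub hk] at h
    push_cast at h
    exact h
  have hDz : (degOf χ₀ : ℤ) + ((degOf ψ₀ : ℤ) + ∑ ψ ∈ C₀.erase ψ₀, (degOf ψ : ℤ)) =
      ((S.h : ℤ) + 1) * S.kk hodd + 1 := by exact_mod_cast hD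
  refine feit_arith (m := (S.h : ℤ) - 1) (k := (S.kk hodd : ℤ)) (d := (degOf χ₀ : ℤ))
    (s := ∑ ψ ∈ C₀.erase ψ₀, (degOf ψ : ℤ)) (Q := ∑ ψ ∈ C₀.erase ψ₀, (degOf ψ : ℤ) ^ 2)
    (x := (degOf ψ₀ : ℤ)) (E := (S.e : ℤ)) (by exact_mod_cast hk) (by exact_mod_cast he)
    (Finset.sum_nonneg fun ψ _ => sq_nonneg _) (by exact_mod_cast hdeg₀) ?_ hs ?_ ?_
  · have h1 : 1 ≤ S.h := by have := S.two_le_h; omega
    have h2 : ((4 * S.e ^ 2 + 4 * S.e : ℕ) : ℤ) ≤ ((S.h - 1 : ℕ) : ℤ) := by exact_mod_cast hh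
    rw [Nat.cast_sub h1] at h2
    push_cast at h2
    linarith
  · linarith
  · convert hQ using 2; ring

end ZSetup

end Cfsg.Agent.H39
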