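import Cfsg.Agent.H39.FeitExt

/-!
# All characters of the kernel are pure
-/

set_option autoImplicit false

namespace Cfsg.Agent.H39

open MulAction
open scoped ComplexConjugate Classical

/-- The product of two linear characters. -/
lemma exists_linear_mul {K : Type*} [Group K] [Fintype K] {φ ψ : Cfsg.IrrCharacter K}
    (hφ : degOf φ = 1) (hψ : degOf ψ = 1) :
    ∃ χ : Cfsg.IrrCharacter K, degOf χ = 1 ∧ ∀ x, χ.1 x = φ.1 x * ψ.1 x := by
  obtain ⟨f, hf⟩ := H26.exists_hom_of_isCharacter_one (H26.irr_isCharacter φ)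
    (by rw [degOf_spec, hφ, Nat.cast_one])
  obtain ⟨g, hg⟩ := H26.exists_hom_of_isCharacter_one (H26.irr_isCharacter ψ)
    (by rw [degOf_spec, hψ, Nat.cast_one])
  let χ : Cfsg.IrrCharacter K := ⟨fun x => ((f * g) x : ℂ), H26.isIrrCharacter_hom (f * g)⟩
  refine ⟨χ, ?_, fun x => ?_⟩
  · have h := degOf_spec χ
    simp only [χ, map_one, Units.val_one] at h
    exact_mod_cast h.symm
  · simp only [χ, MonoidHom.mul_apply, Units.val_mul, hf, hg]

lemma linear_apply_mul {K : Type*} [Group K] [Fintype K] {φ : Cfsg.IrrCharacter K}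
    (hφ : degOf φ = 1) (x y : K) : φ.1 (x * y) = φ.1 x * φ.1 y := by
  obtain ⟨f, hf⟩ := H26.exists_hom_of_isCharacter_one (H26.irr_isCharacter φ)
    (by rw [degOf_spec, hφ, Nat.cast_one])
  rw [← hf, ← hf, ← hf, map_mul, Units.val_mul]

lemma linear_apply_ne_zero {K : Type*} [Group K] [Fintype K] {φ : Cfsg.IrrCharacter K}
    (hφ : degOf φ = 1) (x : K) : φ.1 x ≠ 0 := by
  obtain ⟨f, hf⟩ := H26.exists_hom_of_isCharacter_one (H26.irr_isCharacter φ)
    (by rw [degOf_spec, hφ, Nat.cast_one])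
  rw [← hf]
  exact Units.ne_zero _

lemma eq_one_of_trivOn_top {K : Type*} [Group K] [Fintype K] {φ : Cfsg.IrrCharacter K}
    (h : TrivOn ⊤ φ) : φ = H26.oneIrr K := by
  have hsum := sum_sq_trivOn (⊤ : Subgroup K)
  rw [Subgroup.index_top] at hsum
  by_contra hne
  have h1 : ({φ, H26.oneIrr K} : Finset (Cfsg.IrrCharacter K)) ⊆ Finset.univ.filter (TrivOn ⊤) := by
    intro x hx
    rw [Finset.mem_insert, Finset.mem_singleton] at hx
    rcases hx with rfl | rfl
    · exact Finset.mem_filter.2 ⟨Finset.mem_univ _, h⟩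
    · exact Finset.mem_filter.2 ⟨Finset.mem_univ _, trivOn_oneIrr _⟩
  have h2 := Finset.sum_le_sum_of_subset (f := fun χ => degOf χ ^ 2) h1
  rw [Finset.sum_pair hne, hsum, degOf_oneIrr] at h2
  have := Nat.one_le_pow 2 _ (degOf_pos φ)
  omega

/-- A character trivial on one factor of a decomposition is irreducible on the other. -/
lemma IsSplit.exists_res {K : Type*} [Group K] [Fintype K] {A B : Subgroup K} (h : IsSplit A B)
    {φ : Cfsg.IrrCharacter K} (hφ : TrivOn A φ) :
    ∃ θ : Cfsg.IrrCharacter B, degOf θ = degOf φ := by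
  haveI := h.nA
  have hcompl : Subgroup.IsComplement' A B := Subgroup.isComplement'_of_disjoint_and_mul_eq_univ
    (Subgroup.disjoint_of_coprime_natCard h.cop) (by rw [← Subgroup.normal_mul, h.sup, Subgroup.coe_top])
  have hnorm := H26.classInner_irr φ φ
  rw [if_pos rfl, Cfsg.classInner, ← Fintype.sum_equiv (Equiv.ofBijective _ hcompl)
    (fun p => φ.1 ((p.1 : K) * p.2) * conj (φ.1 ((p.1 : K) * p.2))) _ (fun p => rfl),
    Fintype.sum_prod_type, Finset.sum_congr rfl (g := fun _ => ∑ b : B, φ.1 b * conj (φ.1 b))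
      (fun a _ => Finset.sum_congr rfl fun b _ => by rw [hφ.mul_apply a.2]),
    Finset.sum_const, Finset.card_univ, nsmul_eq_mul, ← Nat.card_eq_fintype_card,
    ← h.card_mul, Nat.cast_mul, mul_inv] at hnorm
  have hA : (Nat.card A : ℂ) ≠ 0 := Nat.cast_ne_zero.2 Nat.card_pos.ne'
  have hirr : Cfsg.IsIrrCharacter B (fun b : B => φ.1 b) := by
    refine H26.isIrrCharacter_of_norm_one (H26.isCharacter_comp (H26.irr_isCharacter φ) B.subtype) ?_
    rw [← hnorm, Cfsg.classInner]
    change _ = (_ : ℂ) * ((Nat.card A : ℂ) * _)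
    field_simp
  refine ⟨⟨_, hirr⟩, ?_⟩
  have h1 := degOf_spec (⟨_, hirr⟩ : Cfsg.IrrCharacter B)
  simp only [Subgroup.coe_one, degOf_spec] at h1
  exact_mod_cast h1.symm

/-- The number of characters of small degree in a congruence argument. -/
lemma le_sum_small {α : Type*} (U : Finset α) (f : α → ℕ) {z n : ℕ} (hsum : ∑ x ∈ U, f x ^ 2 = n)
    (hn : z ^ 2 ∣ n) (hbig : ∀ x ∈ U, z ≤ f x → z ^ 2 ∣ f x ^ 2)
    (hsmall : ∃ x ∈ U, f x < z ∧ 0 < f x) : z ^ 2 ≤ ∑ x ∈ U.filter (fun x => f x < z), f x ^ 2 := by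
  refine Nat.le_of_dvd ?_ ?_
  · obtain ⟨x, hx, hxz, hx0⟩ := hsmall
    exact lt_of_lt_of_le (by positivity)
      (Finset.single_le_sum (f := fun x => f x ^ 2) (fun _ _ => Nat.zero_le _)
        (Finset.mem_filter.2 ⟨hx, hxz⟩))
  · rw [← Finset.sum_filter_add_sum_filter_not U (fun x => f x < z)] at hsum
    rw [← hsum] at hn
    exact (Nat.dvd_add_left (Finset.dvd_sum fun x hx => hbig x (Finset.mem_filter.1 hx).1
      (not_lt.1 (Finset.mem_filter.1 hx).2))).1 hn

namespace ZSetup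

variable {G Ω : Type*} [Group G] [MulAction G Ω] [Fintype Ω] (S : ZSetup G Ω) [Fintype G]

omit [Fintype G] in
lemma conjH_mem_of_split [Finite G] {A B : Subgroup S.H} (h : IsSplit A B) (d : S.D) {u : S.H}
    (hu : u ∈ A) : S.conjH d u ∈ A := by
  haveI := h.nA
  exact map_mem_of_hall A h.symm.coprime_index _ hu

/-- Many linear characters are trivial on a proper factor. -/
lemma e_lt_card_linear_trivOn [Group.IsNilpotent S.H] {A B : Subgroup S.H} (h : IsSplit A B)
    (hA : A ≠ ⊤) :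
    S.e < (Finset.univ.filter fun φ : Cfsg.IrrCharacter S.H => degOf φ = 1 ∧ TrivOn A φ).card := by
  haveI := h.nA
  obtain ⟨φ, hφ, hφ1, hφA⟩ := exists_linear_trivOn A hA
  have hsub : insert (H26.oneIrr S.H) (Finset.univ.image fun d => S.cj d φ) ⊆
      Finset.univ.filter fun φ : Cfsg.IrrCharacter S.H => degOf φ = 1 ∧ TrivOn A φ := by
    intro x hx
    rw [Finset.mem_filter]
    refine ⟨Finset.mem_univ _, ?_⟩
    rcases Finset.mem_insert.1 hx with rfl | hx
    · exact ⟨degOf_oneIrr, trivOn_oneIrr A⟩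
    · obtain ⟨d, -, rfl⟩ := Finset.mem_image.1 hx
      exact ⟨by rw [S.degOf_cj, hφ1], S.trivOn_cj d (fun u hu => S.conjH_mem_of_split h d hu) hφA⟩
  refine lt_of_lt_of_le ?_ (Finset.card_le_card hsub)
  rw [Finset.card_insert_of_notMem (fun h' => by
    obtain ⟨d, -, hd⟩ := Finset.mem_image.1 h'; exact S.cj_ne_one hφ hd),
    Finset.card_image_of_injective _ (S.cj_injective hφ), Finset.card_univ,
    ← Nat.card_eq_fintype_card]
  exact Nat.lt_succ_self _

variable [IsSimpleGroup G] (hodd : Odd S.e)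
include hodd

/-- Purity in the case of a `p`-group with a large abelian quotient. -/
theorem pure_pgroup {p : ℕ} [Fact p.Prime] (hp : IsPGroup p S.H)
    (hbig : 4 * S.e ^ 2 + 1 < (commutator S.H).index)
    {C₀ : Finset (Cfsg.IrrCharacter G)} (hc : S.Core hodd C₀) :
    ∀ φ, φ ≠ H26.oneIrr S.H → S.Pure hodd C₀ φ := by
  suffices key : ∀ n, ∀ φ, φ ≠ H26.oneIrr S.H → degOf φ = n → S.Pure hodd C₀ φ from
    fun φ hφ => key _ φ hφ rfl
  intro n
  induction n using Nat.strong_induction_on with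
  | _ n ih =>
  intro φ hφ hn
  rcases Nat.lt_or_ge n 2 with h2 | h2
  · exact hc.pure φ hφ (by have := degOf_pos φ; omega)
  let T := (Finset.univ.filter fun x : Cfsg.IrrCharacter S.H => degOf x < n).erase (H26.oneIrr S.H)
  refine S.pure_extend hodd hc T (fun x hx => ?_) (fun x hx d => ?_) hφ ?_
  · simp only [T, Finset.mem_erase, Finset.mem_filter, Finset.mem_univ, true_and] at hx
    exact ⟨hx.1, ih _ hx.2 x hx.1 rfl⟩
  · simp only [T, Finset.mem_erase, Finset.mem_filter, Finset.mem_univ, true_and] at hx ⊢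
    exact ⟨S.cj_ne_one hx.1, by rw [S.degOf_cj]; exact hx.2⟩
  · have hall : ∑ x : Cfsg.IrrCharacter S.H, degOf x ^ 2 = Nat.card S.H := by
      have h := H26.sum_sq_degrees (G := S.H)
      simp only [degOf_spec] at h
      exact_mod_cast h
    have h1 : (commutator S.H).index ≤
        ∑ x ∈ Finset.univ.filter (fun x : Cfsg.IrrCharacter S.H => degOf x < n), degOf x ^ 2 := by
      rw [← card_linear, Finset.card_eq_sum_ones]
      refine le_trans (Finset.sum_le_sum (g := fun x : Cfsg.IrrCharacter S.H => degOf x ^ 2)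
        fun x _ => Nat.one_le_pow 2 _ (degOf_pos x))
        (Finset.sum_le_sum_of_subset fun x hx => ?_)
      simp only [Finset.mem_filter, Finset.mem_univ, true_and] at hx ⊢
      omega
    obtain ⟨i, hi, hdvd⟩ := degOf_sq_dvd_card hp φ
    have h3 : n ^ 2 ≤ ∑ x ∈ Finset.univ.filter (fun x : Cfsg.IrrCharacter S.H => degOf x < n), degOf x ^ 2 := by
      refine le_sum_small _ degOf hall (hn ▸ hdvd) (fun x _ hx => ?_)
        ⟨H26.oneIrr S.H, Finset.mem_univ _, by rw [degOf_oneIrr]; omega, degOf_pos _⟩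
      obtain ⟨j, hj, -⟩ := degOf_sq_dvd_card hp x
      rw [← hn, hi, hj] at hx ⊢
      exact pow_dvd_pow_of_dvd (pow_dvd_pow p
        ((Nat.pow_le_pow_iff_right (Fact.out : p.Prime).one_lt).1 hx)) 2
    have hone : H26.oneIrr S.H ∈ Finset.univ.filter (fun x : Cfsg.IrrCharacter S.H => degOf x < n) :=
      Finset.mem_filter.2 ⟨Finset.mem_univ _, by rw [degOf_oneIrr]; omega⟩
    rw [← Finset.add_sum_erase _ _ hone, degOf_oneIrr, one_pow] at h1 h3
    change (commutator S.H).index ≤ 1 + ∑ x ∈ T, degOf x ^ 2 at h1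
    change n ^ 2 ≤ 1 + ∑ x ∈ T, degOf x ^ 2 at h3
    rw [hn]
    by_cases hne : n ≤ 2 * S.e
    · nlinarith
    · nlinarith

/-- Purity when the kernel is not a group of prime power order. -/
theorem pure_composite (hnp : ∀ p : ℕ, p.Prime → ¬ IsPGroup p S.H)
    {C₀ : Finset (Cfsg.IrrCharacter G)} (hc : S.Core hodd C₀) :
    ∀ φ, φ ≠ H26.oneIrr S.H → S.Pure hodd C₀ φ := by
  haveI := S.H_nilpotent
  suffices key : ∀ m, ∀ A B : Subgroup S.H, IsSplit A B → Nat.card B = m → B ≠ ⊥ →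
      ∀ φ, φ ≠ H26.oneIrr S.H → TrivOn A φ → S.Pure hodd C₀ φ by
    intro φ hφ
    refine key _ ⊥ ⊤ ⟨inferInstance, inferInstance, bot_sup_eq _, by simp⟩ rfl ?_ φ hφ
      (fun a ha => by rw [Subgroup.mem_bot.1 ha])
    intro htop
    obtain ⟨u, hu, hu1⟩ := S.exists_H_ne_one
    have : (⟨u, hu⟩ : S.H) ∈ (⊥ : Subgroup S.H) := htop ▸ Subgroup.mem_top _
    exact hu1 (congrArg Subtype.val (Subgroup.mem_bot.1 this))
  intro m
  induction m using Nat.strong_induction_on with
  | _ m ihm =>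
  intro A B hAB hm hB
  haveI := hAB.nA
  haveI := hAB.nB
  have hAtop : A ≠ ⊤ := fun h => hB (Subgroup.card_eq_one.1 (by
    rw [← hAB.index_eq, h, Subgroup.index_top]))
  by_cases hBp : ∃ p : ℕ, p.Prime ∧ IsPGroup p B
  · obtain ⟨p, hpp, hp⟩ := hBp
    haveI := Fact.mk hpp
    have hBtop : B ≠ ⊤ := fun h => hnp p hpp (hp.of_equiv
      ((MulEquiv.subgroupCongr h).trans Subgroup.topEquiv))
    have hpow : ∀ x : Cfsg.IrrCharacter S.H, TrivOn A x →
        ∃ i, degOf x = p ^ i ∧ degOf x ^ 2 ∣ Nat.card B := fun x hx => by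
      obtain ⟨θ, hθ⟩ := hAB.exists_res hx
      rw [← hθ]
      exact degOf_sq_dvd_card hp θ
    suffices key : ∀ n, ∀ φ, φ ≠ H26.oneIrr S.H → TrivOn A φ → degOf φ = n → S.Pure hodd C₀ φ from
      fun φ hφ hφA => key _ φ hφ hφA rfl
    intro n
    induction n using Nat.strong_induction_on with
    | _ n ih =>
    intro φ hφ hφA hn
    rcases Nat.lt_or_ge n 2 with h2 | h2
    · exact hc.pure φ hφ (by have := degOf_pos φ; omega)
    let L := Finset.univ.filter fun x : Cfsg.IrrCharacter S.H => degOf x = 1 ∧ ¬ TrivOn A x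
    let U := Finset.univ.filter fun x : Cfsg.IrrCharacter S.H => TrivOn A x
    let U' := (U.filter fun x => degOf x < n).erase (H26.oneIrr S.H)
    have hdisj : Disjoint L U' := Finset.disjoint_left.2 fun x hx hx' => by
      simp only [L, U', U, Finset.mem_erase, Finset.mem_filter, Finset.mem_univ, true_and] at hx hx'
      exact hx.2 hx'.2.1
    refine S.pure_extend hodd hc (L ∪ U') (fun x hx => ?_) (fun x hx d => ?_) hφ ?_
    · simp only [L, U', U, Finset.mem_union, Finset.mem_erase, Finset.mem_filter, Finset.mem_univ,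
        true_and] at hx
      rcases hx with ⟨h1, h1'⟩ | ⟨h1, h1', h1''⟩
      · have hne : x ≠ H26.oneIrr S.H := fun h => h1' (h ▸ trivOn_oneIrr A)
        exact ⟨hne, hc.pure x hne h1⟩
      · exact ⟨h1, ih _ h1'' x h1 h1' rfl⟩
    · simp only [L, U', U, Finset.mem_union, Finset.mem_erase, Finset.mem_filter, Finset.mem_univ,
        true_and, S.degOf_cj] at hx ⊢
      rcases hx with ⟨h1, h1'⟩ | ⟨h1, h1', h1''⟩
      · refine Or.inl ⟨h1, fun h => h1' ?_⟩
        have h' := S.trivOn_cj d⁻¹ (fun u hu => S.conjH_mem_of_split hAB d⁻¹ hu) h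
        rwa [← S.cj_mul, inv_mul_cancel, S.cj_one] at h'
      · exact Or.inr ⟨S.cj_ne_one h1,
          S.trivOn_cj d (fun u hu => S.conjH_mem_of_split hAB d hu) h1', h1''⟩
    · have hU : ∑ x ∈ U, degOf x ^ 2 = Nat.card B := by rw [sum_sq_trivOn, hAB.index_eq]
      obtain ⟨i, hi, hdvd⟩ := hpow φ hφA
      have h3 : n ^ 2 ≤ ∑ x ∈ U.filter (fun x => degOf x < n), degOf x ^ 2 := by
        refine le_sum_small _ degOf hU (hn ▸ hdvd) (fun x hxU hx => ?_)
          ⟨H26.oneIrr S.H, Finset.mem_filter.2 ⟨Finset.mem_univ _, trivOn_oneIrr A⟩,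
            by rw [degOf_oneIrr]; omega, degOf_pos _⟩
        obtain ⟨j, hj, -⟩ := hpow x (Finset.mem_filter.1 hxU).2
        rw [← hn, hi, hj] at hx ⊢
        exact pow_dvd_pow_of_dvd (pow_dvd_pow p ((Nat.pow_le_pow_iff_right hpp.one_lt).1 hx)) 2
      have hone : H26.oneIrr S.H ∈ U.filter (fun x => degOf x < n) :=
        Finset.mem_filter.2 ⟨Finset.mem_filter.2 ⟨Finset.mem_univ _, trivOn_oneIrr A⟩,
          by rw [degOf_oneIrr]; omega⟩
      rw [← Finset.add_sum_erase _ _ hone, degOf_oneIrr, one_pow] at h3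
      change n ^ 2 ≤ 1 + ∑ x ∈ U', degOf x ^ 2 at h3
      -- linear characters not trivial on `A`
      let LA := Finset.univ.filter fun x : Cfsg.IrrCharacter S.H => degOf x = 1 ∧ TrivOn A x
      let LB := (Finset.univ.filter fun x : Cfsg.IrrCharacter S.H => degOf x = 1 ∧ TrivOn B x).erase
        (H26.oneIrr S.H)
      have hLA : S.e + 1 ≤ LA.card := S.e_lt_card_linear_trivOn hAB hAtop
      have hLB : S.e ≤ LB.card := by
        rw [Finset.card_erase_of_mem (by simp [degOf_oneIrr, trivOn_oneIrr])]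
        have := S.e_lt_card_linear_trivOn hAB.symm hBtop
        omega
      have hmul : ∀ q ∈ LA ×ˢ LB, ∃ χ : Cfsg.IrrCharacter S.H,
          degOf χ = 1 ∧ ∀ x, χ.1 x = q.1.1 x * q.2.1 x := fun q hq => by
        simp only [LA, LB, Finset.mem_product, Finset.mem_erase, Finset.mem_filter] at hq
        exact exists_linear_mul hq.1.2.1 hq.2.2.2.1
      haveI : Nonempty (Cfsg.IrrCharacter S.H) := ⟨H26.oneIrr S.H⟩
      choose! P hP using hmul
      have hdec : ∀ y : S.H, ∃ a ∈ A, ∃ b ∈ B, a * b = y := fun y => by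
        have : y ∈ ((A ⊔ B : Subgroup S.H) : Set S.H) := by rw [hAB.sup]; trivial
        rw [Subgroup.normal_mul] at this
        exact this
      have hLcard : (S.e + 1) * S.e ≤ L.card := by
        refine (Nat.mul_le_mul hLA hLB).trans ?_
        rw [← Finset.card_product]
        refine Finset.card_le_card_of_injOn P (fun q hq => ?_) (fun q hq q' hq' he => ?_)
        · have hq' := hq
          simp only [LA, LB, Finset.mem_coe, Finset.mem_product, Finset.mem_erase, Finset.mem_filter,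
            Finset.mem_univ, true_and] at hq'
          obtain ⟨h1, h2'⟩ := hP q hq
          refine Finset.mem_filter.2 ⟨Finset.mem_univ _, h1, fun htr => hq'.2.1 ?_⟩
          refine eq_one_of_trivOn_top fun y _ => ?_
          obtain ⟨a, ha, b, hb, rfl⟩ := hdec y
          have hA1 : q.2.1 a = q.2.1 1 := by
            have h := htr a ha
            rw [h2', h2', hq'.1.2 a ha] at h
            exact mul_left_cancel₀ (linear_apply_ne_zero hq'.1.1 1) h
          rw [linear_apply_mul hq'.2.2.1, hA1, hq'.2.2.2 b hb, degOf_spec, hq'.2.2.1, Nat.cast_one,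
            mul_one]
        · have hq₁ := hq
          have hq₂ := hq'
          simp only [LA, LB, Finset.mem_coe, Finset.mem_product, Finset.mem_erase, Finset.mem_filter,
            Finset.mem_univ, true_and] at hq₁ hq₂
          have hv : ∀ y, q.1.1 y * q.2.1 y = q'.1.1 y * q'.2.1 y := fun y => by
            rw [← (hP q hq).2, ← (hP q' hq').2, he]
          have h1 : ∀ {x : Cfsg.IrrCharacter S.H}, degOf x = 1 → x.1 1 = 1 := fun {x} h => by
            rw [degOf_spec, h, Nat.cast_one]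
          refine Prod.ext (Subtype.ext (funext fun y => ?_)) (Subtype.ext (funext fun y => ?_))
          · obtain ⟨a, ha, b, hb, rfl⟩ := hdec y
            rw [hq₁.1.2.mul_apply ha, hq₂.1.2.mul_apply ha]
            have := hv b
            rwa [hq₁.2.2.2 b hb, hq₂.2.2.2 b hb, h1 hq₁.2.2.1, h1 hq₂.2.2.1, mul_one, mul_one] at this
          · obtain ⟨a, ha, b, hb, rfl⟩ := hdec y
            rw [linear_apply_mul hq₁.2.2.1, linear_apply_mul hq₂.2.2.1, hq₁.2.2.2 b hb,
              hq₂.2.2.2 b hb, h1 hq₁.2.2.1, h1 hq₂.2.2.1, mul_one, mul_one]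
            have := hv a
            rwa [hq₁.1.2 a ha, hq₂.1.2 a ha, h1 hq₁.1.1, h1 hq₂.1.1, one_mul, one_mul] at this
      have hLsum : ∑ x ∈ L, degOf x ^ 2 = L.card := by
        rw [Finset.card_eq_sum_ones]
        exact Finset.sum_congr rfl fun x hx => by rw [(Finset.mem_filter.1 hx).2.1, one_pow]
      rw [Finset.sum_union hdisj, hLsum, hn]
      have hz := S.two_le_e
      nlinarith [two_mul_le_add_sq S.e n]
  · push Not at hBp
    intro φ hφ hφA
    rcases Nat.lt_or_ge (degOf φ) 2 with h2 | h2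
    · exact hc.pure φ hφ (by have := degOf_pos φ; omega)
    obtain ⟨B₁, B₂, h1B, h2B, hcard, hcop, h1ne, h2ne, hs1, hs2⟩ := hAB.exists_split hBp
    haveI := hs1.nA
    haveI := hs1.nB
    haveI := hs2.nA
    haveI := hs2.nB
    have hc1 : 1 < Nat.card B₁ := (Subgroup.one_lt_card_iff_ne_bot B₁).2 h1ne
    have hc2 : 1 < Nat.card B₂ := (Subgroup.one_lt_card_iff_ne_bot B₂).2 h2ne
    have hlt1 : Nat.card B₁ < m := by rw [← hm, ← hcard]; exact lt_mul_of_one_lt_right (by omega) hc2
    have hlt2 : Nat.card B₂ < m := by rw [← hm, ← hcard]; exact lt_mul_of_one_lt_left (by omega) hc1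
    let T1 := (Finset.univ.filter fun x : Cfsg.IrrCharacter S.H => TrivOn (A ⊔ B₂) x).erase (H26.oneIrr S.H)
    let T2 := (Finset.univ.filter fun x : Cfsg.IrrCharacter S.H => TrivOn (A ⊔ B₁) x).erase (H26.oneIrr S.H)
    have hdisj : Disjoint T1 T2 := Finset.disjoint_left.2 fun x hx hx' => by
      simp only [T1, T2, Finset.mem_erase, Finset.mem_filter, Finset.mem_univ, true_and] at hx hx'
      refine hx.1 (eq_one_of_trivOn_top ?_)
      have h := TrivOn.sup hx.2 (hx'.2.mono (le_sup_right : B₁ ≤ A ⊔ B₁))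
      rwa [hs1.sup] at h
    refine S.pure_extend hodd hc (T1 ∪ T2) (fun x hx => ?_) (fun x hx d => ?_) hφ ?_
    · simp only [T1, T2, Finset.mem_union, Finset.mem_erase, Finset.mem_filter, Finset.mem_univ,
        true_and] at hx
      rcases hx with ⟨h1, h1'⟩ | ⟨h1, h1'⟩
      · exact ⟨h1, ihm _ hlt1 _ _ hs1 rfl h1ne x h1 h1'⟩
      · exact ⟨h1, ihm _ hlt2 _ _ hs2 rfl h2ne x h1 h1'⟩
    · simp only [T1, T2, Finset.mem_union, Finset.mem_erase, Finset.mem_filter, Finset.mem_univ,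
        true_and] at hx ⊢
      rcases hx with ⟨h1, h1'⟩ | ⟨h1, h1'⟩
      · exact Or.inl ⟨S.cj_ne_one h1, S.trivOn_cj d (fun u hu => S.conjH_mem_of_split hs1 d hu) h1'⟩
      · exact Or.inr ⟨S.cj_ne_one h1, S.trivOn_cj d (fun u hu => S.conjH_mem_of_split hs2 d hu) h1'⟩
    · have hsum1 : ∀ (A' B' : Subgroup S.H) (h : IsSplit A' B'),
          1 + ∑ x ∈ (Finset.univ.filter fun x : Cfsg.IrrCharacter S.H => TrivOn A' x).erase (H26.oneIrr S.H),
            degOf x ^ 2 = Nat.card B' := fun A' B' h => by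
        haveI := h.nA
        rw [← h.index_eq, ← sum_sq_trivOn, ← Finset.add_sum_erase (Finset.univ.filter (TrivOn A')) _
          (Finset.mem_filter.2 ⟨Finset.mem_univ (H26.oneIrr S.H), trivOn_oneIrr A'⟩), degOf_oneIrr, one_pow]
      have e1 : 1 + ∑ x ∈ T1, degOf x ^ 2 = Nat.card B₁ := hsum1 _ _ hs1
      have e2 : 1 + ∑ x ∈ T2, degOf x ^ 2 = Nat.card B₂ := hsum1 _ _ hs2
      let Z := Subgroup.center S.H
      have hci : ∀ (A' B' : Subgroup S.H), IsSplit A' B' → B' ≠ ⊥ →
          S.e + 1 ≤ Nat.card ↥(B' ⊓ Z) := fun A' B' h hne => by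
        haveI := h.nB
        refine S.e_lt_card _ (H19.inf_center_ne_bot B' hne) fun d u hu => ⟨?_, ?_⟩
        · exact S.conjH_mem_of_split h.symm d hu.1
        · refine Subgroup.mem_center_iff.2 fun g => ?_
          obtain ⟨g', rfl⟩ := (S.conjH d).surjective g
          rw [← map_mul, ← map_mul, Subgroup.mem_center_iff.1 hu.2 g']
      have hk1 := hci _ _ hs1 h1ne
      have hk2 := hci _ _ hs2 h2ne
      haveI : (B₁ ⊓ Z).Normal := Subgroup.normal_inf_normal B₁ Z
      haveI : (B₂ ⊓ Z).Normal := Subgroup.normal_inf_normal B₂ Z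
      set E := (B₁ ⊓ Z) ⊔ (B₂ ⊓ Z) with hE
      have hEcard : Nat.card E = Nat.card ↥(B₁ ⊓ Z) * Nat.card ↥(B₂ ⊓ Z) :=
        card_sup_of_coprime _ _ ((hcop.coprime_dvd_left (Subgroup.card_dvd_of_le inf_le_left)).coprime_dvd_right
          (Subgroup.card_dvd_of_le inf_le_left))
      have hEB : E ≤ B := sup_le (inf_le_left.trans h1B) (inf_le_left.trans h2B)
      have hEZ : E ≤ Z := sup_le inf_le_right inf_le_right
      have hAE : Nat.card ↥(A ⊔ E) = Nat.card A * Nat.card E := card_sup_of_coprime _ _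
        (hAB.cop.coprime_dvd_right (Subgroup.card_dvd_of_le hEB))
      have hbd := degOf_sq_mul_card_le φ (Finset.univ.filter fun x => x ∈ A ⊔ E) fun x hx => by
        have hx' : x ∈ ((A ⊔ E : Subgroup S.H) : Set S.H) := (Finset.mem_filter.1 hx).2
        rw [Subgroup.normal_mul] at hx'
        obtain ⟨a, ha, c, hc', rfl⟩ := hx'
        exact norm_eq_of_central hφA ha (hEZ hc')
      rw [← Fintype.card_subtype, ← Nat.card_eq_fintype_card] at hbd
      rw [show Nat.card {x // x ∈ A ⊔ E} = Nat.card ↥(A ⊔ E) from rfl, hAE, hEcard, ← hAB.card_mul] at hbd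
      have hApos : 0 < Nat.card A := Nat.card_pos
      have hbd2 : degOf φ ^ 2 * (Nat.card ↥(B₁ ⊓ Z) * Nat.card ↥(B₂ ⊓ Z)) ≤ Nat.card B := by
        refine Nat.le_of_mul_le_mul_left ?_ hApos
        calc _ = degOf φ ^ 2 * (Nat.card A * (Nat.card ↥(B₁ ⊓ Z) * Nat.card ↥(B₂ ⊓ Z))) := by ring
          _ ≤ _ := hbd
      have hbd3 : (degOf φ * (S.e + 1)) ^ 2 ≤ Nat.card B₁ * Nat.card B₂ := by
        rw [hcard]
        refine le_trans ?_ hbd2
        rw [mul_pow, sq (S.e + 1)]
        exact Nat.mul_le_mul_left _ (Nat.mul_le_mul hk1 hk2)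
      rw [Finset.sum_union hdisj]
      by_contra hcon
      push Not at hcon
      have hle : Nat.card B₁ + Nat.card B₂ + 2 ≤ 2 * (degOf φ * (S.e + 1)) := by nlinarith
      nlinarith [sq_nonneg ((Nat.card B₁ : ℤ) - Nat.card B₂)]

end ZSetup

end Cfsg.Agent.H39
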