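import Cfsg.Agent.H39.BrauerInduction
import Cfsg.Agent.H25.IndRep
import Cfsg.Agent.H25.CharValues
import Cfsg.Agent.H25.CharIntegral
import Cfsg.Agent.H26.CharOrtho
import Cfsg.Prelude.Def_Blocks

/-!
# Sections of a coprime factorisation

For `|G| = m n` with coprime factors and `k ≡ 0 (m)`, `k ≡ 1 (n)` the power `x ^ k` is the
`n`-part of `x`.  The function `n` on the section of `g` and `0` elsewhere is a combination of
irreducible characters with algebraic integer coefficients.
-/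

namespace Cfsg.Agent.H39

universe u

open ComplexConjugate

/-- An exponent picking out the `n`-part. -/
lemma exists_partExp {m n : ℕ} (h : Nat.Coprime m n) :
    ∃ k : ℕ, m ∣ k ∧ k ≡ 1 [MOD n] := by
  obtain ⟨k, h0, h1⟩ := Nat.chineseRemainder h 0 1
  exact ⟨k, Nat.modEq_zero_iff_dvd.1 h0, h1⟩

section Parts

variable {G : Type u} [Group G] {m n k : ℕ}

/-- The `k`-th power fixes elements of order dividing `n`. -/
lemma pow_partExp_of_dvd (hk1 : k ≡ 1 [MOD n]) {v : G} (hv : orderOf v ∣ n) : v ^ k = v := by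
  conv_rhs => rw [← pow_one v]
  exact pow_eq_pow_iff_modEq.2 (hk1.of_dvd hv)

/-- The `k`-th power kills elements of order dividing `m`. -/
lemma pow_partExp_eq_one (hk0 : m ∣ k) {u : G} (hu : orderOf u ∣ m) : u ^ k = 1 :=
  orderOf_dvd_iff_pow_eq_one.1 (hu.trans hk0)

/-- The `k`-th power has order dividing `n`. -/
lemma orderOf_pow_partExp_dvd (hmn : Nat.card G = m * n) (hk0 : m ∣ k) (x : G) :
    orderOf (x ^ k) ∣ n := by
  rw [orderOf_dvd_iff_pow_eq_one, ← pow_mul, ← orderOf_dvd_iff_pow_eq_one]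
  exact (hmn ▸ orderOf_dvd_natCard x).trans (Nat.mul_dvd_mul_right hk0 n)

/-- The complementary part has order dividing `m`. -/
lemma orderOf_mul_inv_partExp_dvd (hmn : Nat.card G = m * n) (hk1 : k ≡ 1 [MOD n]) (x : G) :
    orderOf (x * (x ^ k)⁻¹) ∣ m := by
  rw [orderOf_dvd_iff_pow_eq_one]
  have hc : Commute x (x ^ k)⁻¹ := ((Commute.refl x).pow_right k).inv_right
  rw [hc.mul_pow, inv_pow, mul_inv_eq_one, ← pow_mul, pow_eq_pow_iff_modEq]
  have h : m * k ≡ m * 1 [MOD m * n] := Nat.ModEq.mul_left' m hk1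
  rw [mul_one, ← hmn, mul_comm] at h
  exact (h.of_dvd (orderOf_dvd_natCard x)).symm

/-- The factorisation is given by the `k`-th power. -/
lemma exists_section_decomp_iff [Finite G] (hmn : Nat.card G = m * n) (hcop : Nat.Coprime m n)
    (hk0 : m ∣ k) (hk1 : k ≡ 1 [MOD n]) (g x : G) :
    (∃ v : G, IsConj v g ∧ ∃ u : G, x = u * v ∧ Commute u v ∧ Nat.Coprime (orderOf u) n ∧
      Nat.Coprime (orderOf v) m) ↔ IsConj (x ^ k) g := by
  constructor
  · rintro ⟨v, hv, u, rfl, hc, hu, hv'⟩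
    have h1 : orderOf u ∣ m := hu.dvd_of_dvd_mul_right (hmn ▸ orderOf_dvd_natCard u)
    have h2 : orderOf v ∣ n := hv'.dvd_of_dvd_mul_left (hmn ▸ orderOf_dvd_natCard v)
    rwa [hc.mul_pow, pow_partExp_eq_one hk0 h1, pow_partExp_of_dvd hk1 h2, one_mul]
  · intro h
    refine ⟨x ^ k, h, x * (x ^ k)⁻¹, by simp, ?_, ?_, ?_⟩
    · exact (((Commute.refl x).pow_right k).mul_left (Commute.refl _).inv_left)
    · exact hcop.coprime_dvd_left (orderOf_mul_inv_partExp_dvd hmn hk1 x)
    · exact hcop.symm.coprime_dvd_left (orderOf_pow_partExp_dvd hmn hk0 x)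

end Parts

/-- On an elementary group of order dividing `m n` the `k`-th power is a homomorphism. -/
lemma exists_powHom {E : Type u} [Group E] [Finite E] {p m n k : ℕ} (hp : p.Prime)
    (hE : Cfsg.IsElementary p E) (hcard : Nat.card E ∣ m * n) (hcop : Nat.Coprime m n)
    (hk0 : m ∣ k) (hk1 : k ≡ 1 [MOD n]) : ∃ π : E →* E, ∀ e, π e = e ^ k := by
  haveI : Fact p.Prime := ⟨hp⟩
  obtain ⟨x, hx, hcx, j, hj⟩ := hE
  set Z := Subgroup.zpowers x
  have hZc : Z ≤ Subgroup.center E := by rwa [Subgroup.zpowers_le]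
  haveI : Z.Normal := ⟨fun a ha g => by
    rwa [Subgroup.mem_center_iff.1 (hZc ha) g, mul_inv_cancel_right]⟩
  obtain ⟨P⟩ : Nonempty (Sylow p E) := inferInstance
  have htop : Z ⊔ (P : Subgroup E) = ⊤ := by
    rw [← Subgroup.index_eq_one]
    have h1 : (Z ⊔ (P : Subgroup E)).index ∣ p ^ j := hj ▸ Subgroup.index_dvd_of_le le_sup_left
    obtain ⟨i, _, hi⟩ := (Nat.dvd_prime_pow hp).1 h1
    rcases Nat.eq_zero_or_pos i with rfl | hpos
    · simpa using hi
    · exfalso
      exact P.not_dvd_index ((hi ▸ dvd_pow_self p hpos.ne').trans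
        (Subgroup.index_dvd_of_le le_sup_right))
  have hP : (∀ q ∈ (P : Subgroup E), q ^ k = 1) ∨ (∀ q ∈ (P : Subgroup E), q ^ k = q) := by
    obtain ⟨i, hi⟩ := P.isPGroup'.exists_card_eq
    have h1 : p ^ i ∣ m * n := hi ▸ (Subgroup.card_subgroup_dvd_card _).trans hcard
    rcases em (p ∣ m) with h | h
    · refine Or.inl fun q hq => pow_partExp_eq_one hk0 ?_
      refine (Subgroup.orderOf_dvd_natCard _ hq).trans (hi ▸ ?_)
      exact ((hcop.coprime_dvd_left h).pow_left i).dvd_of_dvd_mul_right h1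
    · refine Or.inr fun q hq => pow_partExp_of_dvd hk1 ?_
      refine (Subgroup.orderOf_dvd_natCard _ hq).trans (hi ▸ ?_)
      exact ((hp.coprime_iff_not_dvd.2 h).pow_left i).dvd_of_dvd_mul_left h1
  refine ⟨MonoidHom.mk' (fun e => e ^ k) fun a b => ?_, fun e => rfl⟩
  obtain ⟨z, hz, q, hq, rfl⟩ :=
    Subgroup.mem_sup_of_normal_left.1 (htop ▸ Subgroup.mem_top a : a ∈ Z ⊔ (P : Subgroup E))
  obtain ⟨z', hz', q', hq', rfl⟩ :=
    Subgroup.mem_sup_of_normal_left.1 (htop ▸ Subgroup.mem_top b : b ∈ Z ⊔ (P : Subgroup E))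
  have hc : ∀ {w : E}, w ∈ Z → ∀ y, Commute w y :=
    fun hw y => (Subgroup.mem_center_iff.1 (hZc hw) y).symm
  have hqq : (q * q') ^ k = q ^ k * q' ^ k := by
    rcases hP with h | h
    · rw [h _ hq, h _ hq', h _ (mul_mem hq hq'), one_mul]
    · rw [h _ hq, h _ hq', h _ (mul_mem hq hq')]
  have e1 : z * q * (z' * q') = (z * z') * (q * q') := by
    rw [mul_assoc, mul_assoc]
    congr 1
    rw [← mul_assoc, ← (hc hz' q).eq, mul_assoc]
  rw [e1, (hc (mul_mem hz hz') _).mul_pow, (hc hz z').mul_pow, hqq, (hc hz q).mul_pow,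
    (hc hz' q').mul_pow, mul_assoc, mul_assoc]
  congr 1
  rw [← mul_assoc, ← mul_assoc]
  congr 1
  exact ((hc hz' q).pow_pow k k).eq

/-- The image of an elementary group is elementary. -/
lemma isElementary_range {p : ℕ} (hp : p.Prime) {E F : Type u} [Group E] [Group F] (f : E →* F)
    (hE : Cfsg.IsElementary p E) : Cfsg.IsElementary p f.range := by
  obtain ⟨x, hx, hcx, j, hj⟩ := hE
  refine ⟨f.rangeRestrict x, Subgroup.mem_center_iff.2 fun y => ?_,
    hcx.coprime_dvd_left (orderOf_map_dvd _ x), ?_⟩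
  · obtain ⟨e, rfl⟩ := f.rangeRestrict_surjective y
    rw [← map_mul, ← map_mul, Subgroup.mem_center_iff.1 hx e]
  · have h : (Subgroup.zpowers (f.rangeRestrict x)).index ∣ p ^ j := by
      rw [← hj, ← MonoidHom.map_zpowers]
      exact Subgroup.index_map_dvd _ f.rangeRestrict_surjective
    obtain ⟨i, _, hi⟩ := (Nat.dvd_prime_pow hp).1 h
    exact ⟨i, hi⟩

/-- The range of a power homomorphism has order dividing `n`. -/
lemma card_range_powHom_dvd {E : Type u} [Group E] [Finite E] {m n k : ℕ}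
    (hcard : Nat.card E ∣ m * n) (hcop : Nat.Coprime m n) (hk0 : m ∣ k) (π : E →* E)
    (hπ : ∀ e, π e = e ^ k) : Nat.card π.range ∣ n := by
  have hco : Nat.Coprime (Nat.card π.range) m := by
    refine Nat.coprime_of_dvd fun q hq hqR hqm => ?_
    haveI : Fact q.Prime := ⟨hq⟩
    obtain ⟨⟨r, e, rfl⟩, hr⟩ := exists_prime_orderOf_dvd_card' q hqR
    rw [← Subgroup.orderOf_coe] at hr
    have h1 : orderOf (π e) ∣ n := by
      rw [hπ, orderOf_dvd_iff_pow_eq_one, ← pow_mul, ← orderOf_dvd_iff_pow_eq_one]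
      exact ((orderOf_dvd_natCard e).trans hcard).trans (Nat.mul_dvd_mul_right hk0 n)
    exact hq.one_lt.ne' (Nat.eq_one_of_dvd_coprimes hcop hqm (hr ▸ h1))
  exact hco.dvd_of_dvd_mul_left ((Subgroup.card_subgroup_dvd_card _).trans hcard)

section Span

variable (S : Subring ℂ)

/-- Class functions whose coordinates in the irreducible characters lie in `S`. -/
noncomputable def coeffSpan (G : Type u) [Group G] [Fintype G] : AddSubgroup (G → ℂ) where
  carrier := {F | Cfsg.IsClassFunction G F ∧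
    ∀ χ : Cfsg.IrrCharacter G, Cfsg.classInner F χ.1 ∈ S}
  zero_mem' := ⟨fun _ _ => rfl, fun χ => by rw [H26.classInner_zero_left]; exact zero_mem S⟩
  add_mem' := by
    intro a b ha hb
    exact ⟨fun g h => by simp [ha.1 g h, hb.1 g h],
      fun χ => by rw [H26.classInner_add_left]; exact add_mem (ha.2 χ) (hb.2 χ)⟩
  neg_mem' := by
    intro a ha
    exact ⟨fun g h => by simp [ha.1 g h],
      fun χ => by rw [H26.classInner_neg_left]; exact neg_mem (ha.2 χ)⟩

variable {S} {G : Type u} [Group G] [Fintype G]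

lemma mem_coeffSpan {F : G → ℂ} : F ∈ coeffSpan S G ↔ Cfsg.IsClassFunction G F ∧
    ∀ χ : Cfsg.IrrCharacter G, Cfsg.classInner F χ.1 ∈ S := Iff.rfl

lemma char_mem_coeffSpan {χ : G → ℂ} (h : Cfsg.IsCharacter G χ) : χ ∈ coeffSpan S G := by
  refine ⟨H26.isClassFunction_of_isCharacter h, fun ψ => ?_⟩
  obtain ⟨j, hj⟩ := H26.exists_nat_classInner_irr h ψ
  rw [hj]
  exact natCast_mem S j

lemma smul_mem_coeffSpan {c : ℂ} (hc : c ∈ S) {F : G → ℂ} (hF : F ∈ coeffSpan S G) :
    c • F ∈ coeffSpan S G :=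
  ⟨fun g h => by simp [hF.1 g h], fun χ => by
    rw [H26.classInner_smul_left]; exact mul_mem hc (hF.2 χ)⟩

/-- A linear map taking irreducible characters to characters preserves the spans. -/
lemma map_mem_coeffSpan {R : Type u} [Group R] [Fintype R] (L : (R → ℂ) →ₗ[ℂ] (G → ℂ))
    (hL : ∀ χ : Cfsg.IrrCharacter R, Cfsg.IsCharacter G (L χ.1)) {F : R → ℂ}
    (hF : F ∈ coeffSpan S R) : L F ∈ coeffSpan S G := by
  rw [H26.class_function_expansion F hF.1, map_sum]
  refine sum_mem fun χ _ => ?_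
  rw [map_smul]
  exact smul_mem_coeffSpan (hF.2 χ) (char_mem_coeffSpan (hL χ))

/-- Twist by a linear character after pulling back, then induce. -/
lemma indFun_pullback_mem {R : Type u} [Group R] [Fintype R] (E : Subgroup G) (φ : E →* ℂˣ)
    (π : E →* R) {F : R → ℂ} (hF : F ∈ coeffSpan S R) :
    Cfsg.indFun E (fun e => (φ e : ℂ) * F (π e)) ∈ coeffSpan S G := by
  classical
  let L : (R → ℂ) →ₗ[ℂ] (G → ℂ) :=
    { toFun := fun F => Cfsg.indFun E (fun e => (φ e : ℂ) * F (π e))
      map_add' := fun a b => by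
        rw [← indFun_add]
        congr 1
        funext e
        simp [mul_add]
      map_smul' := fun c a => by
        rw [RingHom.id_apply, ← indFun_smul]
        congr 1
        funext e
        simp [mul_left_comm] }
  refine map_mem_coeffSpan L (fun χ => ?_) hF
  exact H25.isCharacter_indFun (H := E) (H26.isCharacter_mul
    (H26.isCharacter_of_irr (H26.isIrrCharacter_hom φ))
    (H26.isCharacter_comp (H26.irr_isCharacter χ) π))

end Span

/-- The algebraic integers as a subring. -/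
noncomputable abbrev intRing : Subring ℂ := (integralClosure ℤ ℂ).toSubring

lemma mem_intRing {z : ℂ} : z ∈ intRing ↔ IsIntegral ℤ z := Iff.rfl

lemma isIntegral_irr {G : Type u} [Group G] [Finite G] (χ : Cfsg.IrrCharacter G) (g : G) :
    IsIntegral ℤ (χ.1 g) := by
  obtain ⟨d, ρ, _, e⟩ := χ.2
  rw [← e]
  exact H25.isIntegral_char ρ g

/-- `n` times the indicator of a class-closed set is in the span when `|R|` divides `n`. -/
lemma indicator_mem_coeffSpan {R : Type u} [Group R] [Fintype R] {n : ℕ} (hn : Nat.card R ∣ n)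
    (P : R → Prop) [DecidablePred P] (hP : ∀ g h, P (h * g * h⁻¹) ↔ P g) :
    (fun r => if P r then (n : ℂ) else 0) ∈ coeffSpan intRing R := by
  obtain ⟨c, rfl⟩ := hn
  refine ⟨fun g h => by simp only [hP], fun χ => ?_⟩
  have : Cfsg.classInner (fun r => if P r then ((Nat.card R * c : ℕ) : ℂ) else 0) χ.1 =
      (c : ℂ) * ∑ r : R, (if P r then χ.1 r⁻¹ else 0) := by
    unfold Cfsg.classInner
    rw [Finset.mul_sum, Finset.mul_sum]
    refine Finset.sum_congr rfl fun r _ => ?_
    have hne : (Nat.card R : ℂ) ≠ 0 := Nat.cast_ne_zero.2 Nat.card_pos.ne'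
    by_cases hr : P r
    · simp only [if_pos hr, H26.irr_inv, Nat.cast_mul]
      field_simp
    · simp [if_neg hr]
  rw [this]
  refine mul_mem (natCast_mem _ c) (sum_mem fun r _ => ?_)
  split_ifs
  · exact mem_intRing.2 (isIntegral_irr χ r⁻¹)
  · exact zero_mem _

open Classical in
/-- The scaled indicator of a section has algebraic integer coordinates. -/
theorem section_mem_coeffSpan {G : Type u} [Group G] [Fintype G] {m n k : ℕ}
    (hmn : Nat.card G = m * n) (hcop : Nat.Coprime m n) (hk0 : m ∣ k) (hk1 : k ≡ 1 [MOD n])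
    (g : G) : (fun x : G => if IsConj (x ^ k) g then (n : ℂ) else 0) ∈ coeffSpan intRing G := by
  have hcl : ∀ a b c : G, IsConj (c * a * c⁻¹) b ↔ IsConj a b := fun a b c => by
    have : IsConj a (c * a * c⁻¹) := isConj_iff.2 ⟨c, rfl⟩
    exact ⟨fun h => this.trans h, fun h => this.symm.trans h⟩
  refine classFun_induction_elementary G _ _ (fun x y => ?_) fun E p φ hp hE => ?_
  · simp only [conj_pow, hcl]
  · have hcard : Nat.card E ∣ m * n := hmn ▸ E.card_subgroup_dvd_card
    obtain ⟨π, hπ⟩ := exists_powHom hp hE hcard hcop hk0 hk1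
    have h1 := indicator_mem_coeffSpan (card_range_powHom_dvd hcard hcop hk0 π hπ)
      (fun r : π.range => IsConj ((r : E) : G) g) (fun a b => hcl ((a : E) : G) g ((b : E) : G))
    have h2 := indFun_pullback_mem E φ π.rangeRestrict h1
    simpa [hπ] using h2

/-- Reading off the coefficients. -/
lemma exists_coeffs_finsum {G : Type u} [Group G] [Fintype G] {S : Subring ℂ} {F : G → ℂ}
    (hF : F ∈ coeffSpan S G) :
    ∃ c : Cfsg.IrrCharacter G → ℂ, (∀ χ, c χ ∈ S) ∧
      F = ∑ᶠ χ : Cfsg.IrrCharacter G, c χ • (χ : G → ℂ) :=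
  ⟨_, hF.2, by rw [finsum_eq_sum_of_fintype]; exact H26.class_function_expansion F hF.1⟩

end Cfsg.Agent.H39
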