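import Mathlib

/-!
# Congruence orbits of symmetric matrices over a finite field of odd order

A non-zero symmetric matrix has at least `(q^n - 1) / 2` congruent ones.
-/

namespace Cfsg.Agent.H39

open Matrix Finset

variable {F : Type*} [Field F] {n : ℕ}

/-- A symmetric matrix which is not zero has an anisotropic vector. -/
lemma exists_quad_ne_zero (h2 : (2 : F) ≠ 0) {T : Matrix (Fin n) (Fin n) F} (hT : T.IsSymm)
    (h0 : T ≠ 0) : ∃ v, v ⬝ᵥ (T *ᵥ v) ≠ 0 := by
  by_contra h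
  push Not at h
  apply h0
  ext i j
  have hv := h (Pi.single i 1 + Pi.single j 1)
  have hii := h (Pi.single i 1)
  have hjj := h (Pi.single j 1)
  simp only [Matrix.mulVec_add, add_dotProduct, dotProduct_add] at hv
  rw [hii, hjj] at hv
  have hji : T j i = T i j := hT.apply i j
  simp only [Matrix.mulVec_single_one, Matrix.col_apply, single_one_dotProduct] at hv
  rw [hji] at hv
  have : (2 : F) * T i j = 0 := by linear_combination hv
  simpa using (mul_eq_zero.1 this).resolve_left h2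

/-- The map `x ↦ x + φ x • u`. -/
def rankOneAdd (φ u : Fin n → F) : Matrix (Fin n) (Fin n) F := 1 + vecMulVec u φ

lemma rankOneAdd_mulVec (φ u x : Fin n → F) : rankOneAdd φ u *ᵥ x = x + (φ ⬝ᵥ x) • u := by
  rw [rankOneAdd, Matrix.add_mulVec, Matrix.one_mulVec, Matrix.vecMulVec_mulVec, op_smul_eq_smul]

lemma isUnit_rankOneAdd (φ u : Fin n → F) (h : 1 + φ ⬝ᵥ u ≠ 0) : IsUnit (rankOneAdd φ u) := by
  rw [← Matrix.mulVec_injective_iff_isUnit]
  intro x y hxy
  simp only [rankOneAdd_mulVec] at hxy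
  have hφ := congrArg (φ ⬝ᵥ ·) hxy
  simp only [dotProduct_add, dotProduct_smul, smul_eq_mul] at hφ
  have : φ ⬝ᵥ x = φ ⬝ᵥ y := by
    apply mul_right_cancel₀ h
    linear_combination hφ
  rw [this] at hxy
  exact add_right_cancel hxy

/-- A vector `φ` pairing non-trivially with two given non-zero vectors. -/
lemma exists_dot_ne_zero_pair {e v : Fin n → F} (he : e ≠ 0) (hv : v ≠ 0) :
    ∃ φ : Fin n → F, φ ⬝ᵥ e ≠ 0 ∧ φ ⬝ᵥ v ≠ 0 := by
  obtain ⟨i, hi⟩ := Function.ne_iff.1 he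
  obtain ⟨j, hj⟩ := Function.ne_iff.1 hv
  by_cases hij : v i = 0
  · by_cases hji : e j = 0
    · exact ⟨Pi.single i 1 + Pi.single j 1, by simpa [add_dotProduct, hji] using hi,
        by simpa [add_dotProduct, hij] using hj⟩
    · exact ⟨Pi.single j 1, by simpa using hji, by simpa using hj⟩
  · exact ⟨Pi.single i 1, by simpa using hi, by simpa using hij⟩

/-- A congruent matrix can send a given vector to a given vector with the right pairing. -/
lemma exists_congr_mulVec {T : Matrix (Fin n) (Fin n) F} {v₀ : Fin n → F} {a : F}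
    (ha : v₀ ⬝ᵥ (T *ᵥ v₀) = a) (ha0 : a ≠ 0) {e y : Fin n → F} (he : e ≠ 0)
    (hy : e ⬝ᵥ y = a) :
    ∃ A : Matrix (Fin n) (Fin n) F, IsUnit A ∧ A *ᵥ e = v₀ ∧ (Aᵀ * T * A) *ᵥ e = y := by
  have hv₀ : v₀ ≠ 0 := by
    rintro rfl
    simp at ha
    exact ha0 ha.symm
  obtain ⟨φ, hφe, hφv⟩ := exists_dot_ne_zero_pair he hv₀
  set A₀ := rankOneAdd ((φ ⬝ᵥ e)⁻¹ • φ) (v₀ - e) with hA₀
  have h1 : ((φ ⬝ᵥ e)⁻¹ • φ) ⬝ᵥ e = 1 := by simp [smul_dotProduct, hφe]
  have hA₀u : IsUnit A₀ := isUnit_rankOneAdd _ _ (by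
    rw [dotProduct_sub, h1, smul_dotProduct, smul_eq_mul, add_sub_cancel]
    exact mul_ne_zero (inv_ne_zero hφe) hφv)
  have hA₀e : A₀ *ᵥ e = v₀ := by rw [hA₀, rankOneAdd_mulVec, h1, one_smul, add_sub_cancel]
  set y₀ := A₀ᵀ *ᵥ (T *ᵥ v₀) with hy₀
  have hey₀ : e ⬝ᵥ y₀ = a := by
    rw [hy₀, Matrix.dotProduct_mulVec, Matrix.vecMul_transpose, hA₀e, ha]
  set B := rankOneAdd (a⁻¹ • (y - y₀)) e with hB
  have h2 : (a⁻¹ • (y - y₀)) ⬝ᵥ e = 0 := by
    rw [smul_dotProduct, sub_dotProduct, dotProduct_comm, dotProduct_comm y₀, hy, hey₀, sub_self,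
      smul_zero]
  have hBu : IsUnit B := isUnit_rankOneAdd _ _ (by rw [h2, add_zero]; exact one_ne_zero)
  have hBe : B *ᵥ e = e := by rw [hB, rankOneAdd_mulVec, h2, zero_smul, add_zero]
  have hAe : (A₀ * B) *ᵥ e = v₀ := by rw [← Matrix.mulVec_mulVec, hBe, hA₀e]
  refine ⟨A₀ * B, hA₀u.mul hBu, hAe, ?_⟩
  rw [← Matrix.mulVec_mulVec, hAe, Matrix.transpose_mul, ← Matrix.mulVec_mulVec,
    ← Matrix.mulVec_mulVec, ← hy₀, hB, rankOneAdd, Matrix.transpose_add, Matrix.transpose_one,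
    Matrix.transpose_vecMulVec, Matrix.add_mulVec, Matrix.one_mulVec, Matrix.vecMulVec_mulVec,
    op_smul_eq_smul, hey₀, smul_smul, mul_inv_cancel₀ ha0, one_smul, add_sub_cancel]

variable [Fintype F] [DecidableEq F]

/-- The congruence class of a matrix. -/
noncomputable def congrOrbit (T : Matrix (Fin n) (Fin n) F) :
    Finset (Matrix (Fin n) (Fin n) F) := by
  classical
  exact (Finset.univ.filter fun A : Matrix (Fin n) (Fin n) F => IsUnit A).image
    fun A => Aᵀ * T * A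

lemma mem_congrOrbit {T T' : Matrix (Fin n) (Fin n) F} :
    T' ∈ congrOrbit T ↔ ∃ A : Matrix (Fin n) (Fin n) F, IsUnit A ∧ Aᵀ * T * A = T' := by
  simp [congrOrbit]

lemma quad_congr (T A : Matrix (Fin n) (Fin n) F) (e : Fin n → F) :
    e ⬝ᵥ ((Aᵀ * T * A) *ᵥ e) = (A *ᵥ e) ⬝ᵥ (T *ᵥ (A *ᵥ e)) := by
  rw [← Matrix.mulVec_mulVec, ← Matrix.mulVec_mulVec, Matrix.dotProduct_mulVec,
    Matrix.vecMul_transpose]

/-- A level set of a quadratic form with an anisotropic vector is small. -/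
lemma card_level_le {T : Matrix (Fin n) (Fin n) F} (hT : T.IsSymm) {v₀ : Fin n → F}
    (h0 : v₀ ⬝ᵥ (T *ᵥ v₀) ≠ 0) (a : F) :
    (univ.filter fun e : Fin n → F => e ⬝ᵥ (T *ᵥ e) = a).card * Fintype.card F ≤
      2 * Fintype.card F ^ n := by
  classical
  set Z := univ.filter fun e : Fin n → F => e ⬝ᵥ (T *ᵥ e) = a with hZ
  have key := Finset.card_le_mul_card_image (f := fun p : (Fin n → F) × F => p.1 + p.2 • v₀)
    (Z ×ˢ (univ : Finset F)) 2 (fun w _ => by
      by_contra hlt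
      push Not at hlt
      obtain ⟨p₁, hp₁, p₂, hp₂, p₃, hp₃, h12, h13, h23⟩ := Finset.two_lt_card.1 hlt
      simp only [mem_filter, mem_product, mem_univ, and_true, true_and, hZ] at hp₁ hp₂ hp₃
      have hne : ∀ {p q : (Fin n → F) × F}, p.1 + p.2 • v₀ = w → q.1 + q.2 • v₀ = w → p ≠ q →
          p.2 ≠ q.2 := by
        intro p q hp hq hpq h
        apply hpq
        refine Prod.ext ?_ h
        rw [h, ← hq] at hp
        exact add_right_cancel hp
      have hval : ∀ {p : (Fin n → F) × F}, p.1 ⬝ᵥ (T *ᵥ p.1) = a →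
          p.1 + p.2 • v₀ = w →
          w ⬝ᵥ (T *ᵥ w) - p.2 * (2 * (v₀ ⬝ᵥ (T *ᵥ w))) + p.2 * p.2 * (v₀ ⬝ᵥ (T *ᵥ v₀)) = a := by
        intro p hp hw
        have hsym : w ⬝ᵥ (T *ᵥ v₀) = v₀ ⬝ᵥ (T *ᵥ w) := by
          rw [Matrix.dotProduct_mulVec, ← Matrix.mulVec_transpose, hT.eq, dotProduct_comm]
        rw [← hp, eq_sub_of_add_eq hw]
        simp only [Matrix.mulVec_sub, Matrix.mulVec_smul, sub_dotProduct, dotProduct_sub,
          smul_dotProduct, dotProduct_smul, smul_eq_mul, hsym]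
        ring
      have e1 := hval hp₁.1 hp₁.2
      have e2 := hval hp₂.1 hp₂.2
      have e3 := hval hp₃.1 hp₃.2
      have a12 : (p₁.2 + p₂.2) * (v₀ ⬝ᵥ (T *ᵥ v₀)) = 2 * (v₀ ⬝ᵥ (T *ᵥ w)) := by
        apply mul_left_cancel₀ (sub_ne_zero.2 (hne hp₁.2 hp₂.2 h12))
        linear_combination e1 - e2
      have a13 : (p₁.2 + p₃.2) * (v₀ ⬝ᵥ (T *ᵥ v₀)) = 2 * (v₀ ⬝ᵥ (T *ᵥ w)) := by
        apply mul_left_cancel₀ (sub_ne_zero.2 (hne hp₁.2 hp₃.2 h13))
        linear_combination e1 - e3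
      exact hne hp₂.2 hp₃.2 h23 (add_left_cancel (mul_right_cancel₀ h0 (a12.trans a13.symm))))
  rw [Finset.card_product, Finset.card_univ] at key
  refine key.trans (Nat.mul_le_mul_left 2 ((Finset.card_le_univ _).trans_eq ?_))
  simp

/-- A non-zero symmetric matrix has at least `(q^n - 1) / 2` congruent ones. -/
theorem le_two_mul_card_congrOrbit (h2 : (2 : F) ≠ 0) {T : Matrix (Fin n) (Fin n) F}
    (hT : T.IsSymm) (h0 : T ≠ 0) :
    Fintype.card F ^ n - 1 ≤ 2 * (congrOrbit T).card := by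
  classical
  obtain ⟨v₀, hv₀⟩ := exists_quad_ne_zero h2 hT h0
  set a := v₀ ⬝ᵥ (T *ᵥ v₀) with ha
  set O := congrOrbit T with hO
  set q := Fintype.card F with hq
  let r : Matrix (Fin n) (Fin n) F → (Fin n → F) → Prop := fun T' e => e ⬝ᵥ (T' *ᵥ e) = a
  have hsum := Finset.sum_card_bipartiteAbove_eq_sum_card_bipartiteBelow r (s := O)
    (t := (univ : Finset (Fin n → F)))
  have hup : ∀ T' ∈ O, (univ.bipartiteAbove r T').card * q ≤ 2 * q ^ n := by
    intro T' hT'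
    obtain ⟨A, hA, rfl⟩ := mem_congrOrbit.1 hT'
    refine le_trans (Nat.mul_le_mul_right q ?_) (card_level_le hT hv₀ a)
    refine Finset.card_le_card_of_injOn (fun e => A *ᵥ e) (fun e he => ?_)
      (Matrix.mulVec_injective_iff_isUnit.2 hA).injOn
    simpa [Finset.bipartiteAbove, r, quad_congr] using he
  have hlow : ∀ e ∈ (univ : Finset (Fin n → F)).erase 0,
      q ^ n ≤ (O.bipartiteBelow r e).card * q := by
    intro e he
    have he0 : e ≠ 0 := (Finset.mem_erase.1 he).1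
    obtain ⟨i, hi⟩ := Function.ne_iff.1 he0
    simp only [Pi.zero_apply] at hi
    let y₁ : Fin n → F := Pi.single i (e i)⁻¹
    have hy₁ : e ⬝ᵥ y₁ = 1 := by simp [y₁, hi]
    have h1 : q ^ n ≤ (univ.filter fun y : Fin n → F => e ⬝ᵥ y = a).card * q := by
      have := Finset.card_le_card_of_injOn
        (fun y : Fin n → F => (y - (e ⬝ᵥ y - a) • y₁, e ⬝ᵥ y))
        (s := (univ : Finset (Fin n → F)))
        (t := (univ.filter fun y : Fin n → F => e ⬝ᵥ y = a) ×ˢ (univ : Finset F))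
        (fun y _ => by simp [dotProduct_sub, dotProduct_smul, hy₁])
        (fun y _ y' _ h => by
          simp only [Prod.mk.injEq] at h
          obtain ⟨h, h'⟩ := h
          rw [h'] at h
          exact sub_left_inj.1 h)
      simpa [q, Finset.card_product] using this
    refine h1.trans (Nat.mul_le_mul_right q ?_)
    refine Finset.card_le_card_of_surjOn (fun T' => T' *ᵥ e) fun y hy => ?_
    simp only [coe_filter, mem_univ, true_and, Set.mem_setOf_eq] at hy
    obtain ⟨A, hA, hAe, hAy⟩ := exists_congr_mulVec ha.symm hv₀ he0 hy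
    refine ⟨Aᵀ * T * A, ?_, hAy⟩
    simp only [Finset.bipartiteBelow, Finset.coe_filter, Set.mem_setOf_eq]
    exact ⟨mem_congrOrbit.2 ⟨A, hA, rfl⟩,
      show e ⬝ᵥ ((Aᵀ * T * A) *ᵥ e) = a by rw [hAy, hy]⟩
  have hA : (∑ T' ∈ O, (univ.bipartiteAbove r T').card) * q ≤ O.card * (2 * q ^ n) := by
    rw [Finset.sum_mul]
    exact (Finset.sum_le_sum hup).trans_eq (by rw [Finset.sum_const, smul_eq_mul])
  have hB : (q ^ n - 1) * q ^ n ≤
      (∑ e ∈ (univ : Finset (Fin n → F)), (O.bipartiteBelow r e).card) * q := by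
    rw [Finset.sum_mul]
    refine le_trans ?_ (Finset.sum_le_sum_of_subset (Finset.erase_subset 0 _))
    refine le_trans (le_of_eq ?_) (Finset.sum_le_sum hlow)
    rw [Finset.sum_const, smul_eq_mul, Finset.card_erase_of_mem (mem_univ _), Finset.card_univ,
      Fintype.card_pi_const]
  have hpos : 0 < q ^ n := Nat.pow_pos Fintype.card_pos
  refine Nat.le_of_mul_le_mul_right ?_ hpos
  calc (q ^ n - 1) * q ^ n ≤ _ := hB
    _ = (∑ T' ∈ O, (univ.bipartiteAbove r T').card) * q := by rw [hsum]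
    _ ≤ O.card * (2 * q ^ n) := hA
    _ = 2 * O.card * q ^ n := by ring

end Cfsg.Agent.H39
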