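import Mathlib
import Cfsg.Agent.H2.Generation
import Cfsg.Agent.H2.Perfect
import Cfsg.Agent.H39.SiegelOrbit

/-!
# Small representations of symplectic groups in odd characteristic are trivial

The unipotent radical of the Siegel parabolic and its Levi complement.
-/

namespace Cfsg.Agent.H39

open Matrix Finset Module

variable {F : Type*} [Field F] {n : ℕ}

/-- Symmetric matrices. -/
def symMat (n : ℕ) (F : Type*) [Field F] : AddSubgroup (Matrix (Fin n) (Fin n) F) where
  carrier := {S | S.IsSymm}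
  add_mem' := fun ha hb => ha.add hb
  zero_mem' := Matrix.isSymm_zero
  neg_mem' := fun ha => ha.neg

/-- The Siegel unipotent element attached to a symmetric matrix. -/
def siegelU (S : symMat n F) : Matrix.symplecticGroup (Fin n) F :=
  ⟨fromBlocks 1 S.1 0 1, by
    rw [SymplecticGroup.fromBlocks_mem_iff]
    have h : S.1.IsSymm := S.2
    simp [h.eq]⟩

lemma siegelU_add (S R : symMat n F) : siegelU (S + R) = siegelU S * siegelU R :=
  Subtype.ext (by simp [siegelU, fromBlocks_multiply, add_comm])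

lemma siegelU_zero : siegelU (0 : symMat n F) = 1 := Subtype.ext (by simp [siegelU])

/-- The Levi element attached to an invertible matrix. -/
noncomputable def siegelM (A : Matrix (Fin n) (Fin n) F) (hA : IsUnit A) :
    Matrix.symplecticGroup (Fin n) F :=
  ⟨fromBlocks A 0 0 (A⁻¹)ᵀ, by
    have h := (Matrix.isUnit_iff_isUnit_det A).1 hA
    rw [SymplecticGroup.fromBlocks_mem_iff]
    refine ⟨by simp, by simp, ?_⟩
    rw [← transpose_mul, nonsing_inv_mul A h]
    simp⟩

lemma siegelU_mul_siegelM {A : Matrix (Fin n) (Fin n) F} (hA : IsUnit A) (S R : symMat n F)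
    (h : A * R.1 * Aᵀ = S.1) : siegelU S * siegelM A hA = siegelM A hA * siegelU R := by
  have hd := (Matrix.isUnit_iff_isUnit_det A).1 hA
  apply Subtype.ext
  simp [siegelU, siegelM, fromBlocks_multiply, ← h, mul_assoc, ← transpose_mul,
    nonsing_inv_mul A hd]

/-- The congruent symmetric matrix. -/
def symCongr (A : Matrix (Fin n) (Fin n) F) (S : symMat n F) : symMat n F :=
  ⟨A * S.1 * Aᵀ, (show (A * S.1 * Aᵀ).IsSymm by
    have h : S.1.IsSymm := S.2
    simp [Matrix.IsSymm, h.eq, mul_assoc])⟩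

variable [Fintype F] [DecidableEq F]

/-- A non-zero symmetric matrix pairs non-trivially with some symmetric matrix. -/
lemma exists_trace_ne_zero (h2 : (2 : F) ≠ 0) {S : symMat n F} (h0 : S ≠ 0) :
    ∃ T : symMat n F, (T.1 * S.1).trace ≠ 0 := by
  have hS : S.1 ≠ 0 := fun h => h0 (Subtype.ext h)
  obtain ⟨v, hv⟩ := exists_quad_ne_zero h2 S.2 hS
  refine ⟨⟨vecMulVec v v, (show (vecMulVec v v).IsSymm by simp [Matrix.IsSymm])⟩, ?_⟩
  show (vecMulVec v v * S.1).trace ≠ 0
  rw [vecMulVec_mul, trace_vecMulVec, dotProduct_comm, ← Matrix.mulVec_transpose,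
    (show S.1.IsSymm from S.2).eq]
  rwa [dotProduct_comm] at hv

/-- The character of the symmetric matrices attached to a matrix. -/
noncomputable def symChar (ψ : AddChar F ℂ) (T : Matrix (Fin n) (Fin n) F) :
    AddChar (symMat n F) ℂ :=
  ψ.compAddMonoidHom (AddMonoidHom.mk' (fun S : symMat n F => (T * S.1).trace)
    fun a b => by simp [mul_add])

@[simp] lemma symChar_apply (ψ : AddChar F ℂ) (T : Matrix (Fin n) (Fin n) F) (S : symMat n F) :
    symChar ψ T S = ψ (T * S.1).trace := rfl

lemma symChar_ne_one (h2 : (2 : F) ≠ 0) {ψ : AddChar F ℂ} (hψ : ψ ≠ 1) {T : symMat n F}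
    (hT : T ≠ 0) : symChar ψ T.1 ≠ 1 := by
  obtain ⟨c, hc⟩ := AddChar.ne_one_iff.1 hψ
  obtain ⟨S, hS⟩ := exists_trace_ne_zero h2 hT
  rw [AddChar.ne_one_iff]
  refine ⟨⟨(c / (S.1 * T.1).trace) • S.1, (show (_ • S.1).IsSymm from Matrix.IsSymm.smul S.2 _)⟩,
    ?_⟩
  simp only [symChar_apply, Matrix.mul_smul, trace_smul, smul_eq_mul,
    Matrix.trace_mul_comm T.1 S.1, div_mul_cancel₀ c hS]
  exact hc

variable {V : Type*} [AddCommGroup V] [Module ℂ V]

/-- The simultaneous eigenvectors for the character attached to `T`. -/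
def SiegelEigen (ρ : Representation ℂ (Matrix.symplecticGroup (Fin n) F) V) (ψ : AddChar F ℂ)
    (T : Matrix (Fin n) (Fin n) F) (v : V) : Prop :=
  ∀ S : symMat n F, ρ (siegelU S) v = symChar ψ T S • v

/-- Either the unipotent radical acts trivially or some non-trivial character occurs. -/
lemma exists_eigen_or_trivial (h2 : (2 : F) ≠ 0) {ψ : AddChar F ℂ} (hψ : ψ ≠ 1)
    (ρ : Representation ℂ (Matrix.symplecticGroup (Fin n) F) V) :
    (∀ S, ρ (siegelU S) = 1) ∨ ∃ T : symMat n F, T ≠ 0 ∧ ∃ v, v ≠ 0 ∧ SiegelEigen ρ ψ T.1 v := by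
  classical
  haveI : Fintype (symMat n F) := Fintype.ofFinite _
  set K : symMat n F → Module.End ℂ V := fun T =>
    ∑ S, symChar ψ T.1 (-S) • ρ (siegelU S) with hK
  have hKmul : ∀ T R, ρ (siegelU R) * K T = symChar ψ T.1 R • K T := by
    intro T R
    simp only [hK, Finset.mul_sum, Finset.smul_sum]
    refine Fintype.sum_equiv (Equiv.addLeft R) _ _ fun S => ?_
    rw [mul_smul_comm, ← map_mul, ← siegelU_add, smul_smul, Equiv.coe_addLeft,
      ← AddChar.map_add_eq_mul]
    congr 2
    simp [neg_add_rev, add_left_comm]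
  by_cases hall : ∀ T ≠ 0, K T = 0
  · left
    have hsum : ∑ T, K T = (Fintype.card (symMat n F) : ℂ) • (1 : Module.End ℂ V) := by
      simp only [hK]
      rw [Finset.sum_comm]
      simp only [← Finset.sum_smul]
      rw [Finset.sum_eq_single 0]
      · simp [siegelU_zero]
      · intro S _ hS
        have hne : symChar ψ (-S : symMat n F).1 ≠ 1 := symChar_ne_one h2 hψ (neg_ne_zero.2 hS)
        have := AddChar.sum_eq_zero_of_ne_one hne
        rw [show ∑ T : symMat n F, symChar ψ T.1 (-S) = 0 by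
          rw [← this]
          exact Finset.sum_congr rfl fun T _ => by
            simp only [symChar_apply]
            rw [Matrix.trace_mul_comm], zero_smul]
      · simp
    rw [Finset.sum_eq_single 0 (fun T _ hT => hall T hT) (by simp)] at hsum
    intro R
    have h := hKmul 0 R
    rw [hsum] at h
    simp only [symChar_apply, ZeroMemClass.coe_zero, zero_mul, trace_zero,
      AddChar.map_zero_eq_one, one_smul] at h
    rw [mul_smul_comm, mul_one] at h
    exact smul_right_injective (Module.End ℂ V)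
      (Nat.cast_ne_zero.2 Fintype.card_ne_zero : (Fintype.card (symMat n F) : ℂ) ≠ 0) h
  · right
    push Not at hall
    obtain ⟨T, hT, hKT⟩ := hall
    obtain ⟨x, hx⟩ : ∃ x, K T x ≠ 0 := by
      by_contra hc
      push Not at hc
      exact hKT (LinearMap.ext hc)
    refine ⟨T, hT, K T x, hx, fun R => ?_⟩
    have := LinearMap.congr_fun (hKmul T R) x
    simpa using this

lemma SiegelEigen.congr {ρ : Representation ℂ (Matrix.symplecticGroup (Fin n) F) V}
    {ψ : AddChar F ℂ} {T A : Matrix (Fin n) (Fin n) F} (hA : IsUnit A) {v : V}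
    (hv : SiegelEigen ρ ψ T v) :
    ∀ w, w = ρ (siegelM A⁻¹ (Matrix.isUnit_nonsing_inv_iff.2 hA)) v →
      SiegelEigen ρ ψ (Aᵀ * T * A) w := by
  rintro w rfl S
  have hd := (Matrix.isUnit_iff_isUnit_det A).1 hA
  have hcomm := siegelU_mul_siegelM (Matrix.isUnit_nonsing_inv_iff.2 hA) S (symCongr A S) (by
    simp only [symCongr, ← mul_assoc, nonsing_inv_mul A hd, one_mul]
    rw [mul_assoc, ← transpose_mul, nonsing_inv_mul A hd, transpose_one, mul_one])
  rw [← Module.End.mul_apply, ← map_mul, hcomm, map_mul, Module.End.mul_apply, hv, map_smul]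
  congr 1
  simp only [symChar_apply, symCongr]
  rw [mul_assoc Aᵀ T A, mul_assoc Aᵀ (T * A), Matrix.trace_mul_comm Aᵀ]
  simp only [mul_assoc]

lemma card_congrOrbit_le [FiniteDimensional ℂ V] (h2 : (2 : F) ≠ 0) {ψ : AddChar F ℂ}
    (hψ : ψ ≠ 1) (ρ : Representation ℂ (Matrix.symplecticGroup (Fin n) F) V) {T : symMat n F}
    {v : V} (hv : v ≠ 0) (hE : SiegelEigen ρ ψ T.1 v) :
    (congrOrbit T.1).card ≤ finrank ℂ V := by
  classical
  haveI : Fintype (symMat n F) := Fintype.ofFinite _
  have hex : ∀ T' : congrOrbit T.1, ∃ w, w ≠ 0 ∧ SiegelEigen ρ ψ T'.1 w := by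
    rintro ⟨T', hT'⟩
    obtain ⟨A, hA, rfl⟩ := mem_congrOrbit.1 hT'
    refine ⟨_, ?_, hE.congr hA _ rfl⟩
    intro h0
    apply hv
    have := congrArg (ρ (siegelM A⁻¹ (Matrix.isUnit_nonsing_inv_iff.2 hA))⁻¹) h0
    rwa [Representation.inv_self_apply, map_zero] at this
  choose w hw0 hwE using hex
  have hsym : ∀ T' : congrOrbit T.1, T'.1.IsSymm := by
    rintro ⟨T', hT'⟩
    obtain ⟨A, hA, rfl⟩ := mem_congrOrbit.1 hT'
    simp [Matrix.IsSymm, (show T.1.IsSymm from T.2).eq, mul_assoc]
  have hli : LinearIndependent ℂ w := by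
    rw [Fintype.linearIndependent_iff]
    intro g hg i
    have h := congrArg
      ⇑(∑ S : symMat n F, symChar ψ i.1 (-S) • ρ (siegelU S) : Module.End ℂ V) hg
    rw [map_sum, map_zero] at h
    simp only [map_smul, LinearMap.sum_apply, LinearMap.smul_apply, hwE _ _, smul_smul,
      ← Finset.sum_smul] at h
    rw [Finset.sum_eq_single i] at h
    · have hone : ∀ S : symMat n F, symChar ψ i.1 (-S) * symChar ψ i.1 S = 1 := fun S => by
        rw [← AddChar.map_add_eq_mul, neg_add_cancel, AddChar.map_zero_eq_one]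
      simp only [hone] at h
      simp [hw0, Fintype.card_ne_zero] at h
      exact h
    · intro j _ hji
      have hne : symChar ψ ((⟨j.1, hsym j⟩ : symMat n F) - ⟨i.1, hsym i⟩).1 ≠ 1 :=
        symChar_ne_one h2 hψ (sub_ne_zero.2 fun e => hji (Subtype.ext (congrArg
          (fun t : symMat n F => t.1) e)))
      have hz : ∑ S : symMat n F, symChar ψ i.1 (-S) * symChar ψ j.1 S = 0 := by
        rw [← AddChar.sum_eq_zero_of_ne_one hne]
        refine Finset.sum_congr rfl fun S _ => ?_
        simp only [symChar_apply, ← AddChar.map_add_eq_mul]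
        congr 1
        simp [sub_mul]
        ring
      rw [hz, mul_zero, zero_smul]
    · simp
  simpa using hli.fintype_card_le_finrank

/-- A symplectic representation of dimension below `(q^n - 1) / 2` is trivial. -/
theorem sp_rep_trivial_of_finrank_lt [FiniteDimensional ℂ V] (hn : 1 ≤ n) (h2 : (2 : F) ≠ 0)
    (ρ : Representation ℂ (Matrix.symplecticGroup (Fin n) F) V)
    (hV : finrank ℂ V < (Fintype.card F ^ n - 1) / 2) : ∀ g, ρ g = 1 := by
  classical
  obtain ⟨ψ, hψ⟩ := (AddChar.exists_apply_ne_zero (a := (1 : F))).2 one_ne_zero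
  have hψ1 : ψ ≠ 1 := AddChar.ne_one_iff.2 ⟨1, hψ⟩
  rcases exists_eigen_or_trivial h2 hψ1 ρ with h | ⟨T, hT, v, hv, hE⟩
  · have htop : ρ.ker = ⊤ := by
      refine H2.eq_top_of_transv_mem _ fun x c hx => ?_
      set e : Fin n ⊕ Fin n → F := Pi.single (.inl ⟨0, hn⟩) 1 with he
      have he0 : e ≠ 0 := fun h0 => by simpa [he] using congrFun h0 (.inl ⟨0, hn⟩)
      obtain ⟨g, hg⟩ := H2.exists_map_vec he0 hx
      have hmem : H2.transv e c ∈ ρ.ker := by
        rw [MonoidHom.mem_ker]
        have : H2.transv e c =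
            siegelU ⟨c • vecMulVec (Pi.single ⟨0, hn⟩ (1 : F)) (Pi.single ⟨0, hn⟩ (1 : F)),
              (show (_ • _ : Matrix (Fin n) (Fin n) F).IsSymm by simp [Matrix.IsSymm])⟩ := by
          refine H2.ext_of_mulVec fun y => ?_
          simp only [H2.coe_transv, H2.sympTransvection_mulVec, siegelU]
          rw [H2.sympForm_swap, he, H2.sympForm_single_inl, neg_neg, Matrix.fromBlocks_mulVec]
          funext j
          rcases j with j | j <;> by_cases hj : j = ⟨0, hn⟩ <;>
            simp [Matrix.smul_mulVec, Matrix.vecMulVec_mulVec, hj, Function.comp_def]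
        rw [this]
        exact h _
      have := (inferInstance : ρ.ker.Normal).conj_mem _ hmem g
      rwa [H2.conj_transv, hg] at this
    intro g
    exact MonoidHom.mem_ker.1 (htop ▸ Subgroup.mem_top g)
  · exfalso
    have h1 := card_congrOrbit_le h2 hψ1 ρ hv hE
    have h3 := le_two_mul_card_congrOrbit h2 T.2 (fun e => hT (Subtype.ext e))
    omega

end Cfsg.Agent.H39
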