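import Mathlib
import Cfsg.Agent.H2.Form

/-!
# The Weyl operators on functions on `F^n` and their intertwiners

For `q` odd the operators `wOp ψ v` give the Schrödinger representation of the Heisenberg group
without naming the group itself.
-/

namespace Cfsg.Agent.H39

open Matrix Finset Module

variable {F : Type*} [Field F] {n : ℕ}

/-- The Weyl operator attached to a vector. -/
def wOp (ψ : AddChar F ℂ) (v : Fin n ⊕ Fin n → F) : Module.End ℂ ((Fin n → F) → ℂ) where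
  toFun f x := ψ ((v ∘ Sum.inr) ⬝ᵥ x + 2⁻¹ * ((v ∘ Sum.inl) ⬝ᵥ (v ∘ Sum.inr))) *
    f (x + v ∘ Sum.inl)
  map_add' f g := by
    funext x
    simp [mul_add]
  map_smul' c f := by
    funext x
    simp [mul_left_comm]

lemma wOp_apply (ψ : AddChar F ℂ) (v : Fin n ⊕ Fin n → F) (f : (Fin n → F) → ℂ) (x : Fin n → F) :
    wOp ψ v f x = ψ ((v ∘ Sum.inr) ⬝ᵥ x + 2⁻¹ * ((v ∘ Sum.inl) ⬝ᵥ (v ∘ Sum.inr))) *
      f (x + v ∘ Sum.inl) := rfl

lemma sympForm_eq_dot (u v : Fin n ⊕ Fin n → F) :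
    Cfsg.sympForm n F u v =
      (u ∘ Sum.inr) ⬝ᵥ (v ∘ Sum.inl) - (u ∘ Sum.inl) ⬝ᵥ (v ∘ Sum.inr) := by
  simp [H2.sympForm_apply, dotProduct, Finset.sum_sub_distrib]

lemma wOp_zero (ψ : AddChar F ℂ) : wOp (n := n) ψ 0 = 1 := by
  refine LinearMap.ext fun f => funext fun x => ?_
  simp [wOp_apply]

lemma wOp_mul (h2 : (2 : F) ≠ 0) (ψ : AddChar F ℂ) (v w : Fin n ⊕ Fin n → F) :
    wOp ψ v * wOp ψ w = ψ (2⁻¹ * Cfsg.sympForm n F w v) • wOp ψ (v + w) := by
  refine LinearMap.ext fun f => funext fun x => ?_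
  simp only [Module.End.mul_apply, LinearMap.smul_apply, Pi.smul_apply, smul_eq_mul, wOp_apply]
  rw [← mul_assoc, ← mul_assoc, ← AddChar.map_add_eq_mul, ← AddChar.map_add_eq_mul, Pi.add_comp,
    Pi.add_comp, ← add_assoc]
  congr 2
  · simp only [sympForm_eq_dot, add_dotProduct, dotProduct_add]
    rw [dotProduct_comm (w ∘ Sum.inr) (v ∘ Sum.inl)]
    have := inv_mul_cancel₀ h2
    linear_combination (-((v ∘ Sum.inl) ⬝ᵥ (w ∘ Sum.inr))) * this
  · rw [add_assoc]

variable [Fintype F] [DecidableEq F]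

/-- Sums of a non-trivial additive character against a linear functional. -/
lemma sum_char_dot {ψ : AddChar F ℂ} (hψ : ψ ≠ 1) (x : Fin n → F) :
    ∑ b : Fin n → F, ψ (b ⬝ᵥ x) = if x = 0 then (Fintype.card F : ℂ) ^ n else 0 := by
  split_ifs with hx
  · simp [hx]
  · set φ : AddChar (Fin n → F) ℂ := ψ.compAddMonoidHom
      (AddMonoidHom.mk' (fun b : Fin n → F => b ⬝ᵥ x) fun a b => add_dotProduct a b x) with hφ
    have hne : φ ≠ 1 := by
      obtain ⟨c, hc⟩ := AddChar.ne_one_iff.1 hψ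
      obtain ⟨i, hi⟩ := Function.ne_iff.1 hx
      refine AddChar.ne_one_iff.2 ⟨Pi.single i (c / x i), ?_⟩
      show ψ (Pi.single i (c / x i) ⬝ᵥ x) ≠ 1
      rwa [single_dotProduct, div_mul_cancel₀ c hi]
    exact AddChar.sum_eq_zero_of_ne_one hne

lemma wOp_single_inr (ψ : AddChar F ℂ) (b x : Fin n → F) :
    wOp ψ (Sum.elim 0 b) (Pi.single x 1) = ψ (b ⬝ᵥ x) • Pi.single x 1 := by
  funext y
  by_cases h : y = x <;> simp [wOp_apply, h]

lemma wOp_single_inl (ψ : AddChar F ℂ) (a x : Fin n → F) :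
    wOp ψ (Sum.elim a 0) (Pi.single x 1) = Pi.single (x - a) 1 := by
  funext y
  by_cases h : y = x - a
  · subst h
    simp [wOp_apply]
  · simp [wOp_apply, h, ← eq_sub_iff_add_eq]

lemma trace_eq_sum_single (T : Module.End ℂ ((Fin n → F) → ℂ)) :
    LinearMap.trace ℂ _ T = ∑ x, T (Pi.single x 1) x := by
  rw [LinearMap.trace_eq_matrix_trace ℂ (Pi.basisFun ℂ (Fin n → F)) T]
  simp [Matrix.trace, LinearMap.toMatrix_apply]

lemma trace_wOp {ψ : AddChar F ℂ} (hψ : ψ ≠ 1) (v : Fin n ⊕ Fin n → F) :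
    LinearMap.trace ℂ _ (wOp ψ v) = if v = 0 then (Fintype.card F : ℂ) ^ n else 0 := by
  rw [trace_eq_sum_single]
  split_ifs with hv
  · simp [hv, wOp_zero]
  · simp only [wOp_apply]
    by_cases ha : v ∘ Sum.inl = 0
    · have hb : v ∘ Sum.inr ≠ 0 := fun hb => hv (funext fun i => by
        rcases i with i | i
        · exact congrFun ha i
        · exact congrFun hb i)
      simp only [ha, add_zero, zero_dotProduct, mul_zero, Pi.single_eq_same, mul_one]
      have := sum_char_dot hψ (v ∘ Sum.inr)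
      rw [if_neg hb] at this
      rw [← this]
      exact Finset.sum_congr rfl fun x _ => by rw [dotProduct_comm]
    · exact Finset.sum_eq_zero fun x _ => by
        rw [Pi.single_eq_of_ne (fun h => ha (add_eq_left.1 h)), mul_zero]

/-- A submodule stable under all Weyl operators is zero or everything. -/
lemma eq_top_of_wOp_invariant {ψ : AddChar F ℂ} (hψ : ψ ≠ 1)
    (U : Submodule ℂ ((Fin n → F) → ℂ)) (hU : ∀ v, ∀ f ∈ U, wOp ψ v f ∈ U) (h0 : U ≠ ⊥) :
    U = ⊤ := by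
  obtain ⟨f, hf, hf0⟩ := U.ne_bot_iff.1 h0
  obtain ⟨x₀, hx₀⟩ := Function.ne_iff.1 hf0
  simp only [Pi.zero_apply] at hx₀
  have hq : ((Fintype.card F : ℂ) ^ n) ≠ 0 := pow_ne_zero _ (by simp)
  have hδ : Pi.single x₀ (1 : ℂ) ∈ U := by
    have hsum : ∑ b : Fin n → F, ψ (-(b ⬝ᵥ x₀)) • wOp ψ (Sum.elim 0 b) f =
        ((Fintype.card F : ℂ) ^ n * f x₀) • Pi.single x₀ (1 : ℂ) := by
      funext x
      simp only [Finset.sum_apply, Pi.smul_apply, smul_eq_mul, wOp_apply, Sum.elim_comp_inr,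
        Sum.elim_comp_inl, zero_dotProduct, mul_zero, add_zero, ← mul_assoc,
        ← AddChar.map_add_eq_mul, ← Finset.sum_mul]
      have : ∀ b : Fin n → F, -(b ⬝ᵥ x₀) + b ⬝ᵥ x = b ⬝ᵥ (x - x₀) := fun b => by
        rw [dotProduct_sub]; ring
      simp only [this, sum_char_dot hψ, sub_eq_zero]
      by_cases h : x = x₀ <;> simp [h]
    have := hsum ▸ U.sum_mem fun b _ => U.smul_mem _ (hU _ f hf)
    exact (U.smul_mem_iff (mul_ne_zero hq hx₀)).1 this
  rw [eq_top_iff, ← (Pi.basisFun ℂ (Fin n → F)).span_eq, Submodule.span_le]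
  rintro _ ⟨x, rfl⟩
  have := hU (Sum.elim (x₀ - x) 0) _ hδ
  rw [wOp_single_inl, sub_sub_cancel] at this
  simpa using this

/-- Only scalars commute with all Weyl operators. -/
lemma exists_smul_one_of_comm {ψ : AddChar F ℂ} (hψ : ψ ≠ 1)
    (T : Module.End ℂ ((Fin n → F) → ℂ)) (hT : ∀ v, T * wOp ψ v = wOp ψ v * T) :
    ∃ c : ℂ, T = c • 1 := by
  haveI : Nontrivial ((Fin n → F) → ℂ) := inferInstance
  obtain ⟨c, hc⟩ := Module.End.exists_eigenvalue T
  refine ⟨c, LinearMap.ext fun f => ?_⟩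
  have htop : Module.End.eigenspace T c = ⊤ := by
    refine eq_top_of_wOp_invariant hψ _ (fun v g hg => ?_) hc
    rw [Module.End.mem_eigenspace_iff] at hg ⊢
    rw [← Module.End.mul_apply, hT, Module.End.mul_apply, hg, map_smul]
  have : f ∈ Module.End.eigenspace T c := htop ▸ Submodule.mem_top
  simpa using Module.End.mem_eigenspace_iff.1 this

/-- `T` carries the Weyl operator of `v` to that of `g v`. -/
def IsInter (ψ : AddChar F ℂ) (g : Matrix.symplecticGroup (Fin n) F)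
    (T : Module.End ℂ ((Fin n → F) → ℂ)) : Prop :=
  ∀ v, T * wOp ψ v = wOp ψ ((g : Matrix (Fin n ⊕ Fin n) (Fin n ⊕ Fin n) F) *ᵥ v) * T

omit [Fintype F] [DecidableEq F] in
lemma IsInter.one (ψ : AddChar F ℂ) : IsInter (n := n) ψ 1 1 := fun v => by simp

omit [Fintype F] [DecidableEq F] in
lemma IsInter.mul {ψ : AddChar F ℂ} {g h : Matrix.symplecticGroup (Fin n) F}
    {T T' : Module.End ℂ ((Fin n → F) → ℂ)} (hT : IsInter ψ g T) (hT' : IsInter ψ h T') :
    IsInter ψ (g * h) (T * T') := fun v => by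
  rw [mul_assoc, hT', ← mul_assoc, hT, mul_assoc, Submonoid.coe_mul, Matrix.mulVec_mulVec]

omit [Fintype F] [DecidableEq F] in
lemma IsInter.smul {ψ : AddChar F ℂ} {g : Matrix.symplecticGroup (Fin n) F}
    {T : Module.End ℂ ((Fin n → F) → ℂ)} (hT : IsInter ψ g T) (c : ℂ) :
    IsInter ψ g (c • T) := fun v => by rw [smul_mul_assoc, hT, mul_smul_comm]

/-- Two intertwiners over one element are proportional. -/
lemma IsInter.exists_eq_smul {ψ : AddChar F ℂ} (hψ : ψ ≠ 1)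
    {g : Matrix.symplecticGroup (Fin n) F} {T T' : Module.End ℂ ((Fin n → F) → ℂ)}
    (hT : IsInter ψ g T) (hu : IsUnit T) (hT' : IsInter ψ g T') : ∃ c : ℂ, T' = c • T := by
  obtain ⟨u, rfl⟩ := hu
  obtain ⟨c, hc⟩ := exists_smul_one_of_comm hψ ((↑u⁻¹ : Module.End ℂ _) * T') fun v => by
    rw [mul_assoc, hT', ← mul_assoc, ← mul_assoc]
    congr 1
    rw [Units.eq_mul_inv_iff_mul_eq, mul_assoc, ← hT v, Units.inv_mul_cancel_left]
  exact ⟨c, by rw [← u.mul_inv_cancel_left T', hc, mul_smul_comm, mul_one]⟩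

/-- Every symplectic element has an invertible intertwiner. -/
lemma exists_isInter (h2 : (2 : F) ≠ 0) {ψ : AddChar F ℂ} (hψ : ψ ≠ 1)
    (g : Matrix.symplecticGroup (Fin n) F) :
    ∃ T, IsInter ψ g T ∧ IsUnit T := by
  classical
  set gm := (g : Matrix (Fin n ⊕ Fin n) (Fin n ⊕ Fin n) F) with hgm
  set S : (Fin n → F) → Module.End ℂ ((Fin n → F) → ℂ) := fun x =>
    ∑ v : Fin n ⊕ Fin n → F, wOp ψ (gm *ᵥ v) *
      (LinearMap.proj 0).smulRight (Pi.single x (1 : ℂ)) * wOp ψ (-v) with hS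
  have hint : ∀ x, IsInter ψ g (S x) := by
    intro x u
    simp only [hS, Finset.sum_mul, Finset.mul_sum]
    refine Fintype.sum_equiv (Equiv.subRight u) _ _ fun v => ?_
    simp only [Equiv.subRight_apply, ← hgm]
    rw [mul_assoc (wOp ψ (gm *ᵥ v) * _), wOp_mul h2, ← mul_assoc, ← mul_assoc, wOp_mul h2,
      mul_smul_comm, smul_mul_assoc, smul_mul_assoc, hgm, H2.sympForm_mulVec, ← hgm,
      ← Matrix.mulVec_add, add_sub_cancel, neg_sub, neg_add_eq_sub]
    congr 2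
    simp only [sympForm_eq_dot, Pi.sub_comp, dotProduct_sub, sub_dotProduct, dotProduct_neg,
      show (-v) ∘ Sum.inl = -(v ∘ Sum.inl) from rfl, show (-v) ∘ Sum.inr = -(v ∘ Sum.inr) from rfl]
    rw [dotProduct_comm (u ∘ Sum.inr) (v ∘ Sum.inl), dotProduct_comm (v ∘ Sum.inr) (u ∘ Sum.inl),
      dotProduct_comm (u ∘ Sum.inr) (u ∘ Sum.inl)]
    ring
  have hne : ∃ x, S x ≠ 0 := by
    by_contra hc
    push Not at hc
    have h1 : ∑ x, S x (Pi.single 0 1) x = 0 := by simp [hc]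
    apply pow_ne_zero n (show (Fintype.card F : ℂ) ≠ 0 by simp)
    rw [← h1]
    simp only [hS, LinearMap.sum_apply, Finset.sum_apply, Module.End.mul_apply,
      LinearMap.smulRight_apply, LinearMap.proj_apply, map_smul, Pi.smul_apply, smul_eq_mul]
    rw [Finset.sum_comm]
    simp only [← Finset.mul_sum, ← trace_eq_sum_single, trace_wOp hψ]
    have hg0 : ∀ v, gm *ᵥ v = 0 ↔ v = 0 := fun v =>
      ⟨fun h => H2.sympForm_eq_zero_forall fun w => by
        rw [← H2.sympForm_mulVec g, ← hgm, h, H2.sympForm_apply]; simp,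
       fun h => by simp [h]⟩
    simp [hg0, wOp_zero]
  obtain ⟨x, hx⟩ := hne
  refine ⟨S x, hint x, ?_⟩
  rw [LinearMap.isUnit_iff_ker_eq_bot]
  by_contra hk
  apply hx
  have := eq_top_of_wOp_invariant hψ _ (fun v f hf => ?_) hk
  · exact LinearMap.ker_eq_top.1 this
  · rw [LinearMap.mem_ker] at hf ⊢
    rw [← Module.End.mul_apply, hint x v, Module.End.mul_apply, hf, map_zero]

end Cfsg.Agent.H39
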