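import Mathlib
import Cfsg.Agent.H39.WeilOp
import Cfsg.Agent.H39.SpLowerDeg

/-!
# The Weil representation on odd functions

An intertwiner is normalised by asking that its determinants on even and odd functions agree.
This makes it unique, so the normalised intertwiners form an ordinary representation.
-/

namespace Cfsg.Agent.H39

open Matrix Finset Module

variable {F : Type*} [Field F] {n : ℕ}

/-- Precomposition with negation. -/
def negOp (F : Type*) [Field F] (n : ℕ) : Module.End ℂ ((Fin n → F) → ℂ) where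
  toFun f x := f (-x)
  map_add' _ _ := rfl
  map_smul' _ _ := rfl

@[simp] lemma negOp_apply (f : (Fin n → F) → ℂ) (x : Fin n → F) : negOp F n f x = f (-x) := rfl

lemma negOp_mul_self : negOp F n * negOp F n = 1 :=
  LinearMap.ext fun f => funext fun x => by simp

lemma negOp_mul_wOp (ψ : AddChar F ℂ) (v : Fin n ⊕ Fin n → F) :
    negOp F n * wOp ψ v = wOp ψ (-v) * negOp F n := by
  refine LinearMap.ext fun f => funext fun x => ?_
  simp only [Module.End.mul_apply, negOp_apply, wOp_apply,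
    show (-v) ∘ Sum.inl = -(v ∘ Sum.inl) from rfl, show (-v) ∘ Sum.inr = -(v ∘ Sum.inr) from rfl]
  simp [add_comm]

/-- Functions `f` with `f (-x) = s f x`. -/
def parSub (F : Type*) [Field F] (n : ℕ) (s : ℂ) : Submodule ℂ ((Fin n → F) → ℂ) :=
  LinearMap.ker (negOp F n - s • 1)

lemma mem_parSub {s : ℂ} {f : (Fin n → F) → ℂ} :
    f ∈ parSub F n s ↔ negOp F n f = s • f := by
  simp [parSub, sub_eq_zero]

/-- The projection to functions of parity `s`. -/
noncomputable def parProj (F : Type*) [Field F] (n : ℕ) (s : ℂ) :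
    Module.End ℂ ((Fin n → F) → ℂ) :=
  (2⁻¹ : ℂ) • (1 + s • negOp F n)

lemma isProj_parProj {s : ℂ} (hs : s * s = 1) :
    LinearMap.IsProj (parSub F n s) (parProj F n s) := by
  refine ⟨fun f => mem_parSub.2 ?_, fun f hf => ?_⟩
  · funext x
    simp [parProj]
    linear_combination (-(2⁻¹ : ℂ) * f (-x)) * hs
  · funext x
    have := congrFun (mem_parSub.1 hf) x
    simp only [negOp_apply, Pi.smul_apply, smul_eq_mul] at this
    simp [parProj, this]
    linear_combination ((2⁻¹ : ℂ) * f x) * hs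

variable [Fintype F] [DecidableEq F]

lemma trace_negOp (h2 : (2 : F) ≠ 0) :
    LinearMap.trace ℂ _ (negOp F n) = 1 := by
  rw [trace_eq_sum_single, Finset.sum_eq_single 0]
  · simp
  · intro x _ hx
    rw [negOp_apply, Pi.single_eq_of_ne]
    intro h
    apply hx
    funext i
    have := congrFun h i
    simp only [Pi.neg_apply] at this
    have h3 : (2 : F) * x i = 0 := by linear_combination -this
    simpa using (mul_eq_zero.1 h3).resolve_left h2
  · simp

lemma finrank_parSub (h2 : (2 : F) ≠ 0) {s : ℂ} (hs : s * s = 1) :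
    (finrank ℂ (parSub F n s) : ℂ) = ((Fintype.card F : ℂ) ^ n + s) / 2 := by
  rw [← (isProj_parProj hs).trace, parProj, map_smul, map_add, map_smul, trace_negOp h2,
    LinearMap.trace_one, finrank_fintype_fun_eq_card, Fintype.card_pi_const]
  simp only [smul_eq_mul, Nat.cast_pow]
  ring

lemma finrank_odd (h2 : (2 : F) ≠ 0) :
    2 * finrank ℂ (parSub F n (-1)) + 1 = Fintype.card F ^ n ∧
      finrank ℂ (parSub F n 1) = finrank ℂ (parSub F n (-1)) + 1 := by
  have h1 := finrank_parSub (n := n) h2 (s := (-1 : ℂ)) (by ring)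
  have h3 := finrank_parSub (n := n) h2 (s := (1 : ℂ)) (by ring)
  constructor <;> rw [← Nat.cast_inj (R := ℂ)] <;> push_cast <;> rw [h1]
  · ring
  · rw [h3]; ring

omit [Fintype F] [DecidableEq F] in
lemma mem_parSub_of_comm {s : ℂ} {T : Module.End ℂ ((Fin n → F) → ℂ)}
    (hT : Commute T (negOp F n)) {f : (Fin n → F) → ℂ} (hf : f ∈ parSub F n s) :
    T f ∈ parSub F n s := by
  rw [mem_parSub] at hf ⊢
  rw [← Module.End.mul_apply, ← hT.eq, Module.End.mul_apply, hf, map_smul]

/-- The compression of an operator to functions of parity `s`. -/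
noncomputable def parRes {s : ℂ} (hs : s * s = 1) (T : Module.End ℂ ((Fin n → F) → ℂ)) :
    Module.End ℂ (parSub F n s) :=
  (isProj_parProj hs).codRestrict ∘ₗ T ∘ₗ (parSub F n s).subtype

omit [Fintype F] [DecidableEq F] in
lemma coe_parRes {s : ℂ} (hs : s * s = 1) {T : Module.End ℂ ((Fin n → F) → ℂ)}
    (hT : Commute T (negOp F n)) (f : parSub F n s) :
    (parRes hs T f : (Fin n → F) → ℂ) = T f := by
  simpa [parRes] using (isProj_parProj hs).map_id _ (mem_parSub_of_comm hT f.2)

omit [Fintype F] [DecidableEq F] in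
lemma parRes_one {s : ℂ} (hs : s * s = 1) : parRes (F := F) (n := n) hs 1 = 1 :=
  LinearMap.ext fun f => Subtype.ext (by simp [coe_parRes hs (Commute.one_left _)])

omit [Fintype F] [DecidableEq F] in
lemma parRes_mul {s : ℂ} (hs : s * s = 1) {T T' : Module.End ℂ ((Fin n → F) → ℂ)}
    (hT : Commute T (negOp F n)) (hT' : Commute T' (negOp F n)) :
    parRes hs (T * T') = parRes hs T * parRes hs T' :=
  LinearMap.ext fun f => Subtype.ext (by
    simp [coe_parRes hs (hT.mul_left hT'), coe_parRes hs hT, coe_parRes hs hT'])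

omit [Fintype F] [DecidableEq F] in
lemma parRes_smul {s : ℂ} (hs : s * s = 1) (c : ℂ) (T : Module.End ℂ ((Fin n → F) → ℂ)) :
    parRes hs (c • T) = c • parRes hs T := by
  simp [parRes, LinearMap.smul_comp, LinearMap.comp_smul]

/-- An invertible intertwiner commutes with negation. -/
lemma IsInter.commute_negOp (h2 : (2 : F) ≠ 0) {ψ : AddChar F ℂ} (hψ : ψ ≠ 1)
    {g : Matrix.symplecticGroup (Fin n) F} {T : Module.End ℂ ((Fin n → F) → ℂ)}
    (hT : IsInter ψ g T) (hu : IsUnit T) : Commute T (negOp F n) := by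
  have h' : IsInter ψ g (negOp F n * T * negOp F n) := fun v => by
    rw [mul_assoc, negOp_mul_wOp, ← mul_assoc, mul_assoc (negOp F n) T, hT, ← mul_assoc,
      ← mul_assoc, negOp_mul_wOp, Matrix.mulVec_neg, neg_neg]
    simp only [mul_assoc]
  obtain ⟨c, hc⟩ := hT.exists_eq_smul hψ hu h'
  have hJT : negOp F n * T = c • (T * negOp F n) := by
    rw [← smul_mul_assoc, ← hc, mul_assoc, negOp_mul_self, mul_one]
  obtain ⟨u, rfl⟩ := hu
  have htr : LinearMap.trace ℂ _ (negOp F n) = c * LinearMap.trace ℂ _ (negOp F n) := by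
    conv_lhs => rw [show negOp F n = negOp F n * (↑u : Module.End ℂ _) * (↑u⁻¹ : Module.End ℂ _)
      by rw [mul_assoc, Units.mul_inv, mul_one]]
    rw [hJT, smul_mul_assoc, map_smul, LinearMap.trace_mul_comm, ← mul_assoc, Units.inv_mul,
      one_mul, smul_eq_mul]
  rw [trace_negOp h2, mul_one] at htr
  rw [← htr, one_smul] at hJT
  exact hJT.symm

/-- A normalised intertwiner. -/
def IsWeil (ψ : AddChar F ℂ) (g : Matrix.symplecticGroup (Fin n) F)
    (T : Module.End ℂ ((Fin n → F) → ℂ)) : Prop :=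
  IsInter ψ g T ∧ IsUnit T ∧
    LinearMap.det (parRes (s := (1 : ℂ)) (by ring) T) =
      LinearMap.det (parRes (s := (-1 : ℂ)) (by ring) T)

omit [Fintype F] [DecidableEq F] in
lemma det_parRes_ne_zero [Finite F] {s : ℂ} (hs : s * s = 1)
    {T : Module.End ℂ ((Fin n → F) → ℂ)}
    (hT : Commute T (negOp F n)) (hu : IsUnit T) : LinearMap.det (parRes hs T) ≠ 0 := by
  obtain ⟨u, rfl⟩ := hu
  have h := parRes_mul hs hT hT.units_inv_left
  rw [Units.mul_inv, parRes_one] at h
  intro h0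
  have := congrArg LinearMap.det h
  rw [map_one, map_mul, h0, zero_mul] at this
  exact one_ne_zero this

/-- Existence of the normalised intertwiner. -/
lemma exists_isWeil (h2 : (2 : F) ≠ 0) {ψ : AddChar F ℂ} (hψ : ψ ≠ 1)
    (g : Matrix.symplecticGroup (Fin n) F) : ∃ T, IsWeil ψ g T := by
  obtain ⟨T, hT, hu⟩ := exists_isInter h2 hψ g
  have hJ := hT.commute_negOp h2 hψ hu
  have hp := det_parRes_ne_zero (s := (1 : ℂ)) (by ring) hJ hu
  have hm := det_parRes_ne_zero (s := (-1 : ℂ)) (by ring) hJ hu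
  refine ⟨(LinearMap.det (parRes (s := (-1 : ℂ)) (by ring) T) /
    LinearMap.det (parRes (s := (1 : ℂ)) (by ring) T)) • T, hT.smul _, ?_, ?_⟩
  · exact (IsUnit.smul (Units.mk0 _ (div_ne_zero hm hp)) hu :)
  · rw [parRes_smul, parRes_smul, LinearMap.det_smul, LinearMap.det_smul,
      (finrank_odd h2).2, pow_succ, mul_assoc, div_mul_cancel₀ _ hp]

/-- Uniqueness of the normalised intertwiner. -/
lemma IsWeil.unique (h2 : (2 : F) ≠ 0) {ψ : AddChar F ℂ} (hψ : ψ ≠ 1)
    {g : Matrix.symplecticGroup (Fin n) F} {T T' : Module.End ℂ ((Fin n → F) → ℂ)}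
    (hT : IsWeil ψ g T) (hT' : IsWeil ψ g T') : T' = T := by
  obtain ⟨c, rfl⟩ := hT.1.exists_eq_smul hψ hT.2.1 hT'.1
  haveI : Nontrivial (Module.End ℂ ((Fin n → F) → ℂ)) := inferInstance
  have hc : c ≠ 0 := fun h => by
    have := hT'.2.1
    rw [h, zero_smul] at this
    exact not_isUnit_zero this
  have hJ := hT.1.commute_negOp h2 hψ hT.2.1
  have hm := det_parRes_ne_zero (s := (-1 : ℂ)) (by ring) hJ hT.2.1
  have h := hT'.2.2
  rw [parRes_smul, parRes_smul, LinearMap.det_smul, LinearMap.det_smul,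
    (finrank_odd h2).2, pow_succ, hT.2.2] at h
  have : c = 1 := by
    apply mul_left_cancel₀ (pow_ne_zero (finrank ℂ (parSub F n (-1))) hc)
    apply mul_right_cancel₀ hm
    rw [mul_one]
    exact h
  rw [this, one_smul]

lemma IsWeil.mul (h2 : (2 : F) ≠ 0) {ψ : AddChar F ℂ} (hψ : ψ ≠ 1)
    {g h : Matrix.symplecticGroup (Fin n) F} {T T' : Module.End ℂ ((Fin n → F) → ℂ)}
    (hT : IsWeil ψ g T) (hT' : IsWeil ψ h T') : IsWeil ψ (g * h) (T * T') := by
  refine ⟨hT.1.mul hT'.1, hT.2.1.mul hT'.2.1, ?_⟩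
  have hJ := hT.1.commute_negOp h2 hψ hT.2.1
  have hJ' := hT'.1.commute_negOp h2 hψ hT'.2.1
  rw [parRes_mul _ hJ hJ', parRes_mul _ hJ hJ', map_mul, map_mul, hT.2.2, hT'.2.2]

omit [Fintype F] [DecidableEq F] in
lemma IsWeil.one [Finite F] (ψ : AddChar F ℂ) : IsWeil (n := n) ψ 1 1 :=
  ⟨IsInter.one ψ, isUnit_one, by rw [parRes_one, parRes_one, map_one, map_one]⟩

/-- The normalised intertwiner of an element. -/
noncomputable def weilOp (h2 : (2 : F) ≠ 0) {ψ : AddChar F ℂ} (hψ : ψ ≠ 1)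
    (g : Matrix.symplecticGroup (Fin n) F) : Module.End ℂ ((Fin n → F) → ℂ) :=
  (exists_isWeil h2 hψ g).choose

lemma isWeil_weilOp (h2 : (2 : F) ≠ 0) {ψ : AddChar F ℂ} (hψ : ψ ≠ 1)
    (g : Matrix.symplecticGroup (Fin n) F) : IsWeil ψ g (weilOp h2 hψ g) :=
  (exists_isWeil h2 hψ g).choose_spec

/-- The Weil representation on odd functions. -/
noncomputable def weilOdd (h2 : (2 : F) ≠ 0) {ψ : AddChar F ℂ} (hψ : ψ ≠ 1) :
    Representation ℂ (Matrix.symplecticGroup (Fin n) F) (parSub F n (-1)) where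
  toFun g := parRes (by ring) (weilOp h2 hψ g)
  map_one' := by
    rw [(IsWeil.one ψ).unique h2 hψ (isWeil_weilOp h2 hψ 1), parRes_one]
  map_mul' g h := by
    have hg := isWeil_weilOp h2 hψ g
    have hh := isWeil_weilOp h2 hψ h
    rw [(hg.mul h2 hψ hh).unique h2 hψ (isWeil_weilOp h2 hψ (g * h)),
      parRes_mul _ (hg.1.commute_negOp h2 hψ hg.2.1) (hh.1.commute_negOp h2 hψ hh.2.1)]

lemma coe_weilOdd (h2 : (2 : F) ≠ 0) {ψ : AddChar F ℂ} (hψ : ψ ≠ 1)
    (g : Matrix.symplecticGroup (Fin n) F) (f : parSub F n (-1)) :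
    (weilOdd h2 hψ g f : (Fin n → F) → ℂ) = weilOp h2 hψ g f :=
  coe_parRes (by ring) ((isWeil_weilOp h2 hψ g).1.commute_negOp h2 hψ (isWeil_weilOp h2 hψ g).2.1) f

/-- Multiplication by `ψ (x_{i₀} ^ 2)`. -/
noncomputable def sqOp (ψ : AddChar F ℂ) (i₀ : Fin n) : Module.End ℂ ((Fin n → F) → ℂ) where
  toFun f x := ψ (x i₀ * x i₀) * f x
  map_add' f g := by
    funext x
    simp [mul_add]
  map_smul' c f := by
    funext x
    simp [mul_left_comm]

omit [Fintype F] [DecidableEq F] in
lemma isInter_sqOp (h2 : (2 : F) ≠ 0) (ψ : AddChar F ℂ) (i₀ : Fin n) :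
    IsInter ψ (H2.transv (Pi.single (Sum.inr i₀) 1) 2) (sqOp ψ i₀) := by
  intro v
  refine LinearMap.ext fun f => funext fun x => ?_
  have hv : Cfsg.sympForm n F v (Pi.single (Sum.inr i₀) 1) = -v (Sum.inl i₀) := by
    rw [H2.sympForm_swap, H2.sympForm_single_inr]
  have hl : (v + (2 * -v (Sum.inl i₀)) • (Pi.single (Sum.inr i₀) 1 : Fin n ⊕ Fin n → F)) ∘ Sum.inl
      = v ∘ Sum.inl := funext fun i => by simp
  have hr : (v + (2 * -v (Sum.inl i₀)) • (Pi.single (Sum.inr i₀) 1 : Fin n ⊕ Fin n → F)) ∘ Sum.inr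
      = v ∘ Sum.inr + Pi.single i₀ (2 * -v (Sum.inl i₀)) := funext fun i => by
    by_cases h : i = i₀ <;> simp [h]
  simp only [Module.End.mul_apply, H2.coe_transv, H2.sympTransvection_mulVec, hv, wOp_apply, hl,
    hr, add_dotProduct, dotProduct_add, single_dotProduct, dotProduct_single,
    show ∀ (f : (Fin n → F) → ℂ) x, sqOp ψ i₀ f x = ψ (x i₀ * x i₀) * f x from fun _ _ => rfl]
  rw [← mul_assoc, ← mul_assoc, ← AddChar.map_add_eq_mul, ← AddChar.map_add_eq_mul]
  congr 2
  simp only [Pi.add_apply, Function.comp_apply]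
  have := inv_mul_cancel₀ h2
  linear_combination (v (Sum.inl i₀) * v (Sum.inl i₀)) * this

/-- The representation on odd functions is not trivial. -/
lemma exists_weilOdd_ne_one (hn : 2 ≤ n) (h2 : (2 : F) ≠ 0) {ψ : AddChar F ℂ} (hψ : ψ ≠ 1) :
    ∃ g, weilOdd (n := n) h2 hψ g ≠ 1 := by
  classical
  set i₀ : Fin n := ⟨0, by omega⟩
  set i₁ : Fin n := ⟨1, by omega⟩
  have h01 : i₀ ≠ i₁ := by simp [i₀, i₁, Fin.ext_iff]
  set g := H2.transv (Pi.single (Sum.inr i₀) (1 : F)) 2 with hg
  refine ⟨g, fun htriv => ?_⟩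
  have hW := isWeil_weilOp h2 hψ g
  obtain ⟨c, hc⟩ := hW.1.exists_eq_smul hψ hW.2.1 (isInter_sqOp h2 ψ i₀)
  have key : ∀ x : Fin n → F, x ≠ 0 → ψ (x i₀ * x i₀) = c := by
    intro x hx
    have hxx : x ≠ -x := fun h => hx (funext fun i => by
      have h1 := congrFun h i
      simp only [Pi.neg_apply] at h1
      have h3 : (2 : F) * x i = 0 := by linear_combination h1
      simpa using (mul_eq_zero.1 h3).resolve_left h2)
    set φ : (Fin n → F) → ℂ := Pi.single x 1 - Pi.single (-x) 1 with hφ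
    have hφm : φ ∈ parSub F n (-1) := mem_parSub.2 (funext fun y => by
      simp only [negOp_apply, hφ, Pi.sub_apply, Pi.smul_apply, Pi.single_apply, smul_eq_mul,
        neg_eq_iff_eq_neg, neg_neg]
      ring)
    have h1 : weilOp h2 hψ g φ = φ := by
      have h := coe_weilOdd h2 hψ g ⟨φ, hφm⟩
      rw [htriv] at h
      exact h.symm
    have h3 := congrFun (LinearMap.congr_fun hc φ) x
    rw [LinearMap.smul_apply, h1, Pi.smul_apply] at h3
    change ψ (x i₀ * x i₀) * φ x = _ at h3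
    simpa [hφ, hxx] using h3
  have hc1 : c = 1 := by
    rw [← key (Pi.single i₁ 1) (by simp)]
    simp [h01]
  have hsq : ∀ t : F, ψ (t * t) = 1 := fun t => by
    by_cases ht : t = 0
    · simp [ht]
    · simpa [hc1] using key (Pi.single i₀ t) (by simpa using ht)
  apply hψ
  ext a
  have e : (a + 1) / 2 * ((a + 1) / 2) = a + (a - 1) / 2 * ((a - 1) / 2) := by
    field_simp
    ring
  have := hsq ((a + 1) / 2)
  rw [e, AddChar.map_add_eq_mul, hsq, mul_one] at this
  simpa using this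

omit [DecidableEq F] in
/-- An element acting trivially on a submodule and on the quotient acts trivially. -/
lemma eq_one_of_unipotent {G : Type*} [Group G] [Finite G] {V : Type*} [AddCommGroup V]
    [Module ℂ V] (ρ : Representation ℂ G V) (U : Submodule ℂ V) (g : G)
    (hU : ∀ u ∈ U, ρ g u = u) (hQ : ∀ v, ρ g v - v ∈ U) : ρ g = 1 := by
  refine LinearMap.ext fun v => ?_
  have hk : ∀ k : ℕ, ρ (g ^ k) v = v + (k : ℂ) • (ρ g v - v) := by
    intro k
    induction k with
    | zero => simp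
    | succ k ih =>
      rw [pow_succ', map_mul, Module.End.mul_apply, ih, map_add, map_smul, hU _ (hQ v)]
      push_cast
      module
  have := hk (orderOf g)
  rw [pow_orderOf_eq_one, map_one, Module.End.one_apply] at this
  have h0 : (orderOf g : ℂ) • (ρ g v - v) = 0 := by
    simpa using this
  rw [smul_eq_zero] at h0
  exact sub_eq_zero.1 (h0.resolve_left (Nat.cast_ne_zero.2 (orderOf_pos g).ne'))

/-- A representation of `Sp_{2n}` of dimension `(q^n - 1) / 2` which is not trivial is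
irreducible. -/
theorem sp_rep_invariant_of_finrank_eq (hn : 1 ≤ n) (h2 : (2 : F) ≠ 0) {V : Type*}
    [AddCommGroup V] [Module ℂ V] [FiniteDimensional ℂ V]
    (ρ : Representation ℂ (Matrix.symplecticGroup (Fin n) F) V)
    (hd : finrank ℂ V = (Fintype.card F ^ n - 1) / 2) (hne : ∃ g, ρ g ≠ 1)
    (U : Submodule ℂ V) (hU : ∀ g, ∀ f ∈ U, ρ g f ∈ U) : U = ⊥ ∨ U = ⊤ := by
  by_contra hc
  push Not at hc
  obtain ⟨g, hg⟩ := hne
  apply hg
  let ρU : Representation ℂ (Matrix.symplecticGroup (Fin n) F) U :=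
    { toFun := fun g => (ρ g).restrict (hU g)
      map_one' := LinearMap.ext fun u => Subtype.ext (by simp)
      map_mul' := fun a b => LinearMap.ext fun u => Subtype.ext (by simp) }
  let ρQ : Representation ℂ (Matrix.symplecticGroup (Fin n) F) (V ⧸ U) :=
    { toFun := fun g => U.mapQ U (ρ g) (hU g)
      map_one' := LinearMap.ext fun x => by
        obtain ⟨y, rfl⟩ := Submodule.Quotient.mk_surjective U x
        simp
      map_mul' := fun a b => LinearMap.ext fun x => by
        obtain ⟨y, rfl⟩ := Submodule.Quotient.mk_surjective U x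
        simp }
  have hlt := Submodule.finrank_lt hc.2
  have hpos : 0 < finrank ℂ U :=
    Nat.pos_of_ne_zero fun h0 => hc.1 (Submodule.finrank_eq_zero.1 h0)
  have hadd := Submodule.finrank_quotient_add_finrank U
  have h1 := sp_rep_trivial_of_finrank_lt hn h2 ρU (by omega) g
  have h3 := sp_rep_trivial_of_finrank_lt hn h2 ρQ (by omega) g
  refine eq_one_of_unipotent ρ U g (fun u hu => ?_) (fun v => ?_)
  · exact congrArg Subtype.val (LinearMap.congr_fun h1 ⟨u, hu⟩)
  · rw [← Submodule.Quotient.eq]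
    exact LinearMap.congr_fun h3 (Submodule.Quotient.mk v)

end Cfsg.Agent.H39
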