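import Cfsg.Agent.H39.ZassClasses
import Cfsg.Agent.H26.CharFS
import Cfsg.Agent.H26.CharLinear
import Cfsg.Agent.H25.CharInd
import Cfsg.Agent.H25.IndRep

/-!
# Characters of simple Zassenhaus groups induced from the stabiliser of a point
-/

set_option autoImplicit false

namespace Cfsg.Agent.H39

open MulAction
open scoped ComplexConjugate Classical

namespace ZSetup

variable {G Ω : Type*} [Group G] [MulAction G Ω] [Fintype Ω] (S : ZSetup G Ω)

lemma mul_D_not_mem_H {u d : G} (hu : u ∈ S.H) (hd : d ∈ S.D) (hd1 : d ≠ 1) : u * d ∉ S.H :=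
  fun h => hd1 (S.inf_H_D (by simpa using mul_mem (inv_mem hu) h) hd)

/-- Every element of the coset `H d` is conjugate to `d` under `H`. -/
lemma conj_H_mul_D {u d : G} (hu : u ∈ S.H) (hd : d ∈ S.D) (hd1 : d ≠ 1) :
    ∃ x ∈ S.H, x * d * x⁻¹ = u * d := by
  have hn : u * d ∈ S.N := mul_mem (S.hHa hu) hd.1
  obtain ⟨x, hx, hxd, -⟩ := S.exists_conj_mem_D hn (S.mul_D_not_mem_H hu hd hd1)
  refine ⟨x, hx, ?_⟩
  have hv : x⁻¹ * u * (d * x * d⁻¹) ∈ S.H :=
    mul_mem (mul_mem (inv_mem hx) hu) (S.conj_mem_H hd.1 hx)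
  have he : x⁻¹ * u * (d * x * d⁻¹) = 1 := by
    refine S.inf_H_D hv ?_
    have : x⁻¹ * u * (d * x * d⁻¹) = (x⁻¹ * (u * d) * x) * d⁻¹ := by group
    rw [this]
    exact mul_mem hxd (inv_mem hd)
  have : x⁻¹ * (u * d) * x = d := by
    calc x⁻¹ * (u * d) * x = (x⁻¹ * u * (d * x * d⁻¹)) * d := by group
      _ = d := by rw [he, one_mul]
  calc x * d * x⁻¹ = x * (x⁻¹ * (u * d) * x) * x⁻¹ := by rw [this]
    _ = u * d := by group

/-- Summation over the stabiliser of a point. -/
lemma sum_N [Fintype G] {M : Type*} [AddCommMonoid M] (F : G → M)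
    (hF : ∀ x ∈ S.H, ∀ g : G, F (x * g * x⁻¹) = F g) :
    ∑ n : S.N, F n = ∑ u : S.H, F u + S.h • ∑ d ∈ Finset.univ.erase (1 : S.D), F d := by
  rw [← Fintype.sum_equiv S.stabEquiv (fun p => F ((p.1 : G) * p.2)) _ (fun p => rfl),
    Fintype.sum_prod_type, Finset.sum_comm, ← Finset.add_sum_erase _ _ (Finset.mem_univ (1 : S.D))]
  congr 1
  · simp
  · rw [Finset.smul_sum]
    refine Finset.sum_congr rfl fun d hd => ?_
    rw [Finset.sum_congr rfl (g := fun _ => F d) (fun u _ => ?_), Finset.sum_const, Finset.card_univ,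
      ← Nat.card_eq_fintype_card]
    · rfl
    · obtain ⟨x, hx, hxd⟩ := S.conj_H_mul_D u.2 d.2
        (fun h => (Finset.mem_erase.1 hd).1 (Subtype.ext h))
      show F ((u : G) * d) = _
      rw [← hxd, hF x hx]

/-- The projection of the stabiliser of `a` onto `D` along `H`. -/
noncomputable def projFun (n : S.N) : S.D := (S.stabEquiv.symm n).2

lemma projFun_spec (n : S.N) : (n : G) * (S.projFun n : G)⁻¹ ∈ S.H := by
  have h : ((S.stabEquiv.symm n).1 : G) * (S.stabEquiv.symm n).2 = n :=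
    congrArg Subtype.val (S.stabEquiv.apply_symm_apply n)
  rw [← h]
  simp [projFun]

lemma projFun_eq {n : S.N} {d : S.D} (h : (n : G) * (d : G)⁻¹ ∈ S.H) : S.projFun n = d := by
  have he : S.stabEquiv (⟨_, h⟩, d) = n := Subtype.ext (inv_mul_cancel_right _ _)
  rw [projFun, ← he, Equiv.symm_apply_apply]

/-- The projection of the stabiliser of `a` onto `D` along `H`, as a homomorphism. -/
noncomputable def projD : S.N →* S.D :=
  MonoidHom.mk' S.projFun fun m n => S.projFun_eq (by
    have h1 := S.projFun_spec m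
    have h2 := S.conj_mem_H m.2 (S.projFun_spec n)
    have h3 : ((m * n : S.N) : G) * ((S.projFun m * S.projFun n : S.D) : G)⁻¹
        = ((m : G) * ((n : G) * (S.projFun n : G)⁻¹) * (m : G)⁻¹) * ((m : G) * (S.projFun m : G)⁻¹) := by
      push_cast; group
    rw [h3]
    exact mul_mem h2 h1)

lemma projD_H {n : S.N} (hn : (n : G) ∈ S.H) : S.projD n = 1 :=
  S.projFun_eq (by simpa using hn)

lemma projD_D {n : S.N} (hn : (n : G) ∈ S.D) : S.projD n = ⟨n, hn⟩ :=
  S.projFun_eq (by simp)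

variable [Fintype G]

lemma mem_N_of_smul {x : G} (h : x⁻¹ • S.a = S.a) : x ∈ S.N := by
  rw [S.mem_N]
  exact (inv_smul_eq_iff.1 h).symm

/-- An induced class function on a non-identity element of `H`. -/
lemma indFun_N_H {θ : S.N → ℂ} (hθ : Cfsg.IsClassFunction S.N θ) {u : G} (hu : u ∈ S.H)
    (hu1 : u ≠ 1) : Cfsg.indFun S.N θ u = θ ⟨u, S.hHa hu⟩ := by
  refine H25.indFun_apply_eq_self S.N θ hθ ⟨u, S.hHa hu⟩ fun x hx => ?_
  refine H25.extendByZero_of_notMem _ _ fun hm => hx ?_
  have h1 : u • (x • S.a) = x • S.a := by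
    have h : (x⁻¹ * u * x) • S.a = S.a := hm
    rw [mul_smul, mul_smul, inv_smul_eq_iff] at h
    exact h
  exact S.mem_N.2 (S.hHfix u hu hu1 _ h1)

/-- An induced class function on an element without fixed points. -/
lemma indFun_N_free {θ : S.N → ℂ} {g : G} (hg : ∀ x : Ω, g • x ≠ x) :
    Cfsg.indFun S.N θ g = 0 := by
  refine H25.indFun_eq_zero _ _ fun x hm => hg (x • S.a) ?_
  have h : (x⁻¹ * g * x) • S.a = S.a := hm
  rw [mul_smul, mul_smul, inv_smul_eq_iff] at h
  exact h

lemma index_N : S.N.index = S.h + 1 := by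
  haveI : IsPretransitive G Ω := H7.ZHyp.transitive S.Z
  rw [index_stabilizer_of_transitive, Nat.card_eq_fintype_card, S.card_omega]

variable [IsSimpleGroup G] (hodd : Odd S.e)
include hodd

/-- An induced class function on a non-identity element of `D`. -/
lemma indFun_N_D {θ : S.N → ℂ} (hθ : Cfsg.IsClassFunction S.N θ) {d : G} (hd : d ∈ S.D)
    (hd1 : d ≠ 1) :
    Cfsg.indFun S.N θ d = θ ⟨d, hd.1⟩ + θ ⟨d⁻¹, inv_mem hd.1⟩ := by
  have hin : ∀ n : S.N, Cfsg.extendByZero S.N θ ((n : G)⁻¹ * d * n) = θ ⟨d, hd.1⟩ := by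
    intro n
    rw [show ((n : G)⁻¹ * d * n) = ((n⁻¹ * ⟨d, hd.1⟩ * n : S.N) : G) by simp,
      H25.extendByZero_apply_coe]
    simpa using hθ ⟨d, hd.1⟩ n⁻¹
  have hout : ∀ n : S.N, Cfsg.extendByZero S.N θ ((S.w * n)⁻¹ * d * (S.w * n))
      = θ ⟨d⁻¹, inv_mem hd.1⟩ := by
    intro n
    have hw : S.w⁻¹ * d * S.w = d⁻¹ := by
      have h := (S.D_abelian hodd).2 _ (inv_mem hd)
      rw [inv_inv] at h
      conv_lhs => rw [← h]
      group
    rw [show (S.w * (n : G))⁻¹ * d * (S.w * n) = ((n⁻¹ * ⟨d⁻¹, inv_mem hd.1⟩ * n : S.N) : G) by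
      simp only [Subgroup.coe_mul, InvMemClass.coe_inv, ← hw]; group, H25.extendByZero_apply_coe]
    simpa using hθ ⟨d⁻¹, inv_mem hd.1⟩ n⁻¹
  have hzero : ∀ x : G, x • S.a ≠ S.a → x • S.a ≠ S.b →
      Cfsg.extendByZero S.N θ (x⁻¹ * d * x) = 0 := by
    intro x h1 h2
    refine H25.extendByZero_of_notMem _ _ fun hm => ?_
    have h : (x⁻¹ * d * x) • S.a = S.a := hm
    rw [mul_smul, mul_smul, inv_smul_eq_iff] at h
    rcases S.eq_of_mem_D_of_fix hd hd1 h with h' | h'
    · exact h1 h'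
    · exact h2 h'
  have hwN : ∀ x : G, x • S.a = S.b ↔ S.w⁻¹ * x ∈ S.N := fun x => by
    rw [S.mem_N, mul_smul, inv_smul_eq_iff, S.w_a]
  have hN : (Nat.card S.N : ℂ) ≠ 0 := Nat.cast_ne_zero.2 Nat.card_pos.ne'
  rw [H25.indFun_apply, ← Finset.sum_filter_add_sum_filter_not Finset.univ (fun x : G => x • S.a = S.a),
    ← Finset.sum_filter_add_sum_filter_not (Finset.univ.filter fun x : G => ¬ x • S.a = S.a)
      (fun x : G => x • S.a = S.b)]
  rw [Finset.sum_eq_zero (s := (Finset.univ.filter fun x : G => ¬ x • S.a = S.a).filter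
    (fun x : G => ¬ x • S.a = S.b)) (fun x hx => by
      simp only [Finset.mem_filter] at hx
      exact hzero x hx.1.2 hx.2), add_zero]
  have e1 : ∑ x ∈ Finset.univ.filter (fun x : G => x • S.a = S.a),
      Cfsg.extendByZero S.N θ (x⁻¹ * d * x) = (Nat.card S.N : ℂ) * θ ⟨d, hd.1⟩ := by
    rw [Finset.sum_subtype (p := (· ∈ S.N)) _ (fun x => by simp [S.mem_N]),
      Finset.sum_congr rfl (fun n _ => hin n), Finset.sum_const, Finset.card_univ, nsmul_eq_mul,
      Nat.card_eq_fintype_card]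
  have e2 : ∑ x ∈ (Finset.univ.filter fun x : G => ¬ x • S.a = S.a).filter (fun x : G => x • S.a = S.b),
      Cfsg.extendByZero S.N θ (x⁻¹ * d * x) = (Nat.card S.N : ℂ) * θ ⟨d⁻¹, inv_mem hd.1⟩ := by
    rw [Nat.card_eq_fintype_card, ← nsmul_eq_mul, ← Finset.card_univ, ← Finset.sum_const,
      ← Finset.sum_congr rfl (fun n _ => hout n)]
    refine (Finset.sum_bij (fun (n : S.N) _ => S.w * n) (fun n _ => ?_)
      (fun m _ n _ h => Subtype.ext (mul_left_cancel h)) (fun x hx => ?_) (fun n _ => rfl)).symm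
    · simp only [Finset.mem_filter, Finset.mem_univ, true_and]
      have h : (S.w * (n : G)) • S.a = S.b := by rw [mul_smul, S.mem_N.1 n.2, S.w_a]
      exact ⟨fun h' => S.hab (h'.symm.trans h), h⟩
    · simp only [Finset.mem_filter, Finset.mem_univ, true_and] at hx
      exact ⟨⟨_, (hwN x).1 hx.2⟩, Finset.mem_univ _, mul_inv_cancel_left _ _⟩
  rw [e1, e2, ← mul_add, inv_mul_cancel_left₀ hN]

omit [Fintype G] [IsSimpleGroup G] hodd in
/-- The character of the stabiliser of `a` inflated from a character of `D`. -/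
noncomputable def lamN (l : Cfsg.IrrCharacter S.D) : S.N → ℂ := fun n => l.1 (S.projD n)

/-- The character induced from the inflation. -/
noncomputable def xi (_hodd : Odd S.e) (l : Cfsg.IrrCharacter S.D) : G → ℂ :=
  Cfsg.indFun S.N (S.lamN l)

lemma exists_hom_D (l : Cfsg.IrrCharacter S.D) : ∃ f : S.D →* ℂˣ, ∀ d, l.1 d = f d := by
  have h1 : l.1 1 = 1 := H26.irr_one_eq_one_of_comm (fun x y => Subtype.ext
    ((S.D_abelian hodd).1 x x.2 y y.2)) l
  obtain ⟨f, hf⟩ := H26.exists_hom_of_isCharacter_one (H26.irr_isCharacter l) h1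
  exact ⟨f, fun d => (hf d).symm⟩

lemma l_one (l : Cfsg.IrrCharacter S.D) : l.1 1 = 1 := by
  obtain ⟨f, hf⟩ := S.exists_hom_D hodd l
  simp [hf]

lemma l_mul (l : Cfsg.IrrCharacter S.D) (x y : S.D) : l.1 (x * y) = l.1 x * l.1 y := by
  obtain ⟨f, hf⟩ := S.exists_hom_D hodd l
  simp [hf]

omit [IsSimpleGroup G] hodd in
lemma isCharacter_lamN (l : Cfsg.IrrCharacter S.D) : Cfsg.IsCharacter S.N (S.lamN l) :=
  H26.isCharacter_comp (H26.irr_isCharacter l) S.projD

lemma isCharacter_xi (l : Cfsg.IrrCharacter S.D) : Cfsg.IsCharacter G (S.xi hodd l) :=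
  H25.isCharacter_indFun (H := S.N) (S.isCharacter_lamN l)

omit [IsSimpleGroup G] hodd in
lemma isClassFunction_lamN (l : Cfsg.IrrCharacter S.D) :
    Cfsg.IsClassFunction S.N (S.lamN l) :=
  H26.isClassFunction_of_isCharacter (S.isCharacter_lamN l)

lemma xi_one (l : Cfsg.IrrCharacter S.D) : S.xi hodd l 1 = (S.h : ℂ) + 1 := by
  rw [xi, H25.indFun_one, S.index_N, lamN, map_one, S.l_one hodd, mul_one]
  push_cast; rfl

lemma xi_H (l : Cfsg.IrrCharacter S.D) {u : G} (hu : u ∈ S.H) (hu1 : u ≠ 1) :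
    S.xi hodd l u = 1 := by
  rw [xi, S.indFun_N_H (S.isClassFunction_lamN l) hu hu1, lamN, S.projD_H hu, S.l_one hodd]

lemma xi_D (l : Cfsg.IrrCharacter S.D) {d : S.D} (hd1 : d ≠ 1) :
    S.xi hodd l d = l.1 d + conj (l.1 d) := by
  rw [xi, S.indFun_N_D hodd (S.isClassFunction_lamN l) d.2 (fun h => hd1 (Subtype.ext h))]
  simp only [lamN]
  rw [    S.projD_D (n := ⟨(d : G), d.2.1⟩) d.2,
    S.projD_D (n := ⟨(d : G)⁻¹, inv_mem d.2.1⟩) (inv_mem d.2), ← H26.irr_inv]
  rfl

lemma xi_free (l : Cfsg.IrrCharacter S.D) {g : G} (hg : ∀ x : Ω, g • x ≠ x) :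
    S.xi hodd l g = 0 := S.indFun_N_free hg

/-- Reciprocity for the induced characters. -/
lemma classInner_xi (l : Cfsg.IrrCharacter S.D) {χ : G → ℂ} (hχ : Cfsg.IsClassFunction G χ) :
    Cfsg.classInner (S.xi hodd l) χ = (S.h * S.e : ℂ)⁻¹ *
      (∑ u : S.H, conj (χ u) + (S.h : ℂ) * ∑ d ∈ Finset.univ.erase (1 : S.D), l.1 d * conj (χ d)) := by
  rw [xi, H25.classInner_indFun_left _ _ _ hχ, Cfsg.classInner]
  congr 1
  · rw [S.card_N, Nat.cast_mul]
  · let F : G → ℂ := fun g => Cfsg.extendByZero S.N (S.lamN l) g * conj (χ g)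
    have hF : ∀ n : S.N, S.lamN l n * conj (χ n) = F n := fun n => by
      simp only [F, H25.extendByZero_apply_coe]
    rw [Finset.sum_congr rfl (fun n _ => hF n), S.sum_N F (fun x hx g => ?_), nsmul_eq_mul]
    · congr 1
      · refine Finset.sum_congr rfl fun u _ => ?_
        simp only [F]
        rw [H25.extendByZero_of_mem _ _ (S.hHa u.2), lamN, S.projD_H u.2, S.l_one hodd, one_mul]
      · congr 1
        refine Finset.sum_congr rfl fun d _ => ?_
        simp only [F]
        rw [H25.extendByZero_of_mem _ _ d.2.1, lamN, S.projD_D (n := ⟨(d : G), d.2.1⟩) d.2]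
    · simp only [F]
      have hxN := S.hHa hx
      rw [hχ g x]
      by_cases hg : g ∈ S.N
      · rw [H25.extendByZero_of_mem _ _ (mul_mem (mul_mem hxN hg) (inv_mem hxN)),
          H25.extendByZero_of_mem _ _ hg]
        congr 1
        exact S.isClassFunction_lamN l ⟨g, hg⟩ ⟨x, hxN⟩
      · rw [H25.extendByZero_of_notMem _ _ hg, H25.extendByZero_of_notMem _ _ fun h => hg ?_]
        have := mul_mem (mul_mem (inv_mem hxN) h) hxN
        simpa [mul_assoc] using this

lemma sum_mul_conj_D (l m : Cfsg.IrrCharacter S.D) :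
    ∑ d ∈ Finset.univ.erase (1 : S.D), l.1 d * conj (m.1 d) =
      (if l = m then (S.e : ℂ) else 0) - 1 := by
  have h := H26.classInner_irr l m
  rw [Cfsg.classInner, inv_mul_eq_iff_eq_mul₀ (Nat.cast_ne_zero.2 Nat.card_pos.ne')] at h
  rw [Finset.sum_erase_eq_sub (Finset.mem_univ _), h, S.l_one hodd, S.l_one hodd]
  simp [ZSetup.e, mul_ite]

omit [IsSimpleGroup G] hodd in
lemma e_ne_zero : (S.e : ℂ) ≠ 0 := by
  have := S.two_le_e
  exact Nat.cast_ne_zero.2 (by omega)

omit [IsSimpleGroup G] hodd in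
lemma h_ne_zero : (S.h : ℂ) ≠ 0 := by
  have := S.two_le_h
  exact Nat.cast_ne_zero.2 (by omega)

omit [IsSimpleGroup G] hodd in
lemma sum_H {M : Type*} [AddCommMonoid M] (F : S.H → M) :
    ∑ u : S.H, F u = F 1 + ∑ u ∈ Finset.univ.erase (1 : S.H), F u :=
  (Finset.add_sum_erase _ _ (Finset.mem_univ _)).symm

omit [IsSimpleGroup G] hodd in
lemma card_H_erase : ((Finset.univ.erase (1 : S.H)).card : ℂ) = (S.h : ℂ) - 1 := by
  rw [Finset.card_erase_of_mem (Finset.mem_univ _), Finset.card_univ, ← Nat.card_eq_fintype_card]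
  have := S.two_le_h
  rw [ZSetup.h] at this ⊢
  rw [Nat.cast_sub (by omega)]
  push_cast; ring

/-- The inner products of the induced characters. -/
lemma classInner_xi_xi (l m : Cfsg.IrrCharacter S.D) :
    Cfsg.classInner (S.xi hodd l) (S.xi hodd m) =
      (if l = m then 1 else 0) + (if l = H26.conjIrr m then 1 else 0) := by
  rw [S.classInner_xi hodd l (H26.isClassFunction_of_isCharacter (S.isCharacter_xi hodd m))]
  have h1 : ∑ u : S.H, conj (S.xi hodd m u) = 2 * (S.h : ℂ) := by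
    rw [S.sum_H, Finset.sum_congr rfl (g := fun _ => (1 : ℂ)) (fun u hu => by
      rw [S.xi_H hodd m u.2 (fun h => (Finset.mem_erase.1 hu).1 (Subtype.ext h)), map_one]),
      Finset.sum_const, nsmul_eq_mul, S.card_H_erase]
    simp [S.xi_one hodd]
    ring
  have h2 : ∑ d ∈ Finset.univ.erase (1 : S.D), l.1 d * conj (S.xi hodd m d) =
      (if l = m then (S.e : ℂ) else 0) - 1 + ((if l = H26.conjIrr m then (S.e : ℂ) else 0) - 1) := by
    rw [← S.sum_mul_conj_D hodd l m, ← S.sum_mul_conj_D hodd l (H26.conjIrr m),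
      ← Finset.sum_add_distrib]
    refine Finset.sum_congr rfl fun d hd => ?_
    rw [S.xi_D hodd m (Finset.mem_erase.1 hd).1, map_add, H26.conjIrr_val, mul_add]
  rw [h1, h2]
  have := S.e_ne_zero
  have := S.h_ne_zero
  split_ifs <;> field_simp <;> ring

lemma conjIrr_eq_self (l : Cfsg.IrrCharacter S.D) :
    H26.conjIrr l = l ↔ l = H26.oneIrr S.D := by
  refine ⟨fun h => Subtype.ext (funext fun d => ?_), fun h => ?_⟩
  · have h2 : l.1 (d * d) = 1 := by
      have hr : conj (l.1 d) = l.1 d := by rw [← H26.conjIrr_val, h]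
      rw [S.l_mul hodd]
      nth_rw 2 [← hr]
      rw [← H26.irr_inv, ← S.l_mul hodd, mul_inv_cancel, S.l_one hodd]
    obtain ⟨j, hj⟩ := exists_pow_eq_self_of_coprime (x := d) (n := 2)
      ((Nat.coprime_two_left.2 hodd).coprime_dvd_right (orderOf_dvd_natCard d))
    obtain ⟨f, hf⟩ := S.exists_hom_D hodd l
    rw [hf, ← hj, map_pow, Units.val_pow_eq_pow_val, ← hf, pow_two, h2, one_pow]
    rfl
  · subst h
    exact Subtype.ext (funext fun d => by simp [H26.conjIrr_val, H26.oneIrr_val])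

lemma classInner_xi_oneIrr (l : Cfsg.IrrCharacter S.D) :
    Cfsg.classInner (S.xi hodd l) (H26.oneIrr G).1 = if l = H26.oneIrr S.D then 1 else 0 := by
  rw [S.classInner_xi hodd l (H26.irr_isClassFunction _)]
  have h2 : ∑ d ∈ Finset.univ.erase (1 : S.D), l.1 d * conj ((H26.oneIrr G).1 d)
      = (if l = H26.oneIrr S.D then (S.e : ℂ) else 0) - 1 := by
    rw [← S.sum_mul_conj_D hodd]
    rfl
  rw [h2]
  simp only [H26.oneIrr_val, map_one, Finset.sum_const, Finset.card_univ, nsmul_eq_mul, mul_one]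
  rw [← Nat.card_eq_fintype_card]
  have := S.e_ne_zero
  have := S.h_ne_zero
  change (_ : ℂ)⁻¹ * ((S.h : ℂ) + _) = _
  split_ifs <;> field_simp <;> ring

lemma isIrrCharacter_xi {l : Cfsg.IrrCharacter S.D} (hl : l ≠ H26.oneIrr S.D) :
    Cfsg.IsIrrCharacter G (S.xi hodd l) := by
  refine H26.isIrrCharacter_of_norm_one (S.isCharacter_xi hodd l) ?_
  rw [S.classInner_xi_xi hodd, if_pos rfl, if_neg fun h => hl ((S.conjIrr_eq_self hodd l).1 h.symm),
    add_zero]

lemma isIrrCharacter_pi :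
    Cfsg.IsIrrCharacter G (S.xi hodd (H26.oneIrr S.D) - (H26.oneIrr G).1) := by
  set o := H26.oneIrr S.D
  have ho : Cfsg.classInner (S.xi hodd o) (H26.oneIrr G).1 = 1 := by
    rw [S.classInner_xi_oneIrr hodd, if_pos rfl]
  have hcf : Cfsg.IsClassFunction G (S.xi hodd o - (H26.oneIrr G).1) := fun g x => by
    simp only [Pi.sub_apply, H26.oneIrr_val]
    rw [H26.isClassFunction_of_isCharacter (S.isCharacter_xi hodd o) g x]
  refine H26.isIrrCharacter_of_norm_one (H26.isCharacter_of_nat_coeffs hcf fun χ => ?_) ?_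
  · obtain ⟨m, hm⟩ := H26.exists_nat_classInner_irr (S.isCharacter_xi hodd o) χ
    rw [H26.classInner_sub_left, hm, H26.classInner_irr]
    split_ifs with h
    · subst h
      rw [ho] at hm
      exact ⟨0, by rw [← hm]; simp⟩
    · exact ⟨m, by simp⟩
  · have ho' : Cfsg.classInner (H26.oneIrr G).1 (S.xi hodd o) = 1 := by
      rw [H26.classInner_comm, ho, map_one]
    rw [H26.classInner_sub_left, H26.classInner_sub_right, H26.classInner_sub_right,
      S.classInner_xi_xi hodd, ho, ho', H26.classInner_irr, if_pos rfl, if_pos rfl,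
      if_pos ((S.conjIrr_eq_self hodd o).2 rfl).symm]
    ring

/-- The non-trivial irreducible constituent of an induced character. -/
noncomputable def X (l : Cfsg.IrrCharacter S.D) : Cfsg.IrrCharacter G :=
  if hl : l = H26.oneIrr S.D then ⟨_, S.isIrrCharacter_pi hodd⟩
  else ⟨_, S.isIrrCharacter_xi hodd hl⟩

lemma X_one_val : (S.X hodd (H26.oneIrr S.D)).1 =
    S.xi hodd (H26.oneIrr S.D) - (H26.oneIrr G).1 := by
  rw [X, dif_pos rfl]

lemma X_val {l : Cfsg.IrrCharacter S.D} (hl : l ≠ H26.oneIrr S.D) :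
    (S.X hodd l).1 = S.xi hodd l := by rw [X, dif_neg hl]

lemma xi_eq (l : Cfsg.IrrCharacter S.D) : S.xi hodd l =
    (S.X hodd l).1 + (if l = H26.oneIrr S.D then (1 : ℂ) else 0) • (H26.oneIrr G).1 := by
  split_ifs with h
  · subst h; rw [S.X_one_val hodd, one_smul, sub_add_cancel]
  · rw [S.X_val hodd h, zero_smul, add_zero]

lemma classInner_X_X (l m : Cfsg.IrrCharacter S.D) :
    (S.X hodd l = S.X hodd m) ↔ (m = l ∨ m = H26.conjIrr l) := by
  constructor
  · intro h
    by_contra hc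
    push Not at hc
    have h1 := S.classInner_xi_xi hodd m l
    rw [if_neg hc.1, if_neg hc.2, add_zero, S.xi_eq hodd m, S.xi_eq hodd l, h,
      H26.classInner_add_left, H26.classInner_add_right, H26.classInner_add_right,
      H26.classInner_smul_left, H26.classInner_smul_left, H26.classInner_smul_right,
      H26.classInner_smul_right, H26.classInner_irr, H26.classInner_irr, H26.classInner_irr,
      H26.classInner_irr, if_pos rfl, if_pos rfl] at h1
    by_cases hl : l = H26.oneIrr S.D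
    · have hm : m ≠ H26.oneIrr S.D := fun h' => hc.1 (h'.trans hl.symm)
      rw [if_pos hl, if_neg hm] at h1
      split_ifs at h1 <;> norm_num at h1
    · rw [if_neg hl] at h1
      simp only [map_zero, zero_mul, mul_zero, add_zero] at h1
      split_ifs at h1 <;> norm_num at h1
  · rintro (rfl | rfl)
    · rfl
    · by_cases hl : l = H26.oneIrr S.D
      · rw [(S.conjIrr_eq_self hodd l).2 hl]
      · have hl' : H26.conjIrr l ≠ H26.oneIrr S.D := fun h => hl (by
          rw [← H26.conjIrr_conjIrr l, h, (S.conjIrr_eq_self hodd _).2 rfl])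
        refine Subtype.ext (funext fun g => ?_)
        rw [S.X_val hodd hl, S.X_val hodd hl']
        have h1 := S.classInner_xi_xi hodd l (H26.conjIrr l)
        rw [if_neg (fun h => hl ((S.conjIrr_eq_self hodd l).1 h.symm)), H26.conjIrr_conjIrr,
          if_pos rfl, zero_add] at h1
        have h2 := H26.classInner_irr (⟨_, S.isIrrCharacter_xi hodd hl⟩ : Cfsg.IrrCharacter G)
          ⟨_, S.isIrrCharacter_xi hodd hl'⟩
        by_contra hne
        have : (⟨_, S.isIrrCharacter_xi hodd hl⟩ : Cfsg.IrrCharacter G) ≠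
            ⟨_, S.isIrrCharacter_xi hodd hl'⟩ := fun h => hne (congrFun (congrArg Subtype.val h) g)
        rw [if_neg this, h1] at h2
        exact one_ne_zero h2

/-- The irreducible characters orthogonal to all induced characters. -/
def IsRest (χ : Cfsg.IrrCharacter G) : Prop :=
  ∀ l : Cfsg.IrrCharacter S.D, Cfsg.classInner (S.xi hodd l) χ.1 = 0

/-- The irreducible characters orthogonal to all induced characters, as a finset. -/
noncomputable def rest : Finset (Cfsg.IrrCharacter G) :=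
  Finset.univ.filter fun χ => S.IsRest hodd χ

/-- The other irreducible characters. -/
noncomputable def others : Finset (Cfsg.IrrCharacter G) :=
  Finset.univ.filter fun χ => ¬ S.IsRest hodd χ

lemma mem_rest {χ : Cfsg.IrrCharacter G} : χ ∈ S.rest hodd ↔ S.IsRest hodd χ := by simp [rest]

lemma X_ne_one (l : Cfsg.IrrCharacter S.D) : S.X hodd l ≠ H26.oneIrr G := by
  intro h
  have h1 := S.classInner_xi_oneIrr hodd l
  rw [S.xi_eq hodd l, h, H26.classInner_add_left, H26.classInner_smul_left, H26.classInner_irr,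
    if_pos rfl] at h1
  split_ifs at h1 <;> norm_num at h1

lemma others_eq : S.others hodd = insert (H26.oneIrr G) (Finset.univ.image (S.X hodd)) := by
  ext χ
  simp only [others, IsRest, Finset.mem_filter, Finset.mem_univ, true_and, Finset.mem_insert,
    Finset.mem_image, not_forall]
  have key : ∀ l, Cfsg.classInner (S.xi hodd l) χ.1 = (if S.X hodd l = χ then 1 else 0) +
      (if l = H26.oneIrr S.D then 1 else 0) * (if H26.oneIrr G = χ then 1 else 0) := fun l => by
    rw [S.xi_eq hodd l, H26.classInner_add_left, H26.classInner_smul_left, H26.classInner_irr,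
      H26.classInner_irr]
  constructor
  · rintro ⟨l, hl⟩
    by_contra hc
    push Not at hc
    rw [key, if_neg (hc.2 l), if_neg (Ne.symm hc.1), mul_zero, add_zero] at hl
    exact hl rfl
  · rintro (rfl | ⟨l, rfl⟩)
    · refine ⟨H26.oneIrr S.D, ?_⟩
      rw [key, if_neg (S.X_ne_one hodd _), if_pos rfl, if_pos rfl]
      norm_num
    · refine ⟨l, ?_⟩
      rw [key, if_pos rfl, if_neg (S.X_ne_one hodd l).symm]
      norm_num

/-- Summation over the characters meeting the induced ones. -/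
lemma two_mul_sum_others (f : Cfsg.IrrCharacter G → ℂ) :
    2 * ∑ χ ∈ S.others hodd, f χ =
      2 * f (H26.oneIrr G) + f (S.X hodd (H26.oneIrr S.D)) + ∑ l, f (S.X hodd l) := by
  have hnot : H26.oneIrr G ∉ Finset.univ.image (S.X hodd) := by
    simp only [Finset.mem_image, Finset.mem_univ, true_and, not_exists]
    exact S.X_ne_one hodd
  rw [S.others_eq hodd, Finset.sum_insert hnot, mul_add, add_assoc]
  congr 1
  rw [← Finset.sum_fiberwise_of_maps_to (g := S.X hodd) (s := Finset.univ)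
    (t := Finset.univ.image (S.X hodd)) (fun l _ => Finset.mem_image_of_mem _ (Finset.mem_univ l))]
  have hmem : S.X hodd (H26.oneIrr S.D) ∈ Finset.univ.image (S.X hodd) :=
    Finset.mem_image_of_mem _ (Finset.mem_univ _)
  rw [← Finset.add_sum_erase _ _ hmem, ← Finset.add_sum_erase _ _ hmem, mul_add]
  have h0 : ∑ l ∈ Finset.univ.filter (fun l => S.X hodd l = S.X hodd (H26.oneIrr S.D)),
      f (S.X hodd l) = f (S.X hodd (H26.oneIrr S.D)) := by
    have : Finset.univ.filter (fun l => S.X hodd l = S.X hodd (H26.oneIrr S.D)) = {H26.oneIrr S.D} := by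
      ext l
      simp only [Finset.mem_filter, Finset.mem_univ, true_and, Finset.mem_singleton]
      refine ⟨fun h => ?_, fun h => by rw [h]⟩
      rcases (S.classInner_X_X hodd _ _).1 h.symm with h' | h'
      · exact h'
      · rwa [(S.conjIrr_eq_self hodd _).2 rfl] at h'
    rw [this, Finset.sum_singleton]
  rw [h0, ← add_assoc, two_mul, Finset.mul_sum]
  congr 1
  refine Finset.sum_congr rfl fun χ hχ => ?_
  obtain ⟨hne, hχ'⟩ := Finset.mem_erase.1 hχ
  obtain ⟨l, -, rfl⟩ := Finset.mem_image.1 hχ'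
  have hl : l ≠ H26.oneIrr S.D := fun h => hne (by rw [h])
  have : Finset.univ.filter (fun m => S.X hodd m = S.X hodd l) = {l, H26.conjIrr l} := by
    ext m
    simp only [Finset.mem_filter, Finset.mem_univ, true_and, Finset.mem_insert, Finset.mem_singleton]
    rw [eq_comm (a := S.X hodd m)]
    exact S.classInner_X_X hodd l m
  rw [this, Finset.sum_pair fun h => hl ((S.conjIrr_eq_self hodd l).1 h.symm),
    (S.classInner_X_X hodd l (H26.conjIrr l)).2 (Or.inr rfl) |>.symm, two_mul]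

lemma card_irr_D : (Fintype.card (Cfsg.IrrCharacter S.D) : ℂ) = S.e := by
  have h := H26.sum_sq_degrees (G := S.D)
  rw [Finset.sum_congr rfl (g := fun _ => (1 : ℂ)) (fun l _ => by rw [S.l_one hodd, one_pow]),
    Finset.sum_const, nsmul_eq_mul, mul_one, Finset.card_univ] at h
  exact h

end ZSetup

end Cfsg.Agent.H39
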