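import Cfsg.Agent.H39.ZassInvol
import Cfsg.Agent.H26.CharOrtho

/-!
# Counting conjugacy classes of simple Zassenhaus groups

Lower bounds for the number of classes avoiding the kernel of a point stabiliser, by counting pairs
of involutions.
-/

set_option autoImplicit false

namespace Cfsg.Agent.H39

open MulAction

namespace ZSetup

variable {G Ω : Type*} [Group G] [MulAction G Ω] [Fintype Ω] (S : ZSetup G Ω)

open scoped Classical in
/-- The set of fixed points of `g`. -/
noncomputable def fix (_S : ZSetup G Ω) (g : G) : Finset Ω := Finset.univ.filter fun x => g • x = x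

lemma mem_fix {g : G} {x : Ω} : x ∈ S.fix g ↔ g • x = x := by simp [fix]

lemma card_fix_le_two {g : G} (hg : g ≠ 1) : (S.fix g).card ≤ 2 := by
  by_contra hc
  push Not at hc
  obtain ⟨x, hx, y, hy, z, hz, hxy, hxz, hyz⟩ := Finset.two_lt_card.1 hc
  rcases S.eq_of_fix_three hg hxy (S.mem_fix.1 hx) (S.mem_fix.1 hy) (S.mem_fix.1 hz) with h | h
  · exact hxz h.symm
  · exact hyz h.symm

lemma card_fix_conj (g k : G) : (S.fix (k * g * k⁻¹)).card = (S.fix g).card := by
  refine (Finset.card_bij (fun x _ => k • x) (fun x hx => ?_) (fun x _ y _ h => smul_left_cancel k h)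
    (fun y hy => ⟨k⁻¹ • y, ?_, smul_inv_smul k y⟩)).symm
  · rw [mem_fix] at hx ⊢; rw [mul_smul, inv_smul_smul, mul_smul, hx]
  · rw [mem_fix] at hy ⊢
    rw [mul_smul, mul_smul] at hy
    exact eq_inv_smul_iff.2 hy

lemma card_fix_of_isConj {g g' : G} (h : IsConj g g') : (S.fix g).card = (S.fix g').card := by
  obtain ⟨k, rfl⟩ := isConj_iff.1 h
  exact (S.card_fix_conj g k).symm

section Count

variable [Fintype G]

open scoped Classical in
/-- The involutions. -/
noncomputable def inv2 (_S : ZSetup G Ω) : Finset G := Finset.univ.filter fun t => orderOf t = 2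

lemma mem_inv2 {t : G} : t ∈ S.inv2 ↔ orderOf t = 2 := by simp [inv2]

lemma involution_mul_self {t : G} (ht : t ∈ S.inv2) : t * t = 1 := by
  rw [← pow_two, ← S.mem_inv2.1 ht, pow_orderOf_eq_one]

open scoped Classical in
/-- The involutions `t` with `t g` an involution. -/
noncomputable def pairsAt (g : G) : Finset G := S.inv2.filter fun t => t * g ∈ S.inv2

lemma mem_pairsAt {g t : G} : t ∈ S.pairsAt g ↔ t ∈ S.inv2 ∧ t * g ∈ S.inv2 := by
  classical
  simp [pairsAt]

lemma pairsAt_conj {g t : G} (h : t ∈ S.pairsAt g) : t * g * t = g⁻¹ := by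
  obtain ⟨h1, h2⟩ := S.mem_pairsAt.1 h
  have h' : t * g * (t * g) = 1 := S.involution_mul_self h2
  exact eq_inv_of_mul_eq_one_left (by rw [mul_assoc]; exact h')

lemma pairsAt_fix {g t : G} (h : t ∈ S.pairsAt g) {x : Ω} (hx : g • x = x) :
    g • (t • x) = t • x := by
  have h1 := S.involution_mul_self (S.mem_pairsAt.1 h).1
  have h2 : g * t = t * g⁻¹ := by
    rw [← S.pairsAt_conj h]
    calc g * t = (t * t) * g * t := by rw [h1, one_mul]
      _ = t * (t * g * t) := by group
  rw [← mul_smul, h2, mul_smul, inv_smul_eq_iff.2 hx.symm]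

lemma sum_card_pairsAt : ∑ g : G, (S.pairsAt g).card = S.inv2.card * S.inv2.card := by
  classical
  rw [← Finset.card_product, ← Finset.card_sigma]
  refine Finset.card_bij (fun p _ => (p.2, p.2 * p.1)) (fun p hp => ?_) ?_ ?_
  · rw [Finset.mem_sigma, mem_pairsAt] at hp
    exact Finset.mem_product.2 hp.2
  · rintro ⟨g, t⟩ _ ⟨g', t'⟩ _ h
    obtain ⟨rfl, h'⟩ := Prod.ext_iff.1 h
    obtain rfl := mul_left_cancel h'
    rfl
  · rintro ⟨t, t'⟩ h
    rw [Finset.mem_product] at h
    refine ⟨⟨t * t', t⟩, ?_, ?_⟩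
    · rw [Finset.mem_sigma, mem_pairsAt]
      refine ⟨Finset.mem_univ _, h.1, ?_⟩
      show t * (t * t') ∈ S.inv2
      rw [← mul_assoc, S.involution_mul_self h.1, one_mul]; exact h.2
    · simp [← mul_assoc, S.involution_mul_self h.1]

lemma pairsAt_one : (S.pairsAt 1).card = S.inv2.card := by
  classical
  congr 1
  ext t
  simp [pairsAt]

lemma card_pairsAt_le_centralizer (g : G) :
    (S.pairsAt g).card ≤ Nat.card (Subgroup.centralizer ({g} : Set G)) := by
  classical
  rcases (S.pairsAt g).eq_empty_or_nonempty with h | ⟨t₀, ht₀⟩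
  · simp [h]
  rw [← Fintype.card_coe, ← Nat.card_eq_fintype_card]
  refine Nat.card_le_card_of_injective (fun t => ⟨t₀ * (t : G), ?_⟩) (fun s t h =>
    Subtype.ext (mul_left_cancel (congrArg Subtype.val h)))
  rw [Subgroup.mem_centralizer_singleton_iff]
  have h1 := S.involution_mul_self (S.mem_pairsAt.1 t.2).1
  have h2 := S.involution_mul_self (S.mem_pairsAt.1 ht₀).1
  have e1 : t.1 * g = g⁻¹ * t.1 := by
    rw [← S.pairsAt_conj t.2, mul_assoc _ t.1 t.1, h1, mul_one]
  have e2 : g * t₀ = t₀ * g⁻¹ := by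
    rw [← S.pairsAt_conj ht₀]
    calc g * t₀ = (t₀ * t₀) * g * t₀ := by rw [h2, one_mul]
      _ = t₀ * (t₀ * g * t₀) := by group
  rw [mul_assoc t₀ t.1 g, e1, ← mul_assoc, ← e2, mul_assoc]

open scoped Classical in
/-- The elements without fixed points. -/
noncomputable def fpfSet : Finset G := Finset.univ.filter fun g => (S.fix g).card = 0

open scoped Classical in
/-- The classes of the elements without fixed points. -/
noncomputable def fpfClasses : Finset (ConjClasses G) := S.fpfSet.image ConjClasses.mk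

lemma sum_fpf_le : ∑ g ∈ S.fpfSet, (S.pairsAt g).card ≤ S.fpfClasses.card * Nat.card G := by
  classical
  refine (Finset.sum_le_sum fun g _ => S.card_pairsAt_le_centralizer g).trans ?_
  rw [← Finset.sum_fiberwise_of_maps_to (g := ConjClasses.mk) (t := S.fpfClasses)
    (fun g hg => Finset.mem_image_of_mem _ hg)]
  refine (Finset.sum_le_card_nsmul _ _ _ fun C hC => ?_).trans_eq (smul_eq_mul _ _)
  obtain ⟨h, hh, rfl⟩ := Finset.mem_image.1 hC
  have e : (S.fpfSet.filter fun g => ConjClasses.mk g = ConjClasses.mk h)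
      = Finset.univ.filter fun g => ConjClasses.mk g = ConjClasses.mk h := by
    ext g
    simp only [fpfSet, Finset.mem_filter, Finset.mem_univ, true_and] at hh ⊢
    exact ⟨fun h' => h'.2, fun h' => ⟨by
      rw [S.card_fix_of_isConj (ConjClasses.mk_eq_mk_iff_isConj.1 h'), hh], h'⟩⟩
  rw [e, Finset.sum_congr rfl (g := fun _ => Nat.card (Subgroup.centralizer ({h} : Set G))) (fun g hg =>
    H26.card_centralizer_eq_of_isConj (ConjClasses.mk_eq_mk_iff_isConj.1 (Finset.mem_filter.1 hg).2)),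
    Finset.sum_const, smul_eq_mul, H26.card_class_mul_card_centralizer]

variable [IsSimpleGroup G]

lemma card_pairsAt_le_e (hodd : Odd S.e) {g : G} (hg : g ≠ 1) {x y : Ω} (hxy : x ≠ y)
    (hx : g • x = x) (hy : g • y = y) : (S.pairsAt g).card ≤ S.e := by
  classical
  rw [← S.card_swappers hodd hxy, Nat.card_eq_fintype_card, Fintype.card_subtype]
  refine Finset.card_le_card fun t ht => Finset.mem_filter.2 ⟨Finset.mem_univ _, ?_⟩
  have ht2 := S.mem_inv2.1 (S.mem_pairsAt.1 ht).1
  refine ⟨ht2, ?_⟩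
  rcases S.eq_of_fix_three hg hxy hx hy (S.pairsAt_fix ht hx) with h | h
  · exfalso
    rcases S.eq_of_fix_three hg hxy hx hy (S.pairsAt_fix ht hy) with h' | h'
    · exact hxy (smul_left_cancel t (h.trans h'.symm))
    · exact hxy (S.involution_fix_unique hodd ht2 h h')
  · exact h

open scoped Classical in
/-- The elements with exactly `n` fixed points, other than the identity. -/
noncomputable def fixSet (n : ℕ) : Finset G :=
  Finset.univ.filter fun g => g ≠ 1 ∧ (S.fix g).card = n

lemma card_stab_pair {x y : Ω} (hxy : x ≠ y) [DecidableEq Ω] :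
    (Finset.univ.filter fun g : G => g • x = x ∧ g • y = y).card = S.e := by
  classical
  obtain ⟨k, ka, kb⟩ := S.Z.two S.hab hxy
  rw [ZSetup.e, ← Fintype.card_subtype, ← Nat.card_eq_fintype_card]
  refine (Nat.card_congr ((MulAut.conj k).toEquiv.subtypeEquiv fun g => ?_)).symm
  show (g • S.a = S.a ∧ g • S.b = S.b) ↔ (MulAut.conj k g) • x = x ∧ (MulAut.conj k g) • y = y
  rw [MulAut.conj_apply, mul_smul, mul_smul, mul_smul, mul_smul, inv_smul_eq_iff.2 ka.symm,
    inv_smul_eq_iff.2 kb.symm, ← ka, ← kb, smul_left_cancel_iff, smul_left_cancel_iff]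

lemma two_mul_sum_fixTwo_le (hodd : Odd S.e) :
    2 * ∑ g ∈ S.fixSet 2, (S.pairsAt g).card ≤ (S.h + 1) * S.h * ((S.e - 1) * S.e) := by
  classical
  have hoff : (Finset.univ.offDiag : Finset (Ω × Ω)).card = (S.h + 1) * S.h := by
    rw [Finset.offDiag_card, Finset.card_univ, S.card_omega]
    exact Nat.sub_eq_of_eq_add (by ring)
  have h1 : 2 * ∑ g ∈ S.fixSet 2, (S.pairsAt g).card
      = ∑ p ∈ (Finset.univ.offDiag : Finset (Ω × Ω)),
          ∑ g ∈ (S.fixSet 2).filter (fun g => p ∈ (S.fix g).offDiag), (S.pairsAt g).card := by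
    simp only [Finset.sum_filter]
    rw [Finset.sum_comm, Finset.mul_sum]
    refine Finset.sum_congr rfl fun g hg => ?_
    rw [← Finset.sum_filter, Finset.sum_const, smul_eq_mul]
    have : ((Finset.univ.offDiag : Finset (Ω × Ω)).filter fun p => p ∈ (S.fix g).offDiag)
        = (S.fix g).offDiag := by
      ext p; simp [Finset.mem_offDiag]
    rw [this, Finset.offDiag_card, (Finset.mem_filter.1 hg).2.2]
  rw [h1]
  refine (Finset.sum_le_card_nsmul _ _ ((S.e - 1) * S.e) fun p hp => ?_).trans_eq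
    (by rw [hoff, smul_eq_mul])
  obtain ⟨x, y⟩ := p
  have hxy : x ≠ y := (Finset.mem_offDiag.1 hp).2.2
  refine (Finset.sum_le_card_nsmul _ _ S.e fun g hg => ?_).trans ?_
  · rw [Finset.mem_filter, Finset.mem_offDiag, mem_fix, mem_fix] at hg
    exact S.card_pairsAt_le_e hodd (Finset.mem_filter.1 hg.1).2.1 hxy hg.2.1 hg.2.2.1
  · rw [smul_eq_mul]
    refine Nat.mul_le_mul_right _ ?_
    rw [← S.card_stab_pair hxy, ← Finset.card_erase_of_mem (a := (1 : G)) (by simp)]
    refine Finset.card_le_card fun g hg => ?_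
    rw [Finset.mem_filter, Finset.mem_offDiag, mem_fix, mem_fix] at hg
    simp [(Finset.mem_filter.1 hg.1).2.1, hg.2.1, hg.2.2.1]

lemma card_inv2 (hodd : Odd S.e) :
    S.inv2.card = if Even S.h then S.e * (S.h + 1) else S.e * S.h := by
  classical
  rw [← S.card_involutions hodd, Nat.card_eq_fintype_card, Fintype.card_subtype]
  rfl

lemma card_inv2_fixing (hodd : Odd S.e) (he : Even S.h) (x : Ω) [DecidableEq Ω] :
    (S.inv2.filter fun t => t • x = x).card = S.e := by
  classical
  haveI : IsPretransitive G Ω := H7.ZHyp.transitive S.Z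
  have hall : ∀ y : Ω, (S.inv2.filter fun t => t • y = y).card
      = (S.inv2.filter fun t => t • x = x).card := fun y => by
    obtain ⟨k, hk⟩ := exists_smul_eq G x y
    refine (Finset.card_bij (fun t _ => k * t * k⁻¹) (fun t ht => ?_)
      (fun s _ t _ h => mul_left_cancel (mul_right_cancel h)) (fun t ht => ⟨k⁻¹ * t * k, ?_, by group⟩)).symm
    · rw [Finset.mem_filter, mem_inv2] at ht ⊢
      refine ⟨by rw [← MulAut.conj_apply, MulEquiv.orderOf_eq, ht.1], ?_⟩
      rw [mul_smul, mul_smul, inv_smul_eq_iff.2 hk.symm, ht.2, hk]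
    · rw [Finset.mem_filter, mem_inv2] at ht ⊢
      refine ⟨?_, by rw [mul_smul, mul_smul, hk, ht.2, inv_smul_eq_iff.2 hk.symm]⟩
      rw [← ht.1, ← MulEquiv.orderOf_eq (MulAut.conj k) (k⁻¹ * t * k), MulAut.conj_apply]
      congr 1; group
  have h1 : ∑ y : Ω, (S.inv2.filter fun t => t • y = y).card = S.inv2.card := by
    simp only [Finset.card_filter]
    rw [Finset.sum_comm, Finset.sum_congr rfl (g := fun _ => 1) (fun t ht => ?_)]
    · simp
    · rw [← Finset.card_filter]
      have := S.card_fixedBy_involution hodd (S.mem_inv2.1 ht)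
      rw [if_pos he, Nat.card_eq_fintype_card, ← Set.toFinset_card] at this
      convert this using 2
      ext y; simp
  rw [Finset.sum_congr rfl fun y _ => hall y, Finset.sum_const, Finset.card_univ, S.card_omega,
    smul_eq_mul, S.card_inv2 hodd, if_pos he, mul_comm S.e] at h1
  exact Nat.eq_of_mul_eq_mul_left (Nat.succ_pos _) h1

lemma fixOne_fix (hodd : Odd S.e) {g t : G} (hg : g ∈ S.fixSet 1) (ht : t ∈ S.pairsAt g) :
    ∃ x : Ω, S.fix g = {x} ∧ t • x = x ∧ (t * g) • x = x := by
  classical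
  obtain ⟨x, hx⟩ := Finset.card_eq_one.1 (Finset.mem_filter.1 hg).2.2
  have hgx : g • x = x := S.mem_fix.1 (by rw [hx]; exact Finset.mem_singleton_self x)
  have htx : t • x = x := by
    have h := S.mem_fix.2 (S.pairsAt_fix ht hgx)
    rw [hx, Finset.mem_singleton] at h
    exact h
  exact ⟨x, hx, htx, by rw [mul_smul, hgx, htx]⟩

lemma sum_fixOne_le (hodd : Odd S.e) :
    ∑ g ∈ S.fixSet 1, (S.pairsAt g).card ≤
      if Even S.h then (S.h + 1) * (S.e * (S.e - 1)) else 0 := by
  classical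
  split_ifs with he
  · rw [← Finset.card_sigma]
    calc _ ≤ (Finset.univ.sigma fun x : Ω => (S.inv2.filter fun t => t • x = x).offDiag).card := ?_
      _ = _ := by
        rw [Finset.card_sigma, Finset.sum_congr rfl (g := fun _ => S.e * (S.e - 1)) (fun x _ => by
          rw [Finset.offDiag_card, S.card_inv2_fixing hodd he x, Nat.mul_sub, mul_one])]
        rw [Finset.sum_const, Finset.card_univ, S.card_omega, smul_eq_mul]
    have key : ∀ p ∈ (S.fixSet 1).sigma (fun g => S.pairsAt g), ∃ x : Ω,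
        S.fix p.1 = {x} ∧ p.2 • x = x ∧ (p.2 * p.1) • x = x := fun p hp =>
      S.fixOne_fix hodd (Finset.mem_sigma.1 hp).1 (Finset.mem_sigma.1 hp).2
    refine Finset.card_le_card_of_injOn
      (fun p => if hp : p ∈ (S.fixSet 1).sigma (fun g => S.pairsAt g)
        then ⟨(key p hp).choose, (p.2, p.2 * p.1)⟩ else ⟨S.a, (1, 1)⟩) (fun p hp => ?_) ?_
    · simp only [Finset.mem_coe] at hp
      simp only [dif_pos hp, Finset.mem_coe]
      obtain ⟨-, h2, h3⟩ := (key p hp).choose_spec
      have hp' := Finset.mem_sigma.1 hp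
      obtain ⟨h4, h5⟩ := S.mem_pairsAt.1 hp'.2
      refine Finset.mem_sigma.2 ⟨Finset.mem_univ _, Finset.mem_offDiag.2
        ⟨Finset.mem_filter.2 ⟨h4, h2⟩, Finset.mem_filter.2 ⟨h5, h3⟩, fun h => ?_⟩⟩
      exact (Finset.mem_filter.1 hp'.1).2.1 (by simpa using h)
    · rintro ⟨g, t⟩ hp ⟨g', t'⟩ hp' h
      simp only [Finset.mem_coe] at hp hp'
      simp only [dif_pos hp, dif_pos hp', Sigma.mk.injEq, heq_eq_eq, Prod.mk.injEq] at h
      obtain ⟨-, rfl, h'⟩ := h
      obtain rfl := mul_left_cancel h'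
      rfl
  · refine le_of_eq (Finset.sum_eq_zero fun g hg => Finset.card_eq_zero.2 ?_)
    refine Finset.eq_empty_of_forall_notMem fun t ht => ?_
    obtain ⟨x, -, htx, -⟩ := S.fixOne_fix hodd hg ht
    have h0 := S.card_fixedBy_involution hodd (S.mem_inv2.1 (S.mem_pairsAt.1 ht).1)
    rw [if_neg he, Nat.card_eq_fintype_card, Fintype.card_eq_zero_iff] at h0
    exact h0.false ⟨x, htx⟩

/-- There are at least `(e + 1) / 2` classes of elements without fixed points. -/
lemma two_mul_fpfClasses_ge (hodd : Odd S.e) : S.e + 1 ≤ 2 * S.fpfClasses.card := by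
  classical
  have hsplit : ∑ g : G, (S.pairsAt g).card = (S.pairsAt 1).card + (∑ g ∈ S.fpfSet, (S.pairsAt g).card +
      ∑ g ∈ S.fixSet 1, (S.pairsAt g).card + ∑ g ∈ S.fixSet 2, (S.pairsAt g).card) := by
    rw [← Finset.add_sum_erase _ _ (Finset.mem_univ (1 : G))]
    congr 1
    have hu : (Finset.univ.erase (1 : G)) = (S.fpfSet ∪ S.fixSet 1) ∪ S.fixSet 2 := by
      ext g
      simp only [Finset.mem_erase, Finset.mem_univ, and_true, Finset.mem_union, fpfSet, fixSet,
        Finset.mem_filter, true_and]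
      refine ⟨fun hg => ?_, fun h => ?_⟩
      · have := S.card_fix_le_two hg
        interval_cases h : (S.fix g).card <;> simp [hg]
      · rcases h with (h | h) | h
        · intro h1
          subst h1
          exact Finset.card_ne_zero_of_mem (S.mem_fix.2 (one_smul G S.a)) h
        · exact h.1
        · exact h.1
    rw [hu, Finset.sum_union, Finset.sum_union]
    · rw [Finset.disjoint_left]
      intro g h1 h2
      simp only [fpfSet, fixSet, Finset.mem_filter] at h1 h2
      omega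
    · rw [Finset.disjoint_left]
      intro g h1 h2
      simp only [Finset.mem_union, fpfSet, fixSet, Finset.mem_filter] at h1 h2
      omega
  rw [S.sum_card_pairsAt, S.pairsAt_one] at hsplit
  have h0 := S.sum_fpf_le
  have h1 := S.sum_fixOne_le hodd
  have h2 := S.two_mul_sum_fixTwo_le hodd
  rw [S.card_G] at h0
  rw [S.card_inv2 hodd] at hsplit
  have he1 := S.two_le_e
  have hlt := S.e_lt_h
  obtain ⟨m, hm⟩ := hodd
  set s := S.fpfClasses.card
  set A := ∑ g ∈ S.fpfSet, (S.pairsAt g).card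
  set B := ∑ g ∈ S.fixSet 1, (S.pairsAt g).card
  set C := ∑ g ∈ S.fixSet 2, (S.pairsAt g).card
  obtain ⟨f, hf⟩ : ∃ f, S.e = f + 1 := ⟨S.e - 1, by omega⟩
  rw [show S.e - 1 = f by omega] at h1 h2
  rw [hf] at h0 h1 h2 hsplit hlt hm ⊢
  by_contra hs
  push Not at hs
  have hs' : 2 * s ≤ f := by omega
  have hsf : 2 * A ≤ f * ((S.h + 1) * S.h * (f + 1)) :=
    calc 2 * A ≤ 2 * (s * ((S.h + 1) * S.h * (f + 1))) := Nat.mul_le_mul_left 2 h0
      _ = (2 * s) * ((S.h + 1) * S.h * (f + 1)) := by ring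
      _ ≤ _ := Nat.mul_le_mul_right _ hs'
  split_ifs at hsplit h1 with hev
  · nlinarith [Nat.mul_le_mul_left (S.h + 1) (Nat.mul_le_mul_left (f + 1) hlt)]
  · nlinarith [Nat.mul_le_mul_left S.h (Nat.mul_le_mul_left (f + 1) hlt)]

omit [IsSimpleGroup G] in
lemma mem_fpfClasses {C : ConjClasses G} (hC : C ∈ S.fpfClasses) {g : G}
    (hg : ConjClasses.mk g = C) : (S.fix g).card = 0 := by
  classical
  obtain ⟨g0, hg0, rfl⟩ := Finset.mem_image.1 hC
  rw [S.card_fix_of_isConj (ConjClasses.mk_eq_mk_iff_isConj.1 hg)]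
  exact (Finset.mem_filter.1 hg0).2

omit [IsSimpleGroup G] in
lemma fix_nonempty_of_mem_N {g : G} (hg : g ∈ S.N) : (S.fix g).card ≠ 0 :=
  Finset.card_ne_zero_of_mem (S.mem_fix.2 (S.mem_N.1 hg))

/-- Conjugate non-identity elements of `D` are equal or mutually inverse. -/
lemma conj_in_D (hodd : Odd S.e) {d f : G} (hd : d ∈ S.D) (hd1 : d ≠ 1) (hf : f ∈ S.D)
    (h : IsConj d f) : f = d ∨ f = d⁻¹ := by
  obtain ⟨k, hk⟩ := isConj_iff.1 h
  rcases S.pair_of_conj_mem_D hd hd1 (hk ▸ hf) with hkd | ⟨ha, hb⟩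
  · left
    rw [← hk, (S.D_abelian hodd).1 k (S.mem_D.2 hkd) d hd, mul_inv_cancel_right]
  · exact Or.inr (hk ▸ (S.swapper hodd ha hb).2.2 d hd)

/-- At least `e` classes avoid `H`. -/
lemma card_classes_avoiding (hodd : Odd S.e) :
    S.e ≤ Nat.card {C : ConjClasses G // ∀ g : G, ConjClasses.mk g = C → g ∉ S.H} := by
  classical
  let Ds : Finset G := Finset.univ.filter fun d => d ∈ S.D ∧ d ≠ 1
  have hDs : Ds.card + 1 = S.e := by
    rw [ZSetup.e, Nat.card_eq_fintype_card, Fintype.card_subtype]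
    have : Ds = (Finset.univ.filter fun d => d ∈ S.D).erase 1 := by
      ext d; simp [Ds, and_comm]
    rw [this, Finset.card_erase_of_mem (by simp)]
    have : 0 < (Finset.univ.filter fun d => d ∈ S.D).card := Finset.card_pos.2 ⟨1, by simp⟩
    omega
  have hhalf : Ds.card ≤ 2 * (Ds.image ConjClasses.mk).card := by
    refine Finset.card_le_mul_card_image _ 2 fun C hC => ?_
    obtain ⟨d, hd, rfl⟩ := Finset.mem_image.1 hC
    refine (Finset.card_le_card (t := {d, d⁻¹}) fun f hf => ?_).trans Finset.card_le_two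
    simp only [Finset.mem_filter, Ds, Finset.mem_univ, true_and] at hd hf
    rw [Finset.mem_insert, Finset.mem_singleton]
    exact S.conj_in_D hodd hd.1 hd.2 hf.1.1 (ConjClasses.mk_eq_mk_iff_isConj.1 hf.2.symm)
  have hdisj : Disjoint S.fpfClasses (Ds.image ConjClasses.mk) := by
    rw [Finset.disjoint_left]
    intro C h1 h2
    obtain ⟨d, hd, rfl⟩ := Finset.mem_image.1 h2
    exact S.fix_nonempty_of_mem_N (Finset.mem_filter.1 hd).2.1.1 (S.mem_fpfClasses h1 rfl)
  have hsub : ∀ C ∈ S.fpfClasses ∪ Ds.image ConjClasses.mk, ∀ g : G, ConjClasses.mk g = C → g ∉ S.H := by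
    intro C hC g hg hgH
    rcases Finset.mem_union.1 hC with h | h
    · exact S.fix_nonempty_of_mem_N (S.hHa hgH) (S.mem_fpfClasses h hg)
    · obtain ⟨d, hd, rfl⟩ := Finset.mem_image.1 h
      obtain ⟨hdD, hd1⟩ := (Finset.mem_filter.1 hd).2
      obtain ⟨k, hk⟩ := isConj_iff.1 (ConjClasses.mk_eq_mk_iff_isConj.1 hg.symm)
      have hg1 : g ≠ 1 := fun h => hd1 (conj_eq_one_iff.1 (hk.trans h))
      have h1 : g • (k • S.a) = k • S.a := by rw [← hk, mul_smul, inv_smul_smul, mul_smul, hdD.1]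
      have h2 : g • (k • S.b) = k • S.b := by rw [← hk, mul_smul, inv_smul_smul, mul_smul, hdD.2]
      exact S.hab (smul_left_cancel k ((S.hHfix g hgH hg1 _ h1).trans (S.hHfix g hgH hg1 _ h2).symm))
  have hcard : (S.fpfClasses ∪ Ds.image ConjClasses.mk).card ≤
      Nat.card {C : ConjClasses G // ∀ g : G, ConjClasses.mk g = C → g ∉ S.H} := by
    rw [← Fintype.card_coe, ← Nat.card_eq_fintype_card]
    exact Nat.card_le_card_of_injective (fun C => ⟨C.1, hsub C.1 C.2⟩)
      fun x y h => Subtype.ext (by simpa using congrArg Subtype.val h)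
  rw [Finset.card_union_of_disjoint hdisj] at hcard
  have := S.two_mul_fpfClasses_ge hodd
  omega

end Count

end ZSetup

end Cfsg.Agent.H39
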