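import Cfsg.Agent.H39.ZassSimple
import Cfsg.Agent.H37.Zassenhaus
import Cfsg.Agent.H19.Misc
import Mathlib.Algebra.BigOperators.Group.Finset.Sigma
import Mathlib.GroupTheory.Perm.Cycle.Type

/-!
# Involutions of simple Zassenhaus groups with two point stabiliser of odd order
-/

set_option autoImplicit false

namespace Cfsg.Agent.H39

open MulAction

namespace ZSetup

variable {G Ω : Type*} [Group G] [MulAction G Ω] [Fintype Ω] (S : ZSetup G Ω)

include S in
lemma faithful_ne_one {g : G} (hg : g ≠ 1) : ∃ x : Ω, g • x ≠ x := by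
  haveI := S.Z.faithful
  by_contra hc
  push Not at hc
  exact hg (eq_of_smul_eq_smul fun x : Ω => (hc x).trans (one_smul G x).symm)

/-- An element fixing two points is conjugate into `D`. -/
lemma exists_conj_D_of_fix {g : G} {x y : Ω} (hxy : x ≠ y) (hx : g • x = x) (hy : g • y = y) :
    ∃ k : G, k • S.a = x ∧ k • S.b = y ∧ k⁻¹ * g * k ∈ S.D := by
  obtain ⟨k, ka, kb⟩ := S.Z.two S.hab hxy
  refine ⟨k, ka, kb, S.mem_D.2 ⟨?_, ?_⟩⟩
  · rw [mul_smul, mul_smul, ka, hx, ← ka, inv_smul_smul]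
  · rw [mul_smul, mul_smul, kb, hy, ← kb, inv_smul_smul]

/-- An involution has at most one fixed point. -/
lemma involution_fix_unique (hodd : Odd S.e) {t : G} (ht : orderOf t = 2) {x y : Ω}
    (hx : t • x = x) (hy : t • y = y) : x = y := by
  haveI := S.finite
  by_contra hxy
  obtain ⟨k, -, -, hk⟩ := S.exists_conj_D_of_fix hxy hx hy
  have h2 : orderOf (k⁻¹ * t * k) = 2 := by
    rw [← ht, ← MulEquiv.orderOf_eq (MulAut.conj k) (k⁻¹ * t * k), MulAut.conj_apply]
    congr 1; group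
  have hd : orderOf (⟨k⁻¹ * t * k, hk⟩ : S.D) ∣ S.e := orderOf_dvd_natCard _
  rw [← Subgroup.orderOf_coe] at hd
  exact hodd.not_two_dvd_nat (h2 ▸ hd)

omit [Fintype Ω] in
lemma _root_.Cfsg.Agent.H39.involution_smul_smul {t : G} (ht : orderOf t = 2) (x : Ω) :
    t • (t • x) = x := by
  rw [← mul_smul, ← pow_two, ← ht, pow_orderOf_eq_one, one_smul]

variable [IsSimpleGroup G]

/-- The involutions exchanging a given pair of points. -/
lemma swapper_iff (hodd : Odd S.e) {g : G} :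
    (orderOf g = 2 ∧ g • S.a = S.b) ↔ (g • S.a = S.b ∧ g • S.b = S.a) := by
  refine ⟨fun ⟨h, ha⟩ => ⟨ha, by rw [← ha]; exact involution_smul_smul h _⟩, fun ⟨ha, hb⟩ => ?_⟩
  obtain ⟨h1, h2, -⟩ := S.swapper hodd ha hb
  exact ⟨orderOf_eq_prime (by rw [pow_two, h1]) h2, ha⟩

lemma card_swappers_base (hodd : Odd S.e) :
    Nat.card {t : G // orderOf t = 2 ∧ t • S.a = S.b} = S.e := by
  haveI := S.finite
  refine (Nat.card_eq_of_bijective
    (fun d : S.D => ⟨(d : G) * S.w, (S.swapper_iff hodd).2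
      ⟨by rw [mul_smul, S.w_a]; exact d.2.2, by rw [mul_smul, S.w_b]; exact d.2.1⟩⟩) ⟨?_, ?_⟩).symm
  · intro x y h
    exact Subtype.ext (mul_right_cancel (congrArg Subtype.val h))
  · rintro ⟨t, ht⟩
    obtain ⟨ha, hb⟩ := (S.swapper_iff hodd).1 ht
    exact ⟨⟨_, S.mul_w_inv_mem_D ha hb⟩, Subtype.ext (inv_mul_cancel_right _ _)⟩

/-- Every pair of points is exchanged by exactly `e` involutions. -/
lemma card_swappers (hodd : Odd S.e) {x y : Ω} (hxy : x ≠ y) :
    Nat.card {t : G // orderOf t = 2 ∧ t • x = y} = S.e := by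
  rw [← S.card_swappers_base hodd]
  obtain ⟨k, ka, kb⟩ := S.Z.two S.hab hxy
  refine (Nat.card_congr ((MulAut.conj k).toEquiv.subtypeEquiv fun t => ?_)).symm
  show (orderOf t = 2 ∧ _) ↔ orderOf (MulAut.conj k t) = 2 ∧ (MulAut.conj k t) • x = y
  rw [MulEquiv.orderOf_eq, MulAut.conj_apply, mul_smul, mul_smul, inv_smul_eq_iff.2 ka.symm,
    ← kb, smul_left_cancel_iff]

/-- All involutions are conjugate. -/
lemma involutions_conj (hodd : Odd S.e) {x y : G} (hx : orderOf x = 2) (hy : orderOf y = 2) :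
    IsConj x y := by
  haveI := S.finite
  suffices key : ∀ t : G, orderOf t = 2 → IsConj S.w t from (key x hx).symm.trans (key y hy)
  intro t ht
  obtain ⟨c, hc⟩ := S.faithful_ne_one (g := t) (fun h => by rw [h, orderOf_one] at ht; omega)
  obtain ⟨k, ka, kb⟩ := S.Z.two hc.symm S.hab
  have ha : (k * t * k⁻¹) • S.a = S.b := by
    rw [mul_smul, mul_smul, inv_smul_eq_iff.2 ka.symm, kb]
  have hb : (k * t * k⁻¹) • S.b = S.a := by
    rw [mul_smul, mul_smul, inv_smul_eq_iff.2 kb.symm, involution_smul_smul ht, ka]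
  have hd := S.mul_w_inv_mem_D ha hb
  obtain ⟨hcomm, hinv⟩ := S.D_abelian hodd
  -- a square root of `k t k⁻¹ w⁻¹` in `D`
  obtain ⟨j, hj⟩ := exists_pow_eq_self_of_coprime (x := (⟨_, hd⟩ : S.D)) (n := 2)
    ((Nat.coprime_two_left.2 hodd).coprime_dvd_right (orderOf_dvd_natCard _))
  set r : S.D := (⟨_, hd⟩ : S.D) ^ j
  have hr : r * r = ⟨_, hd⟩ := by
    rw [← pow_add, ← two_mul, pow_mul]
    exact hj
  have hr' : (r : G) * r = k * t * k⁻¹ * S.w⁻¹ := congrArg Subtype.val hr
  refine isConj_iff.2 ⟨k⁻¹ * r, ?_⟩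
  have hw := hinv (r : G) r.2
  have e1 : S.w * (r : G)⁻¹ = r * S.w := by
    have h := hinv ((r : G)⁻¹) (inv_mem r.2)
    rw [inv_inv, mul_inv_eq_iff_eq_mul] at h
    exact h
  calc k⁻¹ * (r : G) * S.w * (k⁻¹ * r)⁻¹ = k⁻¹ * (r * (S.w * (r : G)⁻¹)) * k := by group
    _ = k⁻¹ * ((r : G) * r * S.w) * k := by rw [e1]; group
    _ = t := by rw [hr']; group

omit [IsSimpleGroup G] in
lemma card_fixedBy_involution (hodd : Odd S.e) {t : G} (ht : orderOf t = 2) :
    Nat.card (fixedBy Ω t) = (if Even S.h then 1 else 0) := by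
  have h1 : Nat.card (fixedBy Ω t) ≤ 1 := by
    refine Finite.card_le_one_iff_subsingleton.2 ⟨fun x y => Subtype.ext ?_⟩
    exact S.involution_fix_unique hodd ht x.2 y.2
  have h2 := H37.card_fixedBy_mod_two (Ω := Ω) (g := t)
    (by rw [← pow_two, ← ht, pow_orderOf_eq_one])
  rw [S.card_omega] at h2
  split_ifs with he
  · obtain ⟨m, hm⟩ := he; omega
  · obtain ⟨m, hm⟩ := Nat.not_even_iff_odd.1 he; omega

/-- The number of involutions. -/
lemma card_involutions (hodd : Odd S.e) :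
    Nat.card {t : G // orderOf t = 2} = (if Even S.h then S.e * (S.h + 1) else S.e * S.h) := by
  classical
  haveI := S.finite
  haveI := Fintype.ofFinite G
  -- count the triples `(t, x)` with `t x ≠ x`
  have e1 : (Σ t : {t : G // orderOf t = 2}, {x : Ω // (t : G) • x ≠ x}) ≃
      Σ p : {p : Ω × Ω // p.1 ≠ p.2}, {t : G // orderOf t = 2 ∧ t • p.1.1 = p.1.2} :=
    { toFun := fun q => ⟨⟨(q.2.1, (q.1 : G) • q.2.1), q.2.2.symm⟩, q.1.1, q.1.2, rfl⟩
      invFun := fun q => ⟨⟨q.2.1, q.2.2.1⟩, q.1.1.1, fun h => q.1.2 (h.symm.trans q.2.2.2)⟩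
      left_inv := fun _ => rfl
      right_inv := fun q => by
        obtain ⟨⟨⟨x, y⟩, hxy⟩, t, ht, hty⟩ := q
        obtain rfl : t • x = y := hty
        rfl }
  have hc := Nat.card_congr e1
  rw [Nat.card_sigma, Nat.card_sigma] at hc
  have hpairs : Fintype.card {p : Ω × Ω // p.1 ≠ p.2} = (S.h + 1) * S.h := by
    rw [Fintype.card_subtype]
    have : (Finset.univ.filter fun p : Ω × Ω => p.1 ≠ p.2) = Finset.univ.offDiag := by ext; simp
    rw [this, Finset.offDiag_card, Finset.card_univ, S.card_omega]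
    exact Nat.sub_eq_of_eq_add (by ring)
  rw [Finset.sum_congr rfl (g := fun _ => S.e) (fun p _ => S.card_swappers hodd p.2),
    Finset.sum_const, Finset.card_univ, hpairs, smul_eq_mul] at hc
  have hmoved : ∀ t : {t : G // orderOf t = 2},
      Nat.card {x : Ω // (t : G) • x ≠ x} + (if Even S.h then 1 else 0) = S.h + 1 := by
    intro t
    rw [← S.card_fixedBy_involution hodd t.2, ← S.card_omega, Nat.card_eq_fintype_card,
      Nat.card_eq_fintype_card, Fintype.card_subtype_compl]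
    have := Fintype.card_subtype_le (fun x : Ω => (t : G) • x = x)
    change _ + Fintype.card {x : Ω // (t : G) • x = x} = _
    omega
  have h2 := S.two_le_h
  rw [Nat.card_eq_fintype_card]
  split_ifs at hmoved ⊢ with he
  · rw [Finset.sum_congr rfl (g := fun _ => S.h) (fun t _ => by have := hmoved t; omega),
      Finset.sum_const, Finset.card_univ, smul_eq_mul] at hc
    refine Nat.eq_of_mul_eq_mul_right (show 0 < S.h by omega) ?_
    rw [hc]; ring
  · rw [Finset.sum_congr rfl (g := fun _ => S.h + 1) (fun t _ => by have := hmoved t; omega),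
      Finset.sum_const, Finset.card_univ, smul_eq_mul] at hc
    refine Nat.eq_of_mul_eq_mul_right (show 0 < S.h + 1 by omega) ?_
    rw [hc]; ring

/-- If a non-identity element of `H` is a product of two involutions, it is an involution. -/
lemma orderOf_eq_two_of_product (hodd : Odd S.e) {u x y : G} (hu : u ∈ S.H) (hu1 : u ≠ 1)
    (hx : orderOf x = 2) (hy : orderOf y = 2) (hxy : x * y = u) : orderOf u = 2 := by
  classical
  haveI := S.finite
  have hx2 : x * x = 1 := by rw [← pow_two, ← hx, pow_orderOf_eq_one]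
  have hy2 : y * y = 1 := by rw [← pow_two, ← hy, pow_orderOf_eq_one]
  have hxinv : x⁻¹ = x := inv_eq_of_mul_eq_one_right hx2
  have hyinv : y⁻¹ = y := inv_eq_of_mul_eq_one_right hy2
  -- `x` inverts `u`, so fixes `a`
  have hxN : x ∈ S.N := S.mem_N_of_conj_mem_H hu hu1 (by
    have : x * u * x⁻¹ = u⁻¹ := by
      rw [← hxy, hxinv, mul_inv_rev, hxinv, hyinv]
      calc x * (x * y) * x = (x * x) * y * x := by group
        _ = y * x := by rw [hx2, one_mul]
    rw [this]; exact inv_mem hu)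
  have hyN : y ∈ S.N := by
    have : y = x * u := by rw [← hxy, ← mul_assoc, hx2, one_mul]
    rw [this]; exact mul_mem hxN (S.hHa hu)
  have hmem : ∀ t : G, orderOf t = 2 → t ∈ S.N → t ∈ S.H := fun t ht htN =>
    S.mem_H_of_free htN fun z hz => S.involution_fix_unique hodd ht hz (S.mem_N.1 htN)
  have hxH := hmem x hx hxN
  have hyH := hmem y hy hyN
  -- all involutions of `H` are central in `H`
  haveI := S.H_nilpotent
  haveI : Nontrivial S.H := ⟨⟨⟨u, hu⟩, 1, fun h => hu1 (congrArg Subtype.val h)⟩⟩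
  haveI : Fact (Nat.Prime 2) := ⟨Nat.prime_two⟩
  obtain ⟨s, hs, hsc⟩ : ∃ s : S.H, orderOf s = 2 ∧ s ∈ Subgroup.center S.H := by
    have h2 : 2 ∣ Nat.card S.H := by
      rw [← hx, ← Subgroup.orderOf_mk x hxH]
      exact orderOf_dvd_natCard _
    let P : Sylow 2 S.H := default
    haveI hPn : (P : Subgroup S.H).Normal :=
      ((Group.isNilpotent_of_finite_tfae (G := S.H)).out 0 3 rfl rfl).mp inferInstance 2 ⟨Nat.prime_two⟩ P
    have hne := H19.inf_center_ne_bot (P : Subgroup S.H) (P.ne_bot_of_dvd_card h2)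
    haveI : Nontrivial ↥((P : Subgroup S.H) ⊓ Subgroup.center S.H) :=
      (Subgroup.nontrivial_iff_ne_bot _).2 hne
    have hp := P.2.to_le (inf_le_left : (P : Subgroup S.H) ⊓ Subgroup.center S.H ≤ P)
    obtain ⟨n, hn, hcard⟩ := hp.nontrivial_iff_card.1 inferInstance
    obtain ⟨z, hz⟩ := exists_prime_orderOf_dvd_card' 2 (hcard ▸ dvd_pow_self 2 hn.ne')
    exact ⟨z.1, by rwa [Subgroup.orderOf_coe], z.2.2⟩
  have hcentral : ∀ t : G, orderOf t = 2 → t ∈ S.H → ∀ v ∈ S.H, v * t = t * v := by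
    intro t ht htH v hv
    obtain ⟨k, hk⟩ := isConj_iff.1 (S.involutions_conj hodd (x := (s : G)) (y := t)
      (by rw [Subgroup.orderOf_coe, hs]) ht)
    have hs1 : (s : G) ≠ 1 := fun h => by
      have : s = 1 := Subtype.ext h
      rw [this, orderOf_one] at hs
      omega
    have hkN : k ∈ S.N := S.mem_N_of_conj_mem_H s.2 hs1 (hk ▸ htH)
    have hv' : k⁻¹ * v * k ∈ S.H := by
      have := S.conj_mem_H (inv_mem hkN) hv
      rwa [inv_inv] at this
    have h : (k⁻¹ * v * k) * (s : G) = (s : G) * (k⁻¹ * v * k) :=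
      congrArg Subtype.val (Subgroup.mem_center_iff.1 hsc ⟨_, hv'⟩)
    rw [← hk]
    calc v * (k * s * k⁻¹) = k * ((k⁻¹ * v * k) * s) * k⁻¹ := by group
      _ = k * ((s : G) * (k⁻¹ * v * k)) * k⁻¹ := by rw [h]
      _ = k * s * k⁻¹ * v := by group
  refine orderOf_eq_prime ?_ hu1
  rw [← hxy, pow_two]
  calc x * y * (x * y) = x * (y * x) * y := by group
    _ = x * (x * y) * y := by rw [hcentral x hx hxH y hyH]
    _ = (x * x) * (y * y) := by group
    _ = 1 := by rw [hx2, hy2, one_mul]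

end ZSetup

end Cfsg.Agent.H39
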