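import Cfsg.Agent.H7.ZassBasic

/-!
# Zassenhaus groups: a pair of points and the regular normal subgroup of a point stabiliser
-/

set_option autoImplicit false

namespace Cfsg.Agent.H39

open MulAction

/-- A Zassenhaus group with two chosen points `a`, `b` and the kernel `H` of the stabiliser of `a`. -/
structure ZSetup (G Ω : Type*) [Group G] [MulAction G Ω] [Fintype Ω] where
  a : Ω
  b : Ω
  hab : a ≠ b
  Z : H7.ZHyp G Ω
  H : Subgroup G
  hHa : H ≤ stabilizer G a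
  hHcard : Nat.card H + 1 = Fintype.card Ω
  hHfix : ∀ u ∈ H, u ≠ 1 → ∀ c : Ω, u • c = c → c = a

namespace ZSetup

variable {G Ω : Type*} [Group G] [MulAction G Ω] [Fintype Ω] (S : ZSetup G Ω)

/-- The stabiliser of `a`. -/
abbrev N : Subgroup G := stabilizer G S.a

/-- The stabiliser of `a` and `b`. -/
abbrev D : Subgroup G := stabilizer G S.a ⊓ stabilizer G S.b

/-- The number of points less one. -/
noncomputable def h : ℕ := Nat.card S.H

/-- The order of the two point stabiliser. -/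
noncomputable def e : ℕ := Nat.card S.D

lemma card_omega : Fintype.card Ω = S.h + 1 := S.hHcard.symm

include S in
lemma finite : Finite G := S.Z.finite

lemma mem_N {g : G} : g ∈ S.N ↔ g • S.a = S.a := Iff.rfl

lemma mem_D {g : G} : g ∈ S.D ↔ g • S.a = S.a ∧ g • S.b = S.b := Iff.rfl

/-- `H` consists of all elements of the stabiliser without further fixed points, and is nilpotent. -/
lemma H_eq_kernel : ∃ U : Subgroup G, S.H = U ∧
    (∀ g ∈ S.N, ∀ u ∈ U, g * u * g⁻¹ ∈ U) ∧ Group.IsNilpotent U ∧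
    (∀ y z : Ω, y ≠ S.a → z ≠ S.a → ∃! u : U, (u : G) • y = z) ∧
    (∀ g ∈ S.N, (∀ y, y ≠ S.a → g • y ≠ y) → g ∈ U) := by
  classical
  haveI := S.Z.finite
  obtain ⟨U, hUa, hUn, hUnil, hreg, hfree⟩ := S.Z.exists_kernel S.a
  have hle : S.H ≤ U := by
    intro u hu
    rcases eq_or_ne u 1 with rfl | hu1
    · exact one_mem _
    · exact hfree u (S.hHa hu) fun y hy he => hy (S.hHfix u hu hu1 y he)
  have hcard : Nat.card U + 1 = Fintype.card Ω := by
    have e1 : U ≃ {y : Ω // y ≠ S.a} := by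
      refine Equiv.ofBijective (fun u => ⟨(u : G) • S.b, fun h => S.hab ?_⟩) ⟨?_, ?_⟩
      · have h' : (u : G) • S.b = (u : G) • S.a := h.trans (hUa u.2).symm
        exact (smul_left_cancel _ h').symm
      · intro u v huv
        have h' := congrArg Subtype.val huv
        exact (hreg S.b ((v : G) • S.b) S.hab.symm (fun h => S.hab
          (smul_left_cancel _ ((hUa v.2).trans h.symm)))).unique h' rfl
      · rintro ⟨y, hy⟩
        obtain ⟨u, hu, -⟩ := hreg S.b y S.hab.symm hy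
        exact ⟨u, Subtype.ext hu⟩
    rw [Nat.card_congr e1, Nat.card_eq_fintype_card, Fintype.card_subtype_compl,
      Fintype.card_subtype_eq]
    have : 0 < Fintype.card Ω := Fintype.card_pos_iff.2 ⟨S.a⟩
    omega
  have := Subgroup.eq_of_le_of_card_ge hle (by have := S.hHcard; omega)
  exact ⟨U, this, hUn, hUnil, hreg, hfree⟩

lemma conj_mem_H {g : G} (hg : g ∈ S.N) {u : G} (hu : u ∈ S.H) : g * u * g⁻¹ ∈ S.H := by
  obtain ⟨U, hU, hn, -⟩ := S.H_eq_kernel
  rw [hU] at hu ⊢; exact hn g hg u hu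

lemma H_nilpotent : Group.IsNilpotent S.H := by
  obtain ⟨U, hU, -, hn, -⟩ := S.H_eq_kernel
  rw [hU]; exact hn

lemma H_regular {y z : Ω} (hy : y ≠ S.a) (hz : z ≠ S.a) : ∃! u : S.H, (u : G) • y = z := by
  obtain ⟨U, hU, -, -, hr, -⟩ := S.H_eq_kernel
  subst hU
  exact hr y z hy hz

lemma mem_H_of_free {g : G} (hg : g ∈ S.N) (hf : ∀ y, g • y = y → y = S.a) : g ∈ S.H := by
  obtain ⟨U, hU, -, -, -, hfree⟩ := S.H_eq_kernel
  rw [hU]; exact hfree g hg fun y hy he => hy (hf y he)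

include S in
lemma eq_of_fix_three {g : G} (hg : g ≠ 1) {x y z : Ω} (hxy : x ≠ y) (hx : g • x = x) (hy : g • y = y)
    (hz : g • z = z) : z = x ∨ z = y := by
  by_contra h
  push Not at h
  exact hg (S.Z.three g x y z hxy h.2.symm h.1.symm hx hy hz)

lemma eq_of_mem_D_of_fix {d : G} (hd : d ∈ S.D) (hd1 : d ≠ 1) {z : Ω} (hz : d • z = z) :
    z = S.a ∨ z = S.b := S.eq_of_fix_three hd1 S.hab hd.1 hd.2 hz

lemma inf_H_D {x : G} (hx : x ∈ S.H) (hxd : x ∈ S.D) : x = 1 := by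
  by_contra h1
  exact S.hab (S.hHfix x hx h1 S.b hxd.2).symm

lemma two_le_h : 2 ≤ S.h := by
  classical
  obtain ⟨c, hca, hcb⟩ := S.Z.exists_move S.hab
  have h3 : 3 ≤ Fintype.card Ω := by
    have h := Finset.card_le_univ ({S.a, S.b, c} : Finset Ω)
    rw [Finset.card_eq_three.2 ⟨S.a, S.b, c, S.hab, hca.symm, hcb.symm, rfl⟩] at h
    exact h
  have := S.card_omega
  omega

lemma exists_H_ne_one : ∃ u ∈ S.H, u ≠ 1 := by
  by_contra h
  push Not at h
  have : S.H = ⊥ := (Subgroup.eq_bot_iff_forall _).2 h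
  have h2 := S.two_le_h
  rw [ZSetup.h, this, Subgroup.card_bot] at h2
  omega

lemma exists_D_ne_one : ∃ d ∈ S.D, d ≠ 1 := by
  haveI := S.Z.finite
  obtain ⟨d, hd, ha, hb⟩ := S.Z.exists_fix S.hab
  exact ⟨d, ⟨ha, hb⟩, hd⟩

lemma two_le_e : 2 ≤ S.e := by
  haveI := S.Z.finite
  obtain ⟨d, hd, hd1⟩ := S.exists_D_ne_one
  haveI : Nontrivial S.D := ⟨⟨⟨d, hd⟩, 1, fun h => hd1 (congrArg Subtype.val h)⟩⟩
  have := Finite.one_lt_card (α := S.D)
  exact this

/-- The unique element of `H` moving `b` to `y`. -/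
lemma exists_H_smul_b {y : Ω} (hy : y ≠ S.a) : ∃ u ∈ S.H, u • S.b = y := by
  obtain ⟨u, hu, -⟩ := S.H_regular S.hab.symm hy
  exact ⟨u, u.2, hu⟩

lemma smul_b_ne_a {g : G} (hg : g ∈ S.N) : g • S.b ≠ S.a := fun h =>
  S.hab (smul_left_cancel g ((S.mem_N.1 hg).trans h.symm))

/-- An element of the stabiliser of `a` outside `H` is conjugate under `H` into `D`. -/
lemma exists_conj_mem_D {n : G} (hn : n ∈ S.N) (hnH : n ∉ S.H) :
    ∃ x ∈ S.H, x⁻¹ * n * x ∈ S.D ∧ x⁻¹ * n * x ≠ 1 := by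
  obtain ⟨y, hy, hya⟩ : ∃ y, n • y = y ∧ y ≠ S.a := by
    by_contra hc
    push Not at hc
    exact hnH (S.mem_H_of_free hn hc)
  obtain ⟨x, hx, rfl⟩ := S.exists_H_smul_b hya
  refine ⟨x, hx, ⟨?_, ?_⟩, ?_⟩
  · show x⁻¹ * n * x ∈ S.N
    exact mul_mem (mul_mem (inv_mem (S.hHa hx)) hn) (S.hHa hx)
  · show (x⁻¹ * n * x) • S.b = S.b
    rw [mul_smul, mul_smul, hy, inv_smul_smul]
  · intro h1
    have : n = 1 := by
      have h2 : x * (x⁻¹ * n * x) * x⁻¹ = n := by group
      rw [← h2, h1]; group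
    exact hnH (this ▸ one_mem _)

/-- `N` is the product of `H` and `D`. -/
noncomputable def stabEquiv : S.H × S.D ≃ S.N :=
  Equiv.ofBijective (fun p => ⟨(p.1 : G) * p.2, mul_mem (S.hHa p.1.2) p.2.2.1⟩) (by
    constructor
    · rintro ⟨u, d⟩ ⟨v, f⟩ h
      have h' : (u : G) * d = (v : G) * f := congrArg Subtype.val h
      have h1 : (v : G)⁻¹ * u = f * (d : G)⁻¹ := by
        rw [eq_mul_inv_iff_mul_eq, mul_assoc, h', inv_mul_cancel_left]
      have h2 : (v : G)⁻¹ * u = 1 :=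
        S.inf_H_D (mul_mem (inv_mem v.2) u.2) (h1 ▸ mul_mem f.2 (inv_mem d.2))
      have huv : u = v := Subtype.ext (inv_mul_eq_one.1 h2).symm
      subst huv
      exact Prod.ext rfl (Subtype.ext (mul_left_cancel h'))
    · rintro ⟨n, hn⟩
      obtain ⟨u, hu, hub⟩ := S.exists_H_smul_b (S.smul_b_ne_a hn)
      have hmem : u⁻¹ * n ∈ S.N := mul_mem (inv_mem (S.hHa hu)) hn
      refine ⟨(⟨u, hu⟩, ⟨u⁻¹ * n, hmem, ?_⟩), Subtype.ext ?_⟩
      · show (u⁻¹ * n) • S.b = S.b
        rw [mul_smul, ← hub, inv_smul_smul]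
      · show u * (u⁻¹ * n) = n
        rw [mul_inv_cancel_left])

lemma card_N : Nat.card S.N = S.h * S.e := by
  rw [← Nat.card_congr S.stabEquiv, Nat.card_prod]; rfl

lemma card_G : Nat.card G = (S.h + 1) * S.h * S.e := by
  haveI := S.Z.finite
  haveI : IsPretransitive G Ω := H7.ZHyp.transitive S.Z
  have h := (stabilizer G S.a).index_mul_card
  rw [index_stabilizer_of_transitive G S.a, Nat.card_eq_fintype_card, S.card_omega] at h
  have h2 := S.card_N
  rw [← h]
  change (S.h + 1) * Nat.card S.N = _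
  rw [h2, mul_assoc]

/-- An element conjugating a non-identity element of `H` into `H` fixes `a`. -/
lemma mem_N_of_conj_mem_H {g u : G} (hu : u ∈ S.H) (hu1 : u ≠ 1) (hgu : g * u * g⁻¹ ∈ S.H) :
    g ∈ S.N := by
  refine S.mem_N.2 (S.hHfix _ hgu (fun h => hu1 (conj_eq_one_iff.1 h)) (g • S.a) ?_)
  rw [mul_smul, inv_smul_smul, mul_smul, S.mem_N.1 (S.hHa hu)]

lemma normalizer_H : Subgroup.normalizer (S.H : Set G) = S.N := by
  haveI := S.Z.finite
  refine le_antisymm (fun g hg => ?_) (fun g hg => ?_)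
  · obtain ⟨u, hu, hu1⟩ := S.exists_H_ne_one
    exact S.mem_N_of_conj_mem_H hu hu1 ((Subgroup.mem_normalizer_iff.1 hg u).1 hu)
  · refine Subgroup.mem_normalizer_iff.2 fun u => ⟨fun hu => S.conj_mem_H hg hu, fun hu => ?_⟩
    have := S.conj_mem_H (inv_mem hg) hu
    simpa [mul_assoc] using this

/-- An element conjugating a non-identity element of `D` into `D` preserves `{a, b}`. -/
lemma pair_of_conj_mem_D {g x : G} (hx : x ∈ S.D) (hx1 : x ≠ 1) (hgx : g * x * g⁻¹ ∈ S.D) :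
    (g • S.a = S.a ∧ g • S.b = S.b) ∨ (g • S.a = S.b ∧ g • S.b = S.a) := by
  have hne : g * x * g⁻¹ ≠ 1 := fun h => hx1 (conj_eq_one_iff.1 h)
  have ha : g • S.a = S.a ∨ g • S.a = S.b := S.eq_of_mem_D_of_fix hgx hne (by
    rw [mul_smul, inv_smul_smul, mul_smul, hx.1])
  have hb : g • S.b = S.a ∨ g • S.b = S.b := S.eq_of_mem_D_of_fix hgx hne (by
    rw [mul_smul, inv_smul_smul, mul_smul, hx.2])
  have hne2 : g • S.a ≠ g • S.b := fun h => S.hab (smul_left_cancel g h)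
  rcases ha with ha | ha <;> rcases hb with hb | hb
  · exact absurd (ha.trans hb.symm) hne2
  · exact Or.inl ⟨ha, hb⟩
  · exact Or.inr ⟨ha, hb⟩
  · exact absurd (ha.trans hb.symm) hne2

lemma mem_normalizer_D {g : G} : g ∈ Subgroup.normalizer (S.D : Set G) ↔
    (g • S.a = S.a ∧ g • S.b = S.b) ∨ (g • S.a = S.b ∧ g • S.b = S.a) := by
  refine ⟨fun hg => ?_, fun hg => Subgroup.mem_normalizer_iff.2 fun x => ?_⟩
  · obtain ⟨x, hx, hx1⟩ := S.exists_D_ne_one
    exact S.pair_of_conj_mem_D hx hx1 ((Subgroup.mem_normalizer_iff.1 hg x).1 hx)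
  · have key : ∀ z : Ω, (g * x * g⁻¹) • (g • z) = g • z ↔ x • z = z := fun z => by
      rw [mul_smul, inv_smul_smul, mul_smul, smul_left_cancel_iff]
    simp only [S.mem_D]
    rcases hg with ⟨ha, hb⟩ | ⟨ha, hb⟩
    · exact and_congr (by simpa [ha] using (key S.a).symm) (by simpa [hb] using (key S.b).symm)
    · rw [and_comm (a := (g * x * g⁻¹) • S.a = S.a)]
      exact and_congr (by simpa [ha] using (key S.a).symm) (by simpa [hb] using (key S.b).symm)

lemma D_le_normalizer : S.D ≤ Subgroup.normalizer (S.D : Set G) := Subgroup.le_normalizer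

/-- An element interchanging `a` and `b`. -/
noncomputable def w : G := (S.Z.two S.hab S.hab.symm).choose

lemma w_a : S.w • S.a = S.b := (S.Z.two S.hab S.hab.symm).choose_spec.1

lemma w_b : S.w • S.b = S.a := (S.Z.two S.hab S.hab.symm).choose_spec.2

lemma w_mem_normalizer : S.w ∈ Subgroup.normalizer (S.D : Set G) :=
  S.mem_normalizer_D.2 (Or.inr ⟨S.w_a, S.w_b⟩)

lemma w_not_mem_D : S.w ∉ S.D := fun h => S.hab (h.1.symm.trans S.w_a)

lemma mem_D_or_mul_w {g : G} (hg : g ∈ Subgroup.normalizer (S.D : Set G)) :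
    g ∈ S.D ∨ g * S.w ∈ S.D := by
  rcases S.mem_normalizer_D.1 hg with ⟨ha, hb⟩ | ⟨ha, hb⟩
  · exact Or.inl ⟨ha, hb⟩
  · exact Or.inr ⟨by show (g * S.w) • S.a = S.a; rw [mul_smul, S.w_a, hb],
      by show (g * S.w) • S.b = S.b; rw [mul_smul, S.w_b, ha]⟩

lemma index_D_normalizer :
    (S.D.subgroupOf (Subgroup.normalizer (S.D : Set G))).index = 2 := by
  rw [Subgroup.index_eq_two_iff]
  refine ⟨⟨S.w, S.w_mem_normalizer⟩, fun g => ?_⟩
  rcases S.mem_D_or_mul_w g.2 with h | h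
  · refine Or.inr ⟨h, fun h' => S.w_not_mem_D ?_⟩
    have h'' : (g : G) * S.w ∈ S.D := h'
    simpa using mul_mem (inv_mem h) h''
  · refine Or.inl ⟨h, fun h' => S.w_not_mem_D ?_⟩
    have h'' : (g : G) ∈ S.D := h'
    simpa using mul_mem (inv_mem h'') h

/-- `D` acts without fixed points on `H`. -/
lemma fpf {d u : G} (hd : d ∈ S.D) (hd1 : d ≠ 1) (hu : u ∈ S.H) (hc : d * u = u * d) : u = 1 := by
  by_contra hu1
  have h : d • (u • S.b) = u • S.b := by rw [← mul_smul, hc, mul_smul, hd.2]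
  rcases S.eq_of_mem_D_of_fix hd hd1 h with h' | h'
  · exact S.smul_b_ne_a (S.hHa hu) h'
  · exact S.hab (S.hHfix u hu hu1 S.b h').symm

lemma e_dvd_h_sub_one : S.h ≡ 1 [MOD S.e] := by
  haveI := S.Z.finite
  have hfc := H7.ZHyp.fc S.Z S.hab
  have h1 := H21.index_modEq_one hfc
  have hc : Nat.card ((stabilizer G S.b).subgroupOf S.N) = S.e := by
    rw [ZSetup.e]
    refine Nat.card_congr
      { toFun := fun x => ⟨(x.1 : G), x.1.2, x.2⟩
        invFun := fun x => ⟨⟨(x : G), x.2.1⟩, x.2.2⟩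
        left_inv := fun _ => rfl
        right_inv := fun _ => rfl }
  have hi : ((stabilizer G S.b).subgroupOf S.N).index = S.h := by
    have := ((stabilizer G S.b).subgroupOf S.N).index_mul_card
    rw [hc, S.card_N] at this
    exact Nat.eq_of_mul_eq_mul_right (by have := S.two_le_e; omega) this
  rw [hc, hi] at h1
  exact h1

lemma e_dvd_pred_h : S.e ∣ S.h - 1 :=
  (Nat.modEq_iff_dvd' (by have := S.two_le_h; omega)).1 S.e_dvd_h_sub_one.symm

lemma e_lt_h : S.e < S.h := by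
  have h1 := Nat.le_of_dvd (by have := S.two_le_h; omega) S.e_dvd_pred_h
  have := S.two_le_h
  omega

end ZSetup

/-- Every pair of points of a Zassenhaus group gives a setup. -/
theorem exists_zsetup {G Ω : Type*} [Group G] [MulAction G Ω] [Fintype Ω] (Z : H7.ZHyp G Ω)
    {a b : Ω} (hab : a ≠ b) : ∃ S : ZSetup G Ω, S.a = a ∧ S.b = b := by
  classical
  obtain ⟨U, hUa, -, -, hreg, -⟩ := Z.exists_kernel a
  have hfix : ∀ u ∈ U, u ≠ 1 → ∀ c : Ω, u • c = c → c = a := fun u hu hu1 c hc => by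
    by_contra hca
    exact hu1 (congrArg Subtype.val
      ((hreg c c hca hca).unique (y₁ := ⟨u, hu⟩) (y₂ := 1) hc (one_smul G c)))
  have e1 : Nat.card U = Nat.card {y : Ω // y ≠ a} := by
    refine Nat.card_eq_of_bijective (fun u => ⟨(u : G) • b, fun h => hab ?_⟩) ⟨?_, ?_⟩
    · exact (smul_left_cancel (u : G) (h.trans (mem_stabilizer_iff.1 (hUa u.2)).symm)).symm
    · intro u v huv
      exact (hreg b ((v : G) • b) hab.symm (fun h => hab (smul_left_cancel (v : G)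
        ((mem_stabilizer_iff.1 (hUa v.2)).trans h.symm)))).unique (congrArg Subtype.val huv) rfl
    · rintro ⟨y, hy⟩
      obtain ⟨u, hu, -⟩ := hreg b y hab.symm hy
      exact ⟨u, Subtype.ext hu⟩
  refine ⟨⟨a, b, hab, Z, U, hUa, ?_, hfix⟩, rfl, rfl⟩
  rw [e1, Nat.card_eq_fintype_card, Fintype.card_subtype_compl, Fintype.card_subtype_eq]
  have : 0 < Fintype.card Ω := Fintype.card_pos_iff.2 ⟨a⟩
  omega

end Cfsg.Agent.H39
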