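import Cfsg.Agent.H39.ZassSetup
import Cfsg.Agent.H22.FocalTransfer
import Mathlib.GroupTheory.SpecificGroups.ZGroup

/-!
# Simple Zassenhaus groups with two point stabiliser of odd order

The two point stabiliser is abelian and inverted by every element exchanging the two points.
-/

set_option autoImplicit false

namespace Cfsg.Agent.H39

open MulAction
open scoped commutatorElement

namespace ZSetup

variable {G Ω : Type*} [Group G] [MulAction G Ω] [Fintype Ω] (S : ZSetup G Ω)

lemma mul_w_inv_mem_D {g : G} (ha : g • S.a = S.b) (hb : g • S.b = S.a) : g * S.w⁻¹ ∈ S.D := by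
  refine S.mem_D.2 ⟨?_, ?_⟩
  · rw [mul_smul, inv_smul_eq_iff.2 S.w_b.symm, hb]
  · rw [mul_smul, inv_smul_eq_iff.2 S.w_a.symm, ha]

lemma w_sq_mem_D : S.w * S.w ∈ S.D :=
  S.mem_D.2 ⟨by rw [mul_smul, S.w_a, S.w_b], by rw [mul_smul, S.w_b, S.w_a]⟩

lemma conj_w_mem_D {x : G} (hx : x ∈ S.D) : S.w * x * S.w⁻¹ ∈ S.D :=
  (Subgroup.mem_normalizer_iff.1 S.w_mem_normalizer x).1 hx

/-- The conjugation of `D` by `w`. -/
noncomputable def sigma : S.D →* S.D where
  toFun x := ⟨S.w * x * S.w⁻¹, S.conj_w_mem_D x.2⟩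
  map_one' := Subtype.ext (by simp)
  map_mul' x y := Subtype.ext (by push_cast; group)

lemma coe_sigma (x : S.D) : (S.sigma x : G) = S.w * x * S.w⁻¹ := rfl

include S in
lemma nonabelian : ∃ x y : G, x * y ≠ y * x := by
  by_contra hc
  push Not at hc
  obtain ⟨u, hu, hu1⟩ := S.exists_H_ne_one
  obtain ⟨d, hd, hd1⟩ := S.exists_D_ne_one
  exact hu1 (S.fpf hd hd1 hu (hc d u))

include S in
lemma commutator_eq_top [IsSimpleGroup G] : commutator G = ⊤ := by
  rcases (inferInstance : (commutator G).Normal).eq_bot_or_eq_top with h | h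
  · exfalso
    obtain ⟨x, y, hxy⟩ := S.nonabelian
    refine hxy (commutatorElement_eq_one_iff_mul_comm.1 ?_)
    rw [← Subgroup.mem_bot, ← h]
    exact Subgroup.commutator_mem_commutator (Subgroup.mem_top x) (Subgroup.mem_top y)
  · exact h

/-- `D` is a Hall subgroup. -/
lemma coprime_index_D (hodd : Odd S.e) : Nat.Coprime S.D.index S.e := by
  haveI := S.finite
  have hi : S.D.index = (S.h + 1) * S.h := by
    have := S.D.index_mul_card
    rw [S.card_G] at this
    exact Nat.eq_of_mul_eq_mul_right (Nat.card_pos) this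
  rw [hi]
  have h1 := S.e_dvd_h_sub_one
  refine Nat.Coprime.mul_left ?_ ?_
  · have h2 : S.h + 1 ≡ 2 [MOD S.e] := h1.add_right 1
    rw [Nat.Coprime, h2.gcd_eq]
    exact Nat.coprime_two_left.2 hodd
  · rw [Nat.Coprime, h1.gcd_eq]
    simp

lemma zGroup_D (hodd : Odd S.e) : IsZGroup S.D := by
  haveI := S.finite
  obtain ⟨u, hu, hu1⟩ := S.exists_H_ne_one
  haveI : Nontrivial S.H := ⟨⟨⟨u, hu⟩, 1, fun h => hu1 (congrArg Subtype.val h)⟩⟩
  have hn : S.D ≤ Subgroup.normalizer (S.H : Set G) := by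
    rw [S.normalizer_H]; exact inf_le_left
  have hfpf := H21.conjHom_fpf hn fun d hd hd1 => (Subgroup.eq_bot_iff_forall _).2 fun v hv =>
    S.fpf hd hd1 hv.1 (Subgroup.mem_centralizer_singleton_iff.1 hv.2).symm
  refine ⟨fun p hp P => ?_⟩
  haveI := Fact.mk hp
  rcases H21.cyclic_or_quaternion p P.2 (H21.unique_subgroup_of_fpf P.2
    ((H21.conjHom hn).comp P.1.subtype) fun x hx k hk => hfpf x (by simpa using hx) k hk) with
    h | ⟨rfl, n, ⟨eqv⟩⟩
  · exact h
  · exfalso
    have h2 : 2 ∣ Nat.card (P : Subgroup S.D) := by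
      rw [Nat.card_congr eqv.toEquiv, Nat.card_eq_fintype_card, QuaternionGroup.card]
      exact dvd_mul_of_dvd_left (by norm_num) _
    exact hodd.not_two_dvd_nat (h2.trans P.1.card_subgroup_dvd_card)

variable [IsSimpleGroup G]

lemma sigma_inverts_abelianization (hodd : Odd S.e) (x : S.D) :
    Abelianization.of (S.sigma x) = (Abelianization.of x)⁻¹ := by
  haveI := S.finite
  classical
  haveI : Finite (Abelianization S.D) := Finite.of_surjective _ (QuotientGroup.mk'_surjective (commutator S.D))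
  set A := Abelianization S.D
  let τ : A →* A := Abelianization.map S.sigma
  let f : A →* A := MonoidHom.id A * τ⁻¹
  have hf : ∀ y, f y = y * (τ y)⁻¹ := fun y => rfl
  have hfocal : S.D ≤ ⁅S.D, Subgroup.normalizer (S.D : Set G)⁆ := by
    have h1 := H22.commutator_inf_eq_focal S.D
      ((S.coprime_index_D hodd).coprime_dvd_right (Subgroup.relIndex_dvd_card _ _))
    rw [S.commutator_eq_top, top_inf_eq] at h1
    refine h1.le.trans (H22.focalSubgroup_le_commutator_of_controls _ _ fun y hy g hg => ?_)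
    rcases eq_or_ne y 1 with rfl | hy1
    · exact ⟨1, one_mem _, by simp⟩
    · exact ⟨g, S.mem_normalizer_D.2 (S.pair_of_conj_mem_D hy hy1 hg), rfl⟩
  have hle : ⁅S.D, Subgroup.normalizer (S.D : Set G)⁆ ≤
      (f.range.comap Abelianization.of).map S.D.subtype := by
    refine Subgroup.commutator_le.2 fun y hy n hn => ?_
    rcases S.mem_normalizer_D.1 hn with ⟨ha, hb⟩ | ⟨ha, hb⟩
    · let y' : S.D := ⟨y, hy⟩
      let n' : S.D := ⟨n, ha, hb⟩
      refine ⟨⁅y', n'⁆, ?_, rfl⟩
      show Abelianization.of ⁅y', n'⁆ ∈ f.range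
      rw [map_commutatorElement, commutatorElement_eq_one_iff_mul_comm.2 (mul_comm _ _)]
      exact one_mem _
    · let y' : S.D := ⟨y, hy⟩
      let d : S.D := ⟨n * S.w⁻¹, S.mul_w_inv_mem_D ha hb⟩
      refine ⟨y' * d * (S.sigma y')⁻¹ * d⁻¹, ?_, ?_⟩
      · refine ⟨Abelianization.of y', ?_⟩
        rw [hf]
        simp only [map_mul, map_inv]
        show Abelianization.of y' * (Abelianization.of (S.sigma y'))⁻¹ = _
        rw [mul_right_comm (Abelianization.of y'), mul_assoc, mul_inv_cancel, mul_one]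
      · show y * (n * S.w⁻¹) * (S.w * y * S.w⁻¹)⁻¹ * (n * S.w⁻¹)⁻¹ = ⁅y, n⁆
        rw [commutatorElement_def]
        group
  have hsurj : Function.Surjective f := by
    intro q
    obtain ⟨z, rfl⟩ := QuotientGroup.mk'_surjective (commutator S.D) q
    obtain ⟨z', hz', he⟩ := (hfocal.trans hle) z.2
    obtain rfl : z' = z := Subtype.ext he
    exact hz'
  have hinj := Finite.injective_iff_surjective.2 hsurj
  have hfix : MonoidHom.FixedPointFree τ := fun q hq => hinj (by rw [hf, hq, mul_inv_cancel, map_one])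
  have hinv : Function.Involutive τ := by
    intro q
    obtain ⟨z, rfl⟩ := QuotientGroup.mk'_surjective (commutator S.D) q
    show Abelianization.of (S.sigma (S.sigma z)) = Abelianization.of z
    have h : S.sigma (S.sigma z) = ⟨_, S.w_sq_mem_D⟩ * z * (⟨_, S.w_sq_mem_D⟩ : S.D)⁻¹ :=
      Subtype.ext (by
        show S.w * (S.w * z * S.w⁻¹) * S.w⁻¹ = S.w * S.w * z * (S.w * S.w)⁻¹
        group)
    rw [h, map_mul, map_mul, map_inv, mul_right_comm, mul_inv_cancel, one_mul]
  exact congrFun (MonoidHom.FixedPointFree.coe_eq_inv_of_involutive hfix hinv) (Abelianization.of x)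

/-- The two point stabiliser is commutative and inverted by `w`. -/
lemma D_abelian (hodd : Odd S.e) :
    (∀ x ∈ S.D, ∀ y ∈ S.D, x * y = y * x) ∧ ∀ x ∈ S.D, S.w * x * S.w⁻¹ = x⁻¹ := by
  haveI := S.finite
  haveI := S.zGroup_D hodd
  haveI hcyc : IsCyclic (commutator S.D) := IsZGroup.isCyclic_commutator S.D
  set C := commutator S.D with hC
  have hm : ∀ c : S.D, c * S.sigma c ∈ C := fun c => by
    rw [hC, ← Abelianization.ker_of S.D, MonoidHom.mem_ker, map_mul,
      S.sigma_inverts_abelianization hodd, mul_inv_cancel]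
  have hpow : ∀ c : S.D, ∃ k : ℤ, ∀ x ∈ C, c * x * c⁻¹ = x ^ k := fun c => by
    obtain ⟨k, hk⟩ := MonoidHom.map_cyclic
      (MulAut.conjNormal (H := C) c).toMonoidHom
    refine ⟨k, fun x hx => ?_⟩
    have h := congrArg Subtype.val (hk ⟨x, hx⟩)
    simpa using h
  have hsC : ∀ x ∈ C, S.sigma x ∈ C := fun x hx => by
    rw [hC, ← Abelianization.ker_of S.D, MonoidHom.mem_ker] at hx ⊢
    rw [S.sigma_inverts_abelianization hodd, hx, inv_one]
  have hsurjC : ∀ x ∈ C, ∃ y ∈ C, S.sigma y = x := fun x hx => by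
    let s : C → C := fun y => ⟨S.sigma y, hsC y y.2⟩
    have hinj : Function.Injective s := fun y z h => by
      have h' : S.w * (y : G) * S.w⁻¹ = S.w * (z : G) * S.w⁻¹ :=
        congrArg (fun t : C => ((t : S.D) : G)) h
      exact Subtype.ext (Subtype.ext (mul_left_cancel (mul_right_cancel h')))
    obtain ⟨y, hy⟩ := Finite.surjective_of_injective hinj ⟨x, hx⟩
    exact ⟨y, y.2, congrArg Subtype.val hy⟩
  have hcommC : ∀ x ∈ C, ∀ y ∈ C, x * y = y * x := fun x hx y hy => by
    obtain ⟨g, hg⟩ := hcyc.exists_generator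
    obtain ⟨i, hi⟩ := hg ⟨x, hx⟩
    obtain ⟨j, hj⟩ := hg ⟨y, hy⟩
    have h := congrArg Subtype.val (zpow_mul_comm g i j)
    simp only at hi hj
    rw [Subgroup.coe_mul, Subgroup.coe_mul, hi, hj] at h
    exact h
  have hcentral : ∀ c : S.D, ∀ x ∈ C, c * x = x * c := by
    intro c x hx
    obtain ⟨k, hk⟩ := hpow c
    have h1 : ∀ z ∈ C, S.sigma c * z * (S.sigma c)⁻¹ = c * z * c⁻¹ := fun z hz => by
      obtain ⟨y, hy, rfl⟩ := hsurjC z hz
      rw [← map_inv, ← map_mul, ← map_mul, hk y hy, map_zpow, hk _ hz]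
    have h2 : ∀ z ∈ C, c⁻¹ * z * c = c * z * c⁻¹ := fun z hz => by
      have e1 : S.sigma c = c⁻¹ * (c * S.sigma c) := (inv_mul_cancel_left _ _).symm
      have e2 : (c * S.sigma c) * z * (c * S.sigma c)⁻¹ = z := by
        rw [hcommC _ (hm c) z hz, mul_inv_cancel_right]
      rw [← h1 z hz, e1]
      calc c⁻¹ * z * c = c⁻¹ * ((c * S.sigma c) * z * (c * S.sigma c)⁻¹) * c := by rw [e2]
        _ = _ := by group
    have h3 : Commute (c ^ 2) x := by
      have h := h2 x hx
      show c ^ 2 * x = x * c ^ 2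
      calc c ^ 2 * x = c * (c * x * c⁻¹) * c := by rw [sq]; group
        _ = c * (c⁻¹ * x * c) * c := by rw [h]
        _ = x * c ^ 2 := by rw [sq]; group
    obtain ⟨j, hj⟩ := exists_pow_eq_self_of_coprime (x := c) (n := 2)
      ((Nat.coprime_two_left.2 hodd).coprime_dvd_right (orderOf_dvd_natCard c))
    rw [← hj]
    exact (h3.pow_left j).eq
  have hker : (Abelianization.of : S.D →* Abelianization S.D).ker ≤ Subgroup.center S.D := by
    rw [Abelianization.ker_of]
    exact fun x hx => Subgroup.mem_center_iff.2 fun c => hcentral c x hx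
  have hcomm : ∀ x y : S.D, x * y = y * x := fun x y =>
    commutative_of_cyclic_center_quotient (Abelianization.of : S.D →* Abelianization S.D) hker x y
  refine ⟨fun x hx y hy => congrArg Subtype.val (hcomm ⟨x, hx⟩ ⟨y, hy⟩), fun x hx => ?_⟩
  have h := hm ⟨x, hx⟩
  have hbot : C = ⊥ := by
    refine (Subgroup.eq_bot_iff_forall _).2 fun z hz => ?_
    have : C ≤ ⊥ := by
      rw [hC, commutator_def, Subgroup.commutator_le]
      exact fun p _ q _ => Subgroup.mem_bot.2 (commutatorElement_eq_one_iff_mul_comm.2 (hcomm p q))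
    exact Subgroup.mem_bot.1 (this hz)
  rw [hbot, Subgroup.mem_bot] at h
  exact eq_inv_of_mul_eq_one_right (congrArg Subtype.val h)

/-- Every element exchanging `a` and `b` is an involution inverting `D`. -/
lemma swapper (hodd : Odd S.e) {g : G} (ha : g • S.a = S.b) (hb : g • S.b = S.a) :
    g * g = 1 ∧ g ≠ 1 ∧ ∀ x ∈ S.D, g * x * g⁻¹ = x⁻¹ := by
  haveI := S.finite
  obtain ⟨hcomm, hinv⟩ := S.D_abelian hodd
  set d := g * S.w⁻¹ with hd'
  have hd : d ∈ S.D := S.mul_w_inv_mem_D ha hb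
  have hg : g = d * S.w := by rw [hd', inv_mul_cancel_right]
  have hgx : ∀ x ∈ S.D, g * x * g⁻¹ = x⁻¹ := fun x hx => by
    have : g * x * g⁻¹ = d * (S.w * x * S.w⁻¹) * d⁻¹ := by rw [hg]; group
    rw [this, hinv x hx, hcomm d hd _ (inv_mem hx), mul_inv_cancel_right]
  have hgg : g * g ∈ S.D :=
    S.mem_D.2 ⟨by rw [mul_smul, ha, hb], by rw [mul_smul, hb, ha]⟩
  refine ⟨?_, fun h => S.hab (by rw [h, one_smul] at ha; exact ha), hgx⟩
  have h4 : (g * g) * (g * g) = 1 := by
    have h := hgx _ hgg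
    rw [mul_assoc g (g * g) g⁻¹, mul_assoc g g g⁻¹, mul_inv_cancel, mul_one] at h
    exact mul_eq_one_iff_eq_inv.2 h
  have hsub : (⟨g * g, hgg⟩ : S.D) ^ 2 = 1 := Subtype.ext (by rw [sq]; exact h4)
  have hord : orderOf (⟨g * g, hgg⟩ : S.D) = 1 :=
    Nat.eq_one_of_dvd_coprimes (Nat.coprime_two_left.2 hodd) (orderOf_dvd_of_pow_eq_one hsub)
      (orderOf_dvd_natCard _)
  exact congrArg Subtype.val (orderOf_eq_one_iff.1 hord)

/-- The centraliser of a non-identity element of `D` is `D`. -/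
lemma mem_D_of_commute (hodd : Odd S.e) {c d : G} (hd : d ∈ S.D) (hd1 : d ≠ 1)
    (h : c * d = d * c) : c ∈ S.D := by
  haveI := S.finite
  rcases S.pair_of_conj_mem_D hd hd1 (g := c) (by rwa [h, mul_inv_cancel_right]) with hc | ⟨ha, hb⟩
  · exact hc
  · exfalso
    have h2 := (S.swapper hodd ha hb).2.2 d hd
    rw [h, mul_inv_cancel_right] at h2
    have hsub : (⟨d, hd⟩ : S.D) ^ 2 = 1 :=
      Subtype.ext (by rw [sq]; exact mul_eq_one_iff_eq_inv.2 h2)
    have hord : orderOf (⟨d, hd⟩ : S.D) = 1 :=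
      Nat.eq_one_of_dvd_coprimes (Nat.coprime_two_left.2 hodd) (orderOf_dvd_of_pow_eq_one hsub)
        (orderOf_dvd_natCard _)
    exact hd1 (congrArg Subtype.val (orderOf_eq_one_iff.1 hord))

omit [IsSimpleGroup G] in
/-- The centraliser of a non-identity element of `H` lies in `H`. -/
lemma mem_H_of_commute {c u : G} (hu : u ∈ S.H) (hu1 : u ≠ 1) (h : c * u = u * c) : c ∈ S.H := by
  have hc : c ∈ S.N := S.mem_N_of_conj_mem_H hu hu1 (by rwa [h, mul_inv_cancel_right])
  by_contra hcH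
  obtain ⟨x, hx, hxd, hx1⟩ := S.exists_conj_mem_D hc hcH
  have hu' : x⁻¹ * u * x ∈ S.H := mul_mem (mul_mem (inv_mem hx) hu) hx
  have h' : (x⁻¹ * c * x) * (x⁻¹ * u * x) = (x⁻¹ * u * x) * (x⁻¹ * c * x) := by
    calc _ = x⁻¹ * (c * u) * x := by group
      _ = x⁻¹ * (u * c) * x := by rw [h]
      _ = _ := by group
  refine hu1 ?_
  have := S.fpf hxd hx1 hu' h'
  calc u = x * (x⁻¹ * u * x) * x⁻¹ := by group
    _ = 1 := by rw [this]; group

end ZSetup

end Cfsg.Agent.H39
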